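import Groth.Agent.NodeFam.Ext
import Groth.Agent.VarDim.IrredFibres
import Groth.Agent.S2805

/-!
# Nodal curves and nodal families under étale maps
-/

set_option autoImplicit false
set_option backward.isDefEq.respectTransparency false
set_option backward.isDefEq.respectTransparency.types false
set_option linter.style.haveILetI false
set_option linter.unusedSectionVars false

universe u

open CategoryTheory CategoryTheory.Limits AlgebraicGeometry

namespace Groth.Agent.NodeFam

noncomputable section

variable {k : Type u} [Field k] {X Y : Scheme.{u}}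

/-- A curve with at worst nodal singularities. -/
def NodalCurve (f : X ⟶ Spec (CommRingCat.of k)) : Prop :=
  (∀ Z ∈ irreducibleComponents (X : Type u), topologicalKrullDim Z = 1) ∧
    ∀ x : X, IsClosed ({x} : Set X) →
      (∃ U : X.Opens, x ∈ U ∧ Smooth (U.ι ≫ f)) ∨ NodeVia (AlgebraicClosure k) f x

theorem isNodalFamily_iff {S : Scheme.{u}} (f : X ⟶ S) : Curv2.IsNodalFamily f ↔
    Flat f ∧ LocallyOfFinitePresentation f ∧
      ∀ s : S, NodalCurve (k := S.residueField s) (f.fiberToSpecResidueField s) := Iff.rfl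

/-- All components are curves iff all maximal points have transcendence degree one. -/
theorem comps_iff (f : X ⟶ Spec (CommRingCat.of k)) [LocallyOfFiniteType f] :
    (∀ Z ∈ irreducibleComponents (X : Type u), topologicalKrullDim Z = 1) ↔
      ∀ z : X, (∀ y, y ⤳ z → y = z) → Groth.Agent.VarDim.deg f z = 1 := by
  constructor
  · intro h z hz
    have h1 := h _ (Groth.Agent.VarDim.closure_mem_irreducibleComponents hz)
    rw [Groth.Agent.VarDim.topologicalKrullDim_closure_singleton f] at h1
    exact_mod_cast h1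
  · intro h Z hZ
    obtain ⟨z, rfl, hz⟩ := Groth.Agent.VarDim.exists_generic_of_component hZ
    rw [Groth.Agent.VarDim.topologicalKrullDim_closure_singleton f, h z hz]
    rfl

theorem deg_comp_etale (π : Y ⟶ X) [Etale π] (f : X ⟶ Spec (CommRingCat.of k)) [LocallyOfFiniteType f] (y : Y) :
    Groth.Agent.VarDim.deg (π ≫ f) y = Groth.Agent.VarDim.deg f (π y) := by
  rw [Groth.Agent.VarDim.deg_comp_eq π f y]
  suffices h : Groth.Agent.VarDim.fdeg π y = 0 by rw [h, add_zero]
  haveI : LocallyQuasiFinite π := MorLib.WT.locallyQuasiFinite_of_etale π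
  rw [← π.fiberι_asFiber y, ← Groth.Agent.VarDim.deg_fiber π (π y) (π.asFiber y)]
  exact (Groth.Agent.VarDim.closedPoint_iff_deg_eq_zero _ _).1 (isClosed_discrete _)

theorem maximal_of_etale (π : Y ⟶ X) [Etale π] {y : Y} (hy : ∀ w, w ⤳ y → w = y) :
    ∀ x, x ⤳ π y → x = π y := by
  intro x hx
  obtain ⟨w, hw, rfl⟩ := Flat.generalizingMap π hx
  rw [hy w hw]

theorem maximal_of_etale_image (π : Y ⟶ X) [Etale π] (f : X ⟶ Spec (CommRingCat.of k)) [LocallyOfFiniteType f]
    {y : Y} (hy : ∀ x, x ⤳ π y → x = π y) : ∀ w, w ⤳ y → w = y := by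
  intro w hw
  refine Groth.Agent.VarDim.eq_of_specializes_of_deg_le (π ≫ f) hw ?_
  rw [deg_comp_etale, deg_comp_etale, hy _ (hw.map π.continuous)]

/-- Nodal curves pull back along étale maps. -/
theorem NodalCurve.comp_etale {f : X ⟶ Spec (CommRingCat.of k)} [LocallyOfFiniteType f] (h : NodalCurve f)
    (π : Y ⟶ X) [Etale π] : NodalCurve (π ≫ f) := by
  refine ⟨(comps_iff (π ≫ f)).2 fun z hz => ?_, fun y hy => ?_⟩
  · rw [deg_comp_etale]
    exact (comps_iff f).1 h.1 _ (maximal_of_etale π hz)
  · rcases h.2 (π y) ((isClosed_iff_of_etale π f y).2 hy) with ⟨U, hU, hs⟩ | hn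
    · refine Or.inl ⟨π ⁻¹ᵁ U, hU, ?_⟩
      rw [← Category.assoc, ← morphismRestrict_ι π U, Category.assoc]
      infer_instance
    · exact Or.inr ((nodeVia_iff_of_etale (AlgebraicClosure k) π f _ rfl y).1 hn)

/-- Being a nodal curve is local for jointly surjective families of étale maps. -/
theorem nodalCurve_of_etale_cover (f : X ⟶ Spec (CommRingCat.of k)) [LocallyOfFiniteType f]
    (h : ∀ x : X, ∃ (U : Scheme.{u}) (π : U ⟶ X), Etale π ∧ x ∈ Set.range π ∧ NodalCurve (π ≫ f)) :
    NodalCurve f := by
  refine ⟨(comps_iff f).2 fun z hz => ?_, fun x hx => ?_⟩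
  · obtain ⟨U, π, hπ, ⟨y, rfl⟩, hn⟩ := h z
    haveI := hπ
    rw [← deg_comp_etale π f]
    exact (comps_iff (π ≫ f)).1 hn.1 y (maximal_of_etale_image π f hz)
  · obtain ⟨U, π, hπ, ⟨y, rfl⟩, hn⟩ := h x
    rcases hn.2 y ((isClosed_iff_of_etale π f y).1 hx) with hs | hnode
    · haveI : IsLocallyNoetherian X := LocallyOfFiniteType.isLocallyNoetherian f
      haveI : LocallyOfFinitePresentation f := inferInstance
      exact Or.inl (S2805.result f (π ≫ f) π rfl y (Flat.stalkMap π y) hs)
    · exact Or.inr ((nodeVia_iff_of_etale (AlgebraicClosure k) π f _ rfl y).2 hnode)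

/-- A nodal curve over a finite separable extension is one over the ground field. -/
theorem NodalCurve.comp_extMap {k' : Type u} [Field k'] [Algebra k k'] [FiniteDimensional k k']
    [Algebra.IsSeparable k k'] {f : X ⟶ Spec (CommRingCat.of k')} [LocallyOfFiniteType f] (h : NodalCurve f) :
    NodalCurve (f ≫ extMap k k') := by
  refine ⟨h.1, fun x hx => ?_⟩
  rcases h.2 x hx with ⟨U, hU, hs⟩ | hn
  · refine Or.inl ⟨U, hU, ?_⟩
    haveI : Etale (extMap k k') := by
      rw [HasRingHomProperty.Spec_iff (P := @Etale)]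
      haveI : Algebra.FormallyEtale k k' := Algebra.FormallyEtale.of_isSeparable k k'
      exact RingHom.etale_algebraMap.2
        (⟨inferInstance, Algebra.FinitePresentation.of_finiteType.1 inferInstance⟩ : Algebra.Etale k k')
    rw [← Category.assoc]
    infer_instance
  · exact Or.inr ((nodeVia_iff_of_separable f x).1 hn)

/-- The residue field extensions of an étale map are finite separable. -/
theorem S9566etale {S S' : Scheme.{u}} (e : S' ⟶ S) [Etale e] (s' : S') :
    letI : Algebra (S.residueField (e s')) (S'.residueField s') := (e.residueFieldMap s').hom.toAlgebra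
    Module.Finite (S.residueField (e s')) (S'.residueField s') ∧
      Algebra.IsSeparable (S.residueField (e s')) (S'.residueField s') :=
  ((StalkLoc7.stalkMap_formallyUnramified_iff e s').1 (FormallyUnramified.stalkMap _ _)).2

/-- The fibre of a composite with an étale map. -/
theorem isNodalFamily_precomp {S : Scheme.{u}} (f : X ⟶ S) (hf : Curv2.IsNodalFamily f) (g : Y ⟶ X) [Etale g] :
    Curv2.IsNodalFamily (g ≫ f) := by
  rw [isNodalFamily_iff] at hf ⊢
  obtain ⟨hflat, hlfp, hfib⟩ := hf
  haveI := hflat; haveI := hlfp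
  refine ⟨inferInstance, inferInstance, fun s => ?_⟩
  let m : (g ≫ f).fiber s ⟶ f.fiber s :=
    pullback.map _ _ _ _ g (𝟙 _) (𝟙 _) (by simp) (by simp)
  have hm2 : m ≫ pullback.snd f (S.fromSpecResidueField s) = pullback.snd (g ≫ f) (S.fromSpecResidueField s) :=
    (pullback.lift_snd _ _ _).trans (Category.comp_id _)
  have hsq : IsPullback m (pullback.fst (g ≫ f) (S.fromSpecResidueField s)) (pullback.fst f (S.fromSpecResidueField s)) g :=
    IsPullback.of_right (by rw [hm2]; exact (IsPullback.of_hasPullback (g ≫ f) (S.fromSpecResidueField s)).flip)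
      (pullback.lift_fst _ _ _) (IsPullback.of_hasPullback f (S.fromSpecResidueField s)).flip
  haveI : Etale m := MorphismProperty.of_isPullback (P := @Etale) hsq.flip ‹Etale g›
  haveI : LocallyOfFiniteType (f.fiberToSpecResidueField s) := inferInstance
  rw [show (g ≫ f).fiberToSpecResidueField s = m ≫ f.fiberToSpecResidueField s from hm2.symm]
  exact (hfib s).comp_etale (k := S.residueField s) m

/-- Being a nodal family is étale local on the source. -/
theorem isNodalFamily_of_cover {S : Scheme.{u}} (f : X ⟶ S) [Flat f] [LocallyOfFinitePresentation f]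
    (h : ∀ x : X, ∃ (U : Scheme.{u}) (π : U ⟶ X), Etale π ∧ x ∈ Set.range π ∧ Curv2.IsNodalFamily (π ≫ f)) :
    Curv2.IsNodalFamily f := by
  rw [isNodalFamily_iff]
  refine ⟨inferInstance, inferInstance, fun s => nodalCurve_of_etale_cover (k := S.residueField s) _ fun z => ?_⟩
  obtain ⟨U, π, hπ, ⟨u, hu⟩, hn⟩ := h (f.fiberι s z)
  let m : (π ≫ f).fiber s ⟶ f.fiber s :=
    pullback.map _ _ _ _ π (𝟙 _) (𝟙 _) (by simp) (by simp)
  have hm2 : m ≫ pullback.snd f (S.fromSpecResidueField s) = pullback.snd (π ≫ f) (S.fromSpecResidueField s) :=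
    (pullback.lift_snd _ _ _).trans (Category.comp_id _)
  have hsq : IsPullback m (pullback.fst (π ≫ f) (S.fromSpecResidueField s)) (pullback.fst f (S.fromSpecResidueField s)) π :=
    IsPullback.of_right (by rw [hm2]; exact (IsPullback.of_hasPullback (π ≫ f) (S.fromSpecResidueField s)).flip)
      (pullback.lift_fst _ _ _) (IsPullback.of_hasPullback f (S.fromSpecResidueField s)).flip
  haveI : Etale m := MorphismProperty.of_isPullback (P := @Etale) hsq.flip ‹Etale π›
  obtain ⟨z', hz', -⟩ := Scheme.exists_preimage_of_isPullback hsq z u hu.symm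
  refine ⟨_, m, ‹Etale m›, ⟨z', hz'⟩, ?_⟩
  have := ((isNodalFamily_iff _).1 hn).2.2 s
  rwa [show (π ≫ f).fiberToSpecResidueField s = m ≫ f.fiberToSpecResidueField s from hm2.symm] at this

/-- Composing with an étale map on the base keeps a family nodal. -/
theorem isNodalFamily_postcomp {S S' : Scheme.{u}} (e : S' ⟶ S) [Etale e] (f : X ⟶ S')
    (hf : Curv2.IsNodalFamily f) : Curv2.IsNodalFamily (f ≫ e) := by
  rw [isNodalFamily_iff] at hf ⊢
  obtain ⟨hflat, hlfp, hfib⟩ := hf
  haveI := hflat; haveI := hlfp
  refine ⟨inferInstance, inferInstance, fun s => nodalCurve_of_etale_cover (k := S.residueField s) _ fun z => ?_⟩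
  obtain ⟨s', hs⟩ : ∃ s', f ((f ≫ e).fiberι s z) = s' := ⟨_, rfl⟩
  have hes : e s' = s := by
    have : (f ≫ e).fiberι s z ∈ (f ≫ e) ⁻¹' {s} := by rw [← (f ≫ e).range_fiberι s]; exact ⟨z, rfl⟩
    rw [← hs]; exact this
  subst hes
  letI : Algebra (S.residueField (e s')) (S'.residueField s') := (e.residueFieldMap s').hom.toAlgebra
  obtain ⟨hfd, hsep⟩ := (S9566etale e s')
  haveI : FiniteDimensional (S.residueField (e s')) (S'.residueField s') := hfd
  haveI : Algebra.IsSeparable (S.residueField (e s')) (S'.residueField s') := hsep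
  let ext : Spec (S'.residueField s') ⟶ Spec (S.residueField (e s')) := Spec.map (e.residueFieldMap s')
  haveI : Etale (e.fiberToSpecResidueField (e s')) := inferInstance
  haveI : Etale ext := by
    rw [HasRingHomProperty.Spec_iff (P := @Etale)]
    haveI : Algebra.FormallyEtale (S.residueField (e s')) (S'.residueField s') :=
      Algebra.FormallyEtale.of_isSeparable _ _
    exact RingHom.etale_algebraMap.2 (⟨inferInstance, Algebra.FinitePresentation.of_finiteType.1 inferInstance⟩ :
      Algebra.Etale (S.residueField (e s')) (S'.residueField s'))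
  haveI : Etale (e.asFiberHom s') := by
    haveI : Etale (e.asFiberHom s' ≫ e.fiberToSpecResidueField (e s')) := by
      rw [e.asFiberHom_fiberToSpecResidueField]; infer_instance
    exact Etale.of_comp (e.asFiberHom s') (e.fiberToSpecResidueField (e s'))
  let m : f.fiber s' ⟶ (f ≫ e).fiber (e s') :=
    pullback.lift (f.fiberι s') (f.fiberToSpecResidueField s' ≫ ext) (by
      rw [← Category.assoc, f.fiber_fac, Category.assoc, Category.assoc,
        Scheme.Hom.SpecMap_residueFieldMap_fromSpecResidueField])
  let p : (f ≫ e).fiber (e s') ⟶ e.fiber (e s') :=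
    pullback.map _ _ _ _ f (𝟙 _) (𝟙 _) (by simp) (by simp)
  have hp : IsPullback (pullback.fst (f ≫ e) (S.fromSpecResidueField (e s'))) p f (e.fiberι (e s')) :=
    (IsPullback.of_right (by
      have h2 : p ≫ pullback.snd e (S.fromSpecResidueField (e s')) = pullback.snd (f ≫ e) (S.fromSpecResidueField (e s')) :=
        (pullback.lift_snd _ _ _).trans (Category.comp_id _)
      rw [h2]; exact (IsPullback.of_hasPullback (f ≫ e) (S.fromSpecResidueField (e s'))).flip)
      (pullback.lift_fst _ _ _) (IsPullback.of_hasPullback e (S.fromSpecResidueField (e s'))).flip).flip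
  have hmp : IsPullback m (f.fiberToSpecResidueField s') p (e.asFiberHom s') := by
    refine IsPullback.of_right ?_ ?_ hp
    · rw [pullback.lift_fst, e.asFiberHom_fiberι]
      exact IsPullback.of_hasPullback f (S'.fromSpecResidueField s')
    · apply pullback.hom_ext
      · rw [Category.assoc, pullback.lift_fst, ← Category.assoc, pullback.lift_fst, Category.assoc]
        exact (f.fiber_fac s').trans (congrArg _ (e.asFiberHom_fiberι s')).symm
      · rw [Category.assoc, pullback.lift_snd, Category.comp_id, pullback.lift_snd, Category.assoc]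
        exact congrArg _ (e.asFiberHom_fiberToSpecResidueField s').symm
  haveI : Etale m := MorphismProperty.of_isPullback (P := @Etale) hmp.flip ‹Etale (e.asFiberHom s')›
  refine ⟨_, m, ‹Etale m›, ?_, ?_⟩
  · obtain ⟨w, hw⟩ : (f ≫ e).fiberι (e s') z ∈ Set.range (f.fiberι s') := by rw [f.range_fiberι]; exact hs
    refine ⟨w, ((f ≫ e).fiberι (e s')).isEmbedding.injective ?_⟩
    rw [← hw, ← Scheme.Hom.comp_apply]
    exact congrArg (fun q : f.fiber s' ⟶ X => q w) (pullback.lift_fst _ _ _)
  · have := (hfib s').comp_extMap (k := S.residueField (e s'))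
    rwa [show m ≫ (f ≫ e).fiberToSpecResidueField (e s') =
      f.fiberToSpecResidueField s' ≫ ext from pullback.lift_snd _ _ _]

end

end Groth.Agent.NodeFam
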