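import Groth.Agent.NodeFam.SingLocus
import Groth.Agent.NodeFam.Family
import Groth.Agent.GeomField.Descend
import Groth.Agent.S4642

/-!
# Nodes and base change along field extensions
-/

set_option autoImplicit false
set_option backward.isDefEq.respectTransparency false
set_option backward.isDefEq.respectTransparency.types false
set_option linter.style.haveILetI false
set_option linter.unusedSectionVars false

universe u

open CategoryTheory CategoryTheory.Limits AlgebraicGeometry

namespace Groth.Agent.NodeFam

noncomputable section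

variable {k : Type u} [Field k] {X : Scheme.{u}}

/-- Every point of a normal algebraic extension over a node is an ordinary double point. -/
theorem NodeVia.odpAt {K : Type u} [Field K] [Algebra k K] [Normal k K] {f : X ⟶ Spec (CommRingCat.of k)}
    [LocallyOfFiniteType f] {x : X} (h : NodeVia K f x) (z : ↥(pullback f (extMap k K)))
    (hz : pullback.fst f (extMap k K) z = x) : ODPAt K (pullback.snd f (extMap k K)) z := by
  obtain ⟨-, z₀, hz₀, hodp⟩ := h
  letI : X.Over (Spec (CommRingCat.of k)) := ⟨f⟩
  obtain ⟨σ, rfl⟩ := GeomField.exists_galAct_eq (k := k) (X := X) z z₀ (hz.trans hz₀.symm)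
  have hσ : (σ : K →ₐ[k] K).toRingHom = σ.toRingEquiv.toRingHom := rfl
  refine (odpAt_iff_of_stalk_iso (Curv2.galAct k X K σ) (pullback.snd f (extMap k K)) (pullback.snd f (extMap k K))
    σ.toRingEquiv (pullback.lift_snd _ _ _) z ?_).1 hodp
  haveI : IsIso (Spec.map (CommRingCat.ofHom (σ : K →ₐ[k] K).toRingHom)) := by
    haveI : IsIso (CommRingCat.ofHom (σ : K →ₐ[k] K).toRingHom) :=
      (ConcreteCategory.isIso_iff_bijective _).2 σ.bijective
    infer_instance
  haveI : IsIso (Curv2.galAct k X K σ) := by unfold Curv2.galAct; infer_instance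
  exact ConcreteCategory.bijective_of_isIso ((Curv2.galAct k X K σ).stalkMap z)

section Tower

variable (K L : Type u) [Field K] [Field L] [Algebra k K] [Algebra k L] [Algebra K L] [IsScalarTower k K L]

theorem extMap_tower : extMap k L = extMap K L ≫ extMap k K := by
  rw [← Spec.map_comp, ← CommRingCat.ofHom_comp, ← IsScalarTower.algebraMap_eq]

/-- Base change in two steps. -/
def towerIso (f : X ⟶ Spec (CommRingCat.of k)) :
    pullback (pullback.snd f (extMap k K)) (extMap K L) ≅ pullback f (extMap k L) :=
  pullbackLeftPullbackSndIso f (extMap k K) (extMap K L) ≪≫ pullback.congrHom rfl (extMap_tower K L).symm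

theorem towerIso_fst (f : X ⟶ Spec (CommRingCat.of k)) :
    (towerIso K L f).hom ≫ pullback.fst f (extMap k L) =
      pullback.fst (pullback.snd f (extMap k K)) (extMap K L) ≫ pullback.fst f (extMap k K) := by
  simp [towerIso, pullback.congrHom, pullback.map]

theorem towerIso_snd (f : X ⟶ Spec (CommRingCat.of k)) :
    (towerIso K L f).hom ≫ pullback.snd f (extMap k L) =
      pullback.snd (pullback.snd f (extMap k K)) (extMap K L) := by
  simp [towerIso, pullback.congrHom, pullback.map]

theorem odpAt_towerIso (f : X ⟶ Spec (CommRingCat.of k)) [LocallyOfFiniteType f]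
    (w : ↥(pullback (pullback.snd f (extMap k K)) (extMap K L))) :
    ODPAt L (pullback.snd f (extMap k L)) ((towerIso K L f).hom w) ↔
      ODPAt L (pullback.snd (pullback.snd f (extMap k K)) (extMap K L)) w :=
  odpAt_iff_of_stalk_iso (towerIso K L f).hom (pullback.snd f (extMap k L)) _ (RingEquiv.refl L)
    (by rw [towerIso_snd, show (RingEquiv.refl L).toRingHom = RingHom.id L from rfl, CommRingCat.ofHom_id,
      Spec.map_id, Category.comp_id]) w (ConcreteCategory.bijective_of_isIso _)

theorem isClosed_towerIso_iff (f : X ⟶ Spec (CommRingCat.of k))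
    (w : ↥(pullback (pullback.snd f (extMap k K)) (extMap K L))) :
    IsClosed ({(towerIso K L f).hom w} : Set ↥(pullback f (extMap k L))) ↔
      IsClosed ({w} : Set ↥(pullback (pullback.snd f (extMap k K)) (extMap K L))) := by
  rw [← Set.image_singleton]
  exact (towerIso K L f).hom.homeomorph.isClosed_image

end Tower

theorem deg_le_iff_topologicalKrullDim_le (f : X ⟶ Spec (CommRingCat.of k)) [LocallyOfFiniteType f] (n : ℕ) :
    (∀ x : X, VarDim.deg f x ≤ n) ↔ topologicalKrullDim X ≤ n := by
  rw [VarDim.topologicalKrullDim_eq_iSup_deg f]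
  refine ⟨fun h => iSup_le fun x => ?_, fun h x => ?_⟩
  · exact_mod_cast h x
  · exact_mod_cast (le_iSup (fun x : X => ((VarDim.deg f x : ℕ∞) : WithBot ℕ∞)) x).trans h

theorem deg_bc_le (f : X ⟶ Spec (CommRingCat.of k)) [LocallyOfFiniteType f] (K : Type u) [Field K] [Algebra k K]
    (h : ∀ x : X, VarDim.deg f x ≤ 1) (z : ↥(pullback f (extMap k K))) :
    VarDim.deg (pullback.snd f (extMap k K)) z ≤ 1 := by
  refine (deg_le_iff_topologicalKrullDim_le (pullback.snd f (extMap k K)) 1).2 ?_ z
  have e : topologicalKrullDim ↥(pullback f (extMap k K)) = topologicalKrullDim X :=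
    S4642.result (K := K) f
  rw [e]
  exact (deg_le_iff_topologicalKrullDim_le f 1).1 h

/-- Nodes are insensitive to extensions of the base field, in dimension at most one. -/
theorem nodeVia_bc_iff {K : Type u} [Field K] [Algebra k K] (Ω : Type u) [Field Ω] [Algebra K Ω]
    [IsAlgClosure K Ω] (f : X ⟶ Spec (CommRingCat.of k)) [LocallyOfFiniteType f]
    (hdim : ∀ x : X, VarDim.deg f x ≤ 1) (y : ↥(pullback f (extMap k K))) :
    NodeVia (AlgebraicClosure k) f (pullback.fst f (extMap k K) y) ↔ NodeVia Ω (pullback.snd f (extMap k K)) y := by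
  haveI : IsAlgClosed Ω := IsAlgClosure.isAlgClosed K
  haveI : Algebra.IsAlgebraic K Ω := IsAlgClosure.isAlgebraic
  letI : Algebra k Ω := ((algebraMap K Ω).comp (algebraMap k K)).toAlgebra
  haveI : IsScalarTower k K Ω := IsScalarTower.of_algebraMap_eq fun _ => rfl
  let ψ : AlgebraicClosure k →ₐ[k] Ω := IsAlgClosed.lift
  letI : Algebra (AlgebraicClosure k) Ω := ψ.toRingHom.toAlgebra
  haveI : IsScalarTower k (AlgebraicClosure k) Ω := IsScalarTower.of_algebraMap_eq fun r => (ψ.commutes r).symm
  haveI : LocallyOfFinitePresentation (pullback.snd f (extMap k (AlgebraicClosure k))) := by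
    haveI := LocallyOfFiniteType.isLocallyNoetherian (pullback.snd f (extMap k (AlgebraicClosure k)))
    infer_instance
  -- a common point upstairs
  obtain ⟨y', hy'⟩ : ∃ y' : ↥(pullback (pullback.snd f (extMap k K)) (extMap K Ω)),
      pullback.fst (pullback.snd f (extMap k K)) (extMap K Ω) y' = y := by
    obtain ⟨y', h1, -⟩ := Scheme.Pullback.exists_preimage_pullback (f := pullback.snd f (extMap k K))
      (g := extMap K Ω) y (IsLocalRing.closedPoint Ω) (Subsingleton.elim _ _)
    exact ⟨y', h1⟩
  obtain ⟨u, hu⟩ : ∃ u, (towerIso (AlgebraicClosure k) Ω f).hom u = (towerIso K Ω f).hom y' :=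
    ⟨(towerIso (AlgebraicClosure k) Ω f).inv ((towerIso K Ω f).hom y'), by
      rw [← Scheme.Hom.comp_apply, Iso.inv_hom_id]; rfl⟩
  have hx : pullback.fst f (extMap k (AlgebraicClosure k))
      (pullback.fst (pullback.snd f (extMap k (AlgebraicClosure k))) (extMap (AlgebraicClosure k) Ω) u) =
        pullback.fst f (extMap k K) y := by
    rw [← Scheme.Hom.comp_apply, ← towerIso_fst, Scheme.Hom.comp_apply, hu, ← Scheme.Hom.comp_apply, towerIso_fst,
      Scheme.Hom.comp_apply, hy']
  have hodp : ODPAt Ω (pullback.snd (pullback.snd f (extMap k (AlgebraicClosure k))) (extMap (AlgebraicClosure k) Ω)) u ↔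
      ODPAt Ω (pullback.snd (pullback.snd f (extMap k K)) (extMap K Ω)) y' := by
    rw [← odpAt_towerIso, ← odpAt_towerIso, hu]
  constructor
  · intro h
    have hzc := isClosed_of_fst (AlgebraicClosure k) f _ (show IsClosed ({pullback.fst f (extMap k (AlgebraicClosure k))
      (pullback.fst (pullback.snd f (extMap k (AlgebraicClosure k))) (extMap (AlgebraicClosure k) Ω) u)} : Set X) by
        rw [hx]; exact h.1)
    obtain ⟨huc, hiff⟩ := odpAt_ext_iff (pullback.snd f (extMap k (AlgebraicClosure k))) u hzc
    refine ⟨?_, y', hy', hodp.1 (hiff.1 (h.odpAt _ hx))⟩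
    rw [← hy', ← Set.image_singleton]
    haveI := isIntegralHom_fst Ω (pullback.snd f (extMap k K))
    refine (pullback.fst (pullback.snd f (extMap k K)) (extMap K Ω)).isClosedMap _ ?_
    rw [← isClosed_towerIso_iff K Ω f, ← hu, isClosed_towerIso_iff]
    exact huc
  · rintro ⟨hyc, y'', hy'', hodp''⟩
    have hn : NodeVia Ω (pullback.snd f (extMap k K)) y := ⟨hyc, y'', hy'', hodp''⟩
    haveI : Normal K Ω := IsAlgClosure.normal K Ω
    have hy'odp := hn.odpAt y' hy'
    have hzc := isClosed_image_of_odpAt (pullback.snd f (extMap k (AlgebraicClosure k)))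
      (deg_bc_le f (AlgebraicClosure k) hdim) u (hodp.2 hy'odp)
    obtain ⟨-, hiff⟩ := odpAt_ext_iff (pullback.snd f (extMap k (AlgebraicClosure k))) u hzc
    refine ⟨?_, _, hx, hiff.2 (hodp.2 hy'odp)⟩
    rw [← hx, ← Set.image_singleton]
    haveI := isIntegralHom_fst (AlgebraicClosure k) f
    exact (pullback.fst f (extMap k (AlgebraicClosure k))).isClosedMap _ hzc

end

end Groth.Agent.NodeFam
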