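import Groth.Agent.NodeFam.Jac
import Groth.Agent.NodeFam.BaseField
import Groth.Agent.EtRam7.SepOfGeomRed
import Mathlib.RingTheory.Ideal.IdempotentFG

/-!
# A node has separable residue field and is not regular
-/

set_option autoImplicit false
set_option backward.isDefEq.respectTransparency false
set_option backward.isDefEq.respectTransparency.types false
set_option linter.style.haveILetI false
set_option linter.unusedSectionVars false

universe u

open CategoryTheory CategoryTheory.Limits AlgebraicGeometry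
open scoped TensorProduct

namespace Groth.Agent.NodeFam

noncomputable section

variable {k : Type u} [Field k]

/-- If all geometric points over `M` are nodes then the residue field at `M` is separable. -/
theorem isSeparable_of_forall_nodeCrit (K : Type u) [Field K] [Algebra k K] [IsAlgClosed K] {A : Type u} [CommRing A]
    [Algebra k A] [Algebra.FiniteType k A] (M : Ideal A) [M.IsMaximal]
    (hall : ∀ Mb : Ideal (K ⊗[k] A), Mb.IsMaximal →
      Mb.comap (Algebra.TensorProduct.includeRight : A →ₐ[k] K ⊗[k] A) = M → NodeCrit K Mb) :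
    Algebra.IsSeparable k (A ⧸ M) := by
  letI : Field (A ⧸ M) := Ideal.Quotient.field M
  haveI : Module.Finite k (A ⧸ M) := finite_of_finite_type_of_isJacobsonRing k (A ⧸ M)
  haveI : Algebra.IsAlgebraic k (A ⧸ M) := Algebra.IsAlgebraic.of_finite k (A ⧸ M)
  haveI : IsNoetherianRing (K ⊗[k] (A ⧸ M)) := Algebra.FiniteType.isNoetherianRing K _
  let q : K ⊗[k] A →ₐ[K] K ⊗[k] (A ⧸ M) := Algebra.TensorProduct.map (AlgHom.id K K) (Ideal.Quotient.mkₐ k M)
  have hq : Function.Surjective q := fun b => by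
    induction b using TensorProduct.induction_on with
    | zero => exact ⟨0, map_zero q⟩
    | tmul l a =>
      obtain ⟨a, rfl⟩ := Ideal.Quotient.mk_surjective a
      exact ⟨l ⊗ₜ a, rfl⟩
    | add b b' hb hb' =>
      obtain ⟨c, rfl⟩ := hb; obtain ⟨c', rfl⟩ := hb'
      exact ⟨c + c', map_add q _ _⟩
  haveI : IsReduced (K ⊗[k] (A ⧸ M)) := by
    refine ⟨fun x hx => ?_⟩
    by_contra hne
    obtain ⟨n, hn, hle⟩ := Ideal.exists_le_maximal (Submodule.annihilator (Ideal.span {x})) (fun htop => hne (by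
      have h1 : (1 : K ⊗[k] (A ⧸ M)) ∈ Submodule.annihilator (Ideal.span {x}) := by rw [htop]; trivial
      simpa using Submodule.mem_annihilator.1 h1 x (Ideal.mem_span_singleton_self x)))
    haveI : (n.comap q).IsMaximal := Ideal.comap_isMaximal_of_surjective q hq
    have hcom : (n.comap q).comap (Algebra.TensorProduct.includeRight : A →ₐ[k] K ⊗[k] A) = M := by
      refine (Ideal.IsMaximal.eq_of_le ‹M.IsMaximal› (Ideal.IsPrime.ne_top inferInstance) fun m hm => ?_).symm
      show q ((1 : K) ⊗ₜ[k] m) ∈ n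
      rw [show q ((1 : K) ⊗ₜ[k] m) = (1 : K) ⊗ₜ[k] Ideal.Quotient.mk M m from rfl,
        Ideal.Quotient.eq_zero_iff_mem.2 hm, TensorProduct.tmul_zero]
      exact zero_mem _
    have hsup := nodeCrit_le_sup (hall _ inferInstance hcom)
    have hidem : IsIdempotentElem n := by
      refine le_antisymm Ideal.mul_le_right ?_
      intro y hy
      obtain ⟨b, rfl⟩ := hq y
      have h2 := Ideal.mem_map_of_mem q (hsup (show b ∈ n.comap q from hy))
      rw [Ideal.map_sup, Ideal.map_pow, Ideal.map_comap_of_surjective _ hq, hcom] at h2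
      refine (sup_le ?_ (le_of_eq (sq n))) h2
      rw [Ideal.map_le_iff_le_comap, Ideal.map_le_iff_le_comap]
      intro m hm
      show q ((1 : K) ⊗ₜ[k] m) ∈ n * n
      rw [show q ((1 : K) ⊗ₜ[k] m) = (1 : K) ⊗ₜ[k] Ideal.Quotient.mk M m from rfl,
        Ideal.Quotient.eq_zero_iff_mem.2 hm, TensorProduct.tmul_zero]
      exact zero_mem _
    obtain ⟨e, he, hne'⟩ := (Ideal.isIdempotentElem_iff_of_fg n (IsNoetherian.noetherian n)).1 hidem
    have hxn : x ∈ n := by
      obtain ⟨m, hm⟩ := hx
      exact (hn.isPrime).mem_of_pow_mem m (by rw [hm]; exact zero_mem _)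
    rw [hne', Submodule.mem_span_singleton] at hxn
    obtain ⟨r, hr⟩ := hxn
    have hann : 1 - e ∈ Submodule.annihilator (Ideal.span {x}) := by
      rw [Ideal.submodule_span_eq.symm, Submodule.mem_annihilator_span_singleton, smul_eq_mul, ← hr, smul_eq_mul,
        sub_mul, one_mul, mul_left_comm, he.eq, sub_self]
    have h1 : (1 : K ⊗[k] (A ⧸ M)) ∈ n := by
      rw [← sub_add_cancel (1 : K ⊗[k] (A ⧸ M)) e]
      exact add_mem (hle hann) (by rw [hne']; exact Submodule.mem_span_singleton_self e)
    exact hn.ne_top ((Ideal.eq_top_iff_one n).2 h1)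
  exact EtRam7.isSeparable_of_isReduced_tensor (F := k) (E := A ⧸ M) (Ω := K)

variable {X : Scheme.{u}}

/-- An affine chart is the spectrum of the algebra of its sections. -/
theorem fromSpec_comp (f : X ⟶ Spec (CommRingCat.of k)) {V : X.Opens} (hV : IsAffineOpen V) :
    letI := (SmoothReg.affMap f V).toAlgebra
    hV.fromSpec ≫ f = Spec.map (CommRingCat.ofHom (algebraMap k Γ(X, V))) := by
  letI := (SmoothReg.affMap f V).toAlgebra
  rw [← IsAffineOpen.SpecMap_appLE_fromSpec f (isAffineOpen_top (Spec (CommRingCat.of k))) hV (by simp),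
    IsAffineOpen.fromSpec_top, Scheme.isoSpec_Spec_inv, ← Spec.map_comp]
  rfl

/-- Over a node all geometric points satisfy the criterion. -/
theorem nodeCrit_of_nodeVia (f : X ⟶ Spec (CommRingCat.of k)) [LocallyOfFiniteType f] {V : X.Opens}
    (hV : IsAffineOpen V) {x : X} (hx : x ∈ V) (h : NodeVia (AlgebraicClosure k) f x) :
    letI := (SmoothReg.affMap f V).toAlgebra
    (hV.primeIdealOf ⟨x, hx⟩).asIdeal.IsMaximal ∧
      ∀ Mb : Ideal (AlgebraicClosure k ⊗[k] Γ(X, V)), Mb.IsMaximal →
        Mb.comap (Algebra.TensorProduct.includeRight : Γ(X, V) →ₐ[k] AlgebraicClosure k ⊗[k] Γ(X, V)) =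
          (hV.primeIdealOf ⟨x, hx⟩).asIdeal → NodeCrit (AlgebraicClosure k) Mb := by
  letI := (SmoothReg.affMap f V).toAlgebra
  haveI : Algebra.FiniteType k Γ(X, V) := SmoothReg.finiteType_affMap f hV
  have hg := fromSpec_comp f hV
  haveI : LocallyOfFiniteType (Spec.map (CommRingCat.ofHom (algebraMap k Γ(X, V)))) := by
    rw [← hg]; infer_instance
  have hn : NodeVia (AlgebraicClosure k) (Spec.map (CommRingCat.ofHom (algebraMap k Γ(X, V))))
      (hV.primeIdealOf ⟨x, hx⟩) := by
    refine (nodeVia_iff_of_etale (AlgebraicClosure k) hV.fromSpec f _ hg _).1 ?_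
    rw [hV.fromSpec_primeIdealOf]
    exact h
  refine ⟨(PrimeSpectrum.isClosed_singleton_iff_isMaximal _).1 hn.1, fun Mb hMb hcom => ?_⟩
  have hpo : IsPullback (Spec.map (CommRingCat.ofHom
        (Algebra.TensorProduct.includeRight : Γ(X, V) →ₐ[k] AlgebraicClosure k ⊗[k] Γ(X, V)).toRingHom))
      (Spec.map (CommRingCat.ofHom (algebraMap (AlgebraicClosure k) (AlgebraicClosure k ⊗[k] Γ(X, V)))))
      (Spec.map (CommRingCat.ofHom (algebraMap k Γ(X, V)))) (extMap k (AlgebraicClosure k)) :=
    (isPullback_SpecMap_of_isPushout _ _ _ _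
      (CommRingCat.isPushout_tensorProduct k (AlgebraicClosure k) Γ(X, V))).flip
  let N : ↥(Spec (CommRingCat.of (AlgebraicClosure k ⊗[k] Γ(X, V)))) := ⟨Mb, hMb.isPrime⟩
  haveI : N.asIdeal.IsMaximal := hMb
  have hfst : pullback.fst _ (extMap k (AlgebraicClosure k)) (hpo.isoPullback.hom N) =
      hV.primeIdealOf ⟨x, hx⟩ := by
    rw [← Scheme.Hom.comp_apply, hpo.isoPullback_hom_fst]
    exact PrimeSpectrum.ext hcom
  have hodp := hn.odpAt _ hfst
  haveI : LocallyOfFiniteType (Spec.map (CommRingCat.ofHom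
      (algebraMap (AlgebraicClosure k) (AlgebraicClosure k ⊗[k] Γ(X, V))))) := by
    rw [← hpo.isoPullback_hom_snd]; infer_instance
  rw [odpAt_iff_of_stalk_iso hpo.isoPullback.hom _
    (Spec.map (CommRingCat.ofHom (algebraMap (AlgebraicClosure k) (AlgebraicClosure k ⊗[k] Γ(X, V)))))
    (RingEquiv.refl (AlgebraicClosure k)) (by
      rw [hpo.isoPullback_hom_snd, show (RingEquiv.refl (AlgebraicClosure k)).toRingHom = RingHom.id _ from rfl,
        CommRingCat.ofHom_id, Spec.map_id, Category.comp_id]) N (ConcreteCategory.bijective_of_isIso _),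
    odpAt_spec_iff] at hodp
  exact hodp

/-- A node is not in the smooth locus. -/
theorem not_mem_smoothLocus_of_nodeVia (f : X ⟶ Spec (CommRingCat.of k)) [LocallyOfFiniteType f]
    [LocallyOfFinitePresentation f] {x : X} (h : NodeVia (AlgebraicClosure k) f x) : x ∉ f.smoothLocus := by
  obtain ⟨-, z, hz, hodp⟩ := h
  intro hx
  haveI : LocallyOfFinitePresentation (pullback.snd f (extMap k (AlgebraicClosure k))) := by
    haveI := LocallyOfFiniteType.isLocallyNoetherian (pullback.snd f (extMap k (AlgebraicClosure k)))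
    infer_instance
  refine not_mem_smoothLocus_of_odpAt (pullback.snd f (extMap k (AlgebraicClosure k))) z hodp ?_
  rw [S2155.result f (extMap k (AlgebraicClosure k)) (pullback.snd f (extMap k (AlgebraicClosure k)))
    (pullback.fst f (extMap k (AlgebraicClosure k))) (IsPullback.of_hasPullback f (extMap k (AlgebraicClosure k)))
    (Or.inr (by rw [HasRingHomProperty.Spec_iff (P := @Flat)]; exact RingHom.flat_algebraMap_iff.2 inferInstance))]
  show pullback.fst f (extMap k (AlgebraicClosure k)) z ∈ f.smoothLocus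
  rw [hz]; exact hx

/-- A node is not a regular point. -/
theorem not_isRegular_of_nodeVia (f : X ⟶ Spec (CommRingCat.of k)) [LocallyOfFiniteType f]
    [LocallyOfFinitePresentation f] {x : X} (h : NodeVia (AlgebraicClosure k) f x) :
    ¬ IsRegularLocalRing (X.presheaf.stalk x) := by
  intro hreg
  refine not_mem_smoothLocus_of_nodeVia f h ?_
  obtain ⟨V, hV, hx⟩ := SmoothReg.exists_chart x
  letI := (SmoothReg.affMap f V).toAlgebra
  haveI : Algebra.FiniteType k Γ(X, V) := SmoothReg.finiteType_affMap f hV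
  rw [SmoothReg.mem_smoothLocus_iff_isSmoothAt f hV hx]
  obtain ⟨hmax, hall⟩ := nodeCrit_of_nodeVia f hV hx h
  haveI := hmax
  haveI := isSeparable_of_forall_nodeCrit (AlgebraicClosure k) (hV.primeIdealOf ⟨x, hx⟩).asIdeal hall
  haveI : Algebra.IsSeparable k (hV.primeIdealOf ⟨x, hx⟩).asIdeal.ResidueField :=
    AlgEquiv.Algebra.isSeparable (AlgEquiv.ofBijective
      (IsScalarTower.toAlgHom k (Γ(X, V) ⧸ (hV.primeIdealOf ⟨x, hx⟩).asIdeal)
        (hV.primeIdealOf ⟨x, hx⟩).asIdeal.ResidueField)
      (Ideal.bijective_algebraMap_quotient_residueField _))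
  haveI := Algebra.FormallyEtale.of_isSeparable k (hV.primeIdealOf ⟨x, hx⟩).asIdeal.ResidueField
  exact SmoothReg.isSmoothAt_of_isRegularLocalRing _ (IsRegularLocalRing.of_ringEquiv (SmoothReg.stalkEquiv hV hx).symm)

end

end Groth.Agent.NodeFam
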