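import Groth.Agent.NodeFam.QuadAlg
import Groth.Agent.NodeFam.NodeSep

/-!
# Nodes at rational points and the quadratic criterion
-/

set_option autoImplicit false
set_option backward.isDefEq.respectTransparency false
set_option backward.isDefEq.respectTransparency.types false
set_option linter.style.haveILetI false
set_option linter.unusedSectionVars false

universe u

open CategoryTheory CategoryTheory.Limits AlgebraicGeometry IsLocalRing
open scoped TensorProduct

namespace Groth.Agent.NodeFam

noncomputable section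

variable {k : Type u} [Field k]


variable {X : Scheme.{u}}

/-- At a rational point a node is the same as the quadratic criterion on the completion. -/
theorem nodeVia_iff_quadCrit (f : X ⟶ Spec (CommRingCat.of k)) [LocallyOfFiniteType f] (y : X)
    [IsNoetherianRing (X.presheaf.stalk y)]
    (hrat : Function.Surjective ((IsLocalRing.residue (X.presheaf.stalk y)).comp (cst f y))) :
    letI := @Curv2.stalkAlgebra k _ X ⟨f⟩ y
    NodeVia (AlgebraicClosure k) f y ↔ IsClosed ({y} : Set X) ∧ QuadCrit k (maximalIdeal (Cmpl (X.presheaf.stalk y))) := by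
  letI := @Curv2.stalkAlgebra k _ X ⟨f⟩ y
  obtain ⟨V, hV, hy⟩ := SmoothReg.exists_chart y
  letI := (SmoothReg.affMap f V).toAlgebra
  haveI : Algebra.FiniteType k Γ(X, V) := SmoothReg.finiteType_affMap f hV
  set p := hV.primeIdealOf ⟨y, hy⟩ with hp
  haveI : JacobsonSpace X := LocallyOfFiniteType.jacobsonSpace f
  have hclosed : IsClosed ({y} : Set X) → p.asIdeal.IsMaximal := fun h => by
    rw [← PrimeSpectrum.isClosed_singleton_iff_isMaximal]
    have e : (hV.fromSpec : ↥(Spec Γ(X, V)) → X) ⁻¹' {y} = {p} := by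
      conv_lhs => rw [show y = hV.fromSpec p from (hV.fromSpec_primeIdealOf ⟨y, hy⟩).symm]
      rw [← Set.image_singleton, hV.fromSpec.isOpenEmbedding.injective.preimage_image]
    exact e ▸ h.preimage hV.fromSpec.continuous
  let e : Localization.AtPrime p.asIdeal ≃ₐ[k] X.presheaf.stalk y :=
    AlgEquiv.ofRingEquiv (f := SmoothReg.stalkEquiv hV hy) fun c => SmoothReg.stalkEquiv_algebraMap f hV hy c
  have hstalk : ∀ [p.asIdeal.IsMaximal], QuadCrit k p.asIdeal ↔ QuadCrit k (maximalIdeal (X.presheaf.stalk y)) := by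
    intro _
    rw [quadCrit_localization_iff (M := p.asIdeal), Localization.AtPrime.map_eq_maximalIdeal]
    refine quadCrit_iff_of_algEquiv e ?_
    have h2 : (maximalIdeal (X.presheaf.stalk y)).comap e.toAlgHom = maximalIdeal (Localization.AtPrime p.asIdeal) :=
      IsLocalRing.eq_maximalIdeal (Ideal.comap_isMaximal_of_surjective e.toAlgHom e.surjective)
    rw [← h2]
    exact Ideal.map_comap_of_surjective _ e.surjective _
  have hres : ∀ [p.asIdeal.IsMaximal], ∀ r : Γ(X, V), ∃ c : k, r - algebraMap k Γ(X, V) c ∈ p.asIdeal := by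
    intro _ r
    obtain ⟨c, hc⟩ := hrat (IsLocalRing.residue _ (SmoothReg.stalkEquiv hV hy (algebraMap _ _ r)))
    refine ⟨c, ?_⟩
    rw [RingHom.comp_apply] at hc
    have h1 : SmoothReg.stalkEquiv hV hy (algebraMap _ _ r) - cst f y c ∈ maximalIdeal (X.presheaf.stalk y) :=
      Ideal.Quotient.eq.1 hc.symm
    have h2 : cst f y c = SmoothReg.stalkEquiv hV hy (algebraMap k _ c) :=
      (SmoothReg.stalkEquiv_algebraMap f hV hy c).symm
    rw [h2, IsScalarTower.algebraMap_apply k Γ(X, V) (Localization.AtPrime p.asIdeal), ← map_sub, ← map_sub,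
      IsLocalRing.mem_maximalIdeal, mem_nonunits_iff] at h1
    by_contra hn
    exact h1 ((IsLocalization.map_units (Localization.AtPrime p.asIdeal)
      (⟨_, hn⟩ : p.asIdeal.primeCompl)).map (SmoothReg.stalkEquiv hV hy))
  constructor
  · intro h
    obtain ⟨hmax, hall⟩ := nodeCrit_of_nodeVia f hV hy h
    haveI := hmax
    refine ⟨h.1, (quadCrit_completion_iff (k := k)).1 (hstalk.1 (quadCrit_of_ext (L := AlgebraicClosure k) ?_))⟩
    haveI := isMaximal_extIdeal (R := Γ(X, V)) (M := p.asIdeal) (AlgebraicClosure k) hres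
    refine hall _ inferInstance ((Ideal.IsMaximal.eq_of_le hmax (Ideal.IsPrime.ne_top inferInstance) ?_).symm)
    exact Ideal.le_comap_map
  · rintro ⟨hc, hq⟩
    haveI := hclosed hc
    have hN := (hstalk.2 ((quadCrit_completion_iff (k := k)).2 hq)).ext (L := AlgebraicClosure k)
    haveI := isMaximal_extIdeal (R := Γ(X, V)) (M := p.asIdeal) (AlgebraicClosure k) hres
    have hg := fromSpec_comp f hV
    haveI : LocallyOfFiniteType (Spec.map (CommRingCat.ofHom (algebraMap k Γ(X, V)))) := by
      rw [← hg]; infer_instance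
    rw [show y = hV.fromSpec p from (hV.fromSpec_primeIdealOf ⟨y, hy⟩).symm,
      nodeVia_iff_of_etale (AlgebraicClosure k) hV.fromSpec f _ hg p]
    refine ⟨(PrimeSpectrum.isClosed_singleton_iff_isMaximal p).2 inferInstance, ?_⟩
    have hpo : IsPullback (Spec.map (CommRingCat.ofHom
          (Algebra.TensorProduct.includeRight : Γ(X, V) →ₐ[k] AlgebraicClosure k ⊗[k] Γ(X, V)).toRingHom))
        (Spec.map (CommRingCat.ofHom (algebraMap (AlgebraicClosure k) (AlgebraicClosure k ⊗[k] Γ(X, V)))))
        (Spec.map (CommRingCat.ofHom (algebraMap k Γ(X, V)))) (extMap k (AlgebraicClosure k)) :=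
      (isPullback_SpecMap_of_isPushout _ _ _ _
        (CommRingCat.isPushout_tensorProduct k (AlgebraicClosure k) Γ(X, V))).flip
    let N : ↥(Spec (CommRingCat.of (AlgebraicClosure k ⊗[k] Γ(X, V)))) :=
      ⟨extIdeal k (AlgebraicClosure k) p.asIdeal, Ideal.IsMaximal.isPrime inferInstance⟩
    haveI : N.asIdeal.IsMaximal := ‹(extIdeal k (AlgebraicClosure k) p.asIdeal).IsMaximal›
    refine ⟨hpo.isoPullback.hom N, ?_, ?_⟩
    · rw [← Scheme.Hom.comp_apply, hpo.isoPullback_hom_fst]
      exact PrimeSpectrum.ext ((Ideal.IsMaximal.eq_of_le inferInstance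
        (Ideal.comap_ne_top _ (‹(extIdeal k (AlgebraicClosure k) p.asIdeal).IsMaximal›).ne_top)
        Ideal.le_comap_map).symm)
    · haveI : LocallyOfFiniteType (Spec.map (CommRingCat.ofHom
          (algebraMap (AlgebraicClosure k) (AlgebraicClosure k ⊗[k] Γ(X, V))))) := by
        rw [← hpo.isoPullback_hom_snd]; infer_instance
      rw [odpAt_iff_of_stalk_iso hpo.isoPullback.hom _
        (Spec.map (CommRingCat.ofHom (algebraMap (AlgebraicClosure k) (AlgebraicClosure k ⊗[k] Γ(X, V)))))
        (RingEquiv.refl (AlgebraicClosure k)) (by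
          rw [hpo.isoPullback_hom_snd, show (RingEquiv.refl (AlgebraicClosure k)).toRingHom = RingHom.id _ from rfl,
            CommRingCat.ofHom_id, Spec.map_id, Category.comp_id]) N (ConcreteCategory.bijective_of_isIso _),
        odpAt_spec_iff]
      exact hN

/-- Over a node the residue field is separable over the base. -/
theorem isSeparable_residueField_of_nodeVia (f : X ⟶ Spec (CommRingCat.of k)) [LocallyOfFiniteType f] {x : X}
    (h : NodeVia (AlgebraicClosure k) f x) [Algebra k (X.residueField x)]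
    (hcomp : ∀ c, algebraMap k (X.residueField x) c = IsLocalRing.residue (X.presheaf.stalk x) (cst f x c)) :
    Algebra.IsSeparable k (X.residueField x) := by
  obtain ⟨V, hV, hx⟩ := SmoothReg.exists_chart x
  letI := (SmoothReg.affMap f V).toAlgebra
  haveI : Algebra.FiniteType k Γ(X, V) := SmoothReg.finiteType_affMap f hV
  obtain ⟨hmax, hall⟩ := nodeCrit_of_nodeVia f hV hx h
  haveI := hmax
  haveI := isSeparable_of_forall_nodeCrit (AlgebraicClosure k) (hV.primeIdealOf ⟨x, hx⟩).asIdeal hall
  haveI : Algebra.IsSeparable k (hV.primeIdealOf ⟨x, hx⟩).asIdeal.ResidueField :=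
    AlgEquiv.Algebra.isSeparable (AlgEquiv.ofBijective
      (IsScalarTower.toAlgHom k (Γ(X, V) ⧸ (hV.primeIdealOf ⟨x, hx⟩).asIdeal)
        (hV.primeIdealOf ⟨x, hx⟩).asIdeal.ResidueField)
      (Ideal.bijective_algebraMap_quotient_residueField _))
  exact AlgEquiv.Algebra.isSeparable (SmoothReg.residueEquiv f hV hx hcomp)

/-- The residue field at a closed point is finite over the base. -/
theorem finite_residueField_of_isClosed (f : X ⟶ Spec (CommRingCat.of k)) [LocallyOfFiniteType f] {x : X}
    (h : IsClosed ({x} : Set X)) [Algebra k (X.residueField x)]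
    (hcomp : ∀ c, algebraMap k (X.residueField x) c = IsLocalRing.residue (X.presheaf.stalk x) (cst f x c)) :
    Module.Finite k (X.residueField x) := by
  obtain ⟨V, hV, hx⟩ := SmoothReg.exists_chart x
  letI := (SmoothReg.affMap f V).toAlgebra
  haveI : Algebra.FiniteType k Γ(X, V) := SmoothReg.finiteType_affMap f hV
  haveI : (hV.primeIdealOf ⟨x, hx⟩).asIdeal.IsMaximal := by
    rw [← PrimeSpectrum.isClosed_singleton_iff_isMaximal]
    have e : (hV.fromSpec : ↥(Spec Γ(X, V)) → X) ⁻¹' {x} = {hV.primeIdealOf ⟨x, hx⟩} := by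
      conv_lhs => rw [show x = hV.fromSpec (hV.primeIdealOf ⟨x, hx⟩) from (hV.fromSpec_primeIdealOf ⟨x, hx⟩).symm]
      rw [← Set.image_singleton, hV.fromSpec.isOpenEmbedding.injective.preimage_image]
    exact e ▸ h.preimage hV.fromSpec.continuous
  letI : Field (Γ(X, V) ⧸ (hV.primeIdealOf ⟨x, hx⟩).asIdeal) := Ideal.Quotient.field _
  haveI : Module.Finite k (Γ(X, V) ⧸ (hV.primeIdealOf ⟨x, hx⟩).asIdeal) :=
    finite_of_finite_type_of_isJacobsonRing k _
  haveI : Module.Finite k (hV.primeIdealOf ⟨x, hx⟩).asIdeal.ResidueField :=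
    Module.Finite.equiv (AlgEquiv.ofBijective
      (IsScalarTower.toAlgHom k (Γ(X, V) ⧸ (hV.primeIdealOf ⟨x, hx⟩).asIdeal)
        (hV.primeIdealOf ⟨x, hx⟩).asIdeal.ResidueField)
      (Ideal.bijective_algebraMap_quotient_residueField _)).toLinearEquiv
  exact Module.Finite.equiv (SmoothReg.residueEquiv f hV hx hcomp).toLinearEquiv

end

end Groth.Agent.NodeFam
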