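import Groth.Agent.NodeFam.Structure
import Groth.Agent.LC.GorFlat
import Groth.Agent.LC.GorQuot
import Groth.Agent.LC.GorRows

/-!
# Local rings of nodal curves are reduced and Gorenstein
-/

set_option autoImplicit false
set_option backward.isDefEq.respectTransparency false
set_option backward.isDefEq.respectTransparency.types false
set_option linter.style.haveILetI false
set_option linter.unusedSectionVars false

universe u

open CategoryTheory CategoryTheory.Limits AlgebraicGeometry IsLocalRing

namespace Groth.Agent.NodeFam

noncomputable section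

/-- The ring of the standard node is Gorenstein. -/
theorem gorenstein_nodeQuot (K : Type u) [Field K] : LocCoh.IsGorensteinLocalRing (NodeQuot K) := by
  haveI := PSLib.isRegularLocalRing K 2
  haveI := LC.gorenstein_of_isRegularLocalRing (R := PS2 K)
  have hv : ∀ l : Fin 2, (MvPowerSeries.X l : PS2 K) ∈ maximalIdeal (PS2 K) := fun l => by
    rw [PSLib.maximalIdeal_eq_vars]; exact Ideal.subset_span ⟨l, rfl⟩
  have hne : (MvPowerSeries.X 0 * MvPowerSeries.X 1 : PS2 K) ≠ 0 := by
    intro h
    have := congrArg (MvPowerSeries.coeff (Finsupp.single (0 : Fin 2) 1 + Finsupp.single 1 1)) h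
    rw [MvPowerSeries.X, MvPowerSeries.X, MvPowerSeries.monomial_mul_monomial, one_mul,
      MvPowerSeries.coeff_monomial_same, map_zero] at this
    exact one_ne_zero this
  haveI : Nontrivial (NodeQuot K) := Ideal.Quotient.nontrivial_iff.2 fun e =>
    (maximalIdeal.isMaximal (PS2 K)).ne_top
      (top_le_iff.1 (e ▸ (Ideal.span_singleton_le_iff_mem _).2 (Ideal.mul_mem_left _ _ (hv 1))))
  haveI : IsLocalRing (NodeQuot K) :=
    IsLocalRing.of_surjective' (Ideal.Quotient.mk (nodeIdeal K)) Ideal.Quotient.mk_surjective
  exact LC.gorenstein_of_surjective_span_singleton (Ideal.Quotient.mk (nodeIdeal K)) Ideal.Quotient.mk_surjective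
    (Ideal.mul_mem_left _ _ (hv 1)) (fun a b h => mul_left_cancel₀ hne h) Ideal.mk_ker

variable {K : Type u} [Field K] {A : Type u} [CommRing A] [IsLocalRing A] [IsNoetherianRing A] [Algebra K A]

/-- An ordinary double point is Gorenstein. -/
theorem gorenstein_of_odp (h : Curv2.IsOrdDoublePt K A) : LocCoh.IsGorensteinLocalRing A := by
  obtain ⟨e, -⟩ := h
  haveI := gorenstein_nodeQuot K
  haveI : IsNoetherianRing (AdicCompletion (maximalIdeal A) A) := LC.Canon.isNoetherianRing_completion (R := A)
  haveI : LocCoh.IsGorensteinLocalRing (AdicCompletion (maximalIdeal A) A) := LC.gorenstein_of_ringEquiv e.symm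
  haveI : Module.Flat A (AdicCompletion (maximalIdeal A) A) := AdicCompletion.flat_of_isNoetherian _
  exact ((LC.gorenstein_flat_local_iff A (AdicCompletion (maximalIdeal A) A)).1 inferInstance).1

variable {k : Type u} [Field k] {X : Scheme.{u}}

/-- The local ring at a node is reduced and Gorenstein. -/
theorem reduced_gorenstein_of_nodeVia (L : Type u) [Field L] [Algebra k L] (f : X ⟶ Spec (CommRingCat.of k))
    [LocallyOfFiniteType f] {x : X} (h : NodeVia L f x) :
    _root_.IsReduced (X.presheaf.stalk x) ∧ LocCoh.IsGorensteinLocalRing (X.presheaf.stalk x) := by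
  obtain ⟨-, z, rfl, hodp⟩ := h
  haveI := LocallyOfFiniteType.isLocallyNoetherian f
  haveI := LocallyOfFiniteType.isLocallyNoetherian (pullback.snd f (extMap k L))
  letI := @Curv2.stalkAlgebra L _ _ ⟨pullback.snd f (extMap k L)⟩ z
  haveI : Flat (extMap k L) := flat_extMap L
  let φ := ((pullback.fst f (extMap k L)).stalkMap z).hom
  letI : Algebra (X.presheaf.stalk (pullback.fst f (extMap k L) z)) ((pullback f (extMap k L)).presheaf.stalk z) :=
    φ.toAlgebra
  haveI : Module.Flat (X.presheaf.stalk (pullback.fst f (extMap k L) z)) ((pullback f (extMap k L)).presheaf.stalk z) :=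
    Flat.stalkMap (pullback.fst f (extMap k L)) z
  haveI : IsLocalHom (algebraMap (X.presheaf.stalk (pullback.fst f (extMap k L) z))
      ((pullback f (extMap k L)).presheaf.stalk z)) :=
    inferInstanceAs (IsLocalHom ((pullback.fst f (extMap k L)).stalkMap z).hom)
  haveI : Module.FaithfullyFlat (X.presheaf.stalk (pullback.fst f (extMap k L) z))
      ((pullback f (extMap k L)).presheaf.stalk z) := Module.FaithfullyFlat.of_flat_of_isLocalHom
  constructor
  · haveI : _root_.IsReduced ((pullback f (extMap k L)).presheaf.stalk z) := isReduced_of_odp hodp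
    exact isReduced_of_injective _ (FaithfulSMul.algebraMap_injective
      (X.presheaf.stalk (pullback.fst f (extMap k L) z)) ((pullback f (extMap k L)).presheaf.stalk z))
  · exact ((LC.gorenstein_flat_local_iff (X.presheaf.stalk (pullback.fst f (extMap k L) z))
      ((pullback f (extMap k L)).presheaf.stalk z)).1 (gorenstein_of_odp hodp)).1

/-- Every local ring of a nodal curve is reduced and Gorenstein. -/
theorem NodalCurve.reduced_gorenstein {f : X ⟶ Spec (CommRingCat.of k)} [LocallyOfFiniteType f]
    (h : NodalCurve f) (x : X) :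
    _root_.IsReduced (X.presheaf.stalk x) ∧ LocCoh.IsGorensteinLocalRing (X.presheaf.stalk x) := by
  haveI := lfp_of_lft f
  rcases h.smooth_or_node x with hs | hn
  · haveI := SmoothReg.isRegularLocalRing_stalk_of_mem_smoothLocus f hs
    haveI := RegLoc6.isDomain_of_isRegularLocalRing (X.presheaf.stalk x)
    exact ⟨inferInstance, LC.gorenstein_of_isRegularLocalRing⟩
  · exact reduced_gorenstein_of_nodeVia (AlgebraicClosure k) f hn

end

end Groth.Agent.NodeFam
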