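import Groth.Agent.NodeFam.NodeSep
import Groth.Agent.GrpdLib.QuasiSection
import Groth.Agent.S4673
import Mathlib.AlgebraicGeometry.Morphisms.LocalFlatDescent

/-!
# Nodal curves: structure and behaviour under base change
-/

set_option autoImplicit false
set_option backward.isDefEq.respectTransparency false
set_option backward.isDefEq.respectTransparency.types false
set_option linter.style.haveILetI false
set_option linter.unusedSectionVars false

universe u

open CategoryTheory CategoryTheory.Limits AlgebraicGeometry

namespace Groth.Agent.NodeFam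

noncomputable section

variable {k : Type u} [Field k] {X : Scheme.{u}}

theorem flat_extMap (K : Type u) [Field K] [Algebra k K] : Flat (extMap k K) := by
  rw [HasRingHomProperty.Spec_iff (P := @Flat)]
  exact RingHom.flat_algebraMap_iff.2 inferInstance

theorem lfp_of_lft (f : X ⟶ Spec (CommRingCat.of k)) [LocallyOfFiniteType f] : LocallyOfFinitePresentation f := by
  haveI := LocallyOfFiniteType.isLocallyNoetherian f
  infer_instance

/-- The smooth locus and base change of the field. -/
theorem mem_smoothLocus_bc_iff (f : X ⟶ Spec (CommRingCat.of k)) [LocallyOfFinitePresentation f] (K : Type u)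
    [Field K] [Algebra k K] [LocallyOfFinitePresentation (pullback.snd f (extMap k K))] (y : ↥(pullback f (extMap k K))) :
    y ∈ (pullback.snd f (extMap k K)).smoothLocus ↔ pullback.fst f (extMap k K) y ∈ f.smoothLocus := by
  rw [S2155.result f (extMap k K) (pullback.snd f (extMap k K)) (pullback.fst f (extMap k K))
    (IsPullback.of_hasPullback f (extMap k K)) (Or.inr (flat_extMap K))]
  rfl

/-- Near a node the curve is smooth. -/
theorem mem_smoothLocus_of_specializes_node (f : X ⟶ Spec (CommRingCat.of k)) [LocallyOfFiniteType f]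
    [LocallyOfFinitePresentation f] {x x' : X} (h : NodeVia (AlgebraicClosure k) f x) (hs : x' ⤳ x) (hne : x' ≠ x) :
    x' ∈ f.smoothLocus := by
  obtain ⟨hc, z, hz, hodp⟩ := h
  haveI := lfp_of_lft (pullback.snd f (extMap k (AlgebraicClosure k)))
  haveI : Flat (extMap k (AlgebraicClosure k)) := flat_extMap _
  obtain ⟨z', hz', hz'x⟩ := Flat.generalizingMap (pullback.fst f (extMap k (AlgebraicClosure k))) (hz.symm ▸ hs)
  haveI : PerfectField (AlgebraicClosure k) := IsAlgClosed.perfectField _
  have hreg := isRegular_of_specializes_odpAt (pullback.snd f (extMap k (AlgebraicClosure k)))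
    (isClosed_of_fst _ f z (by rw [hz]; exact hc)) hodp hz' (fun h0 => hne (by rw [← hz'x, h0, hz]))
  have hsm := (SmoothReg.mem_smoothLocus_iff_isRegularLocalRing
    (pullback.snd f (extMap k (AlgebraicClosure k))) z').2 hreg
  rw [mem_smoothLocus_bc_iff, hz'x] at hsm
  exact hsm

variable {f : X ⟶ Spec (CommRingCat.of k)} [LocallyOfFiniteType f] [LocallyOfFinitePresentation f]

/-- Every point of a nodal curve is smooth or a node. -/
theorem NodalCurve.smooth_or_node (h : NodalCurve f) (x : X) :
    x ∈ f.smoothLocus ∨ NodeVia (AlgebraicClosure k) f x := by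
  haveI : JacobsonSpace X := LocallyOfFiniteType.jacobsonSpace f
  obtain ⟨x₀, hx₀, hx₀c⟩ := nonempty_inter_closedPoints (Z := closure ({x} : Set X))
    ((Set.singleton_nonempty x).closure) isClosed_closure.isLocallyClosed
  have hsp : x ⤳ x₀ := specializes_iff_mem_closure.2 hx₀
  rcases h.2 x₀ hx₀c with hs | hn
  · exact Or.inl (hsp.mem_open f.smoothLocus.2 ((exists_smooth_nhd_iff f x₀).1 hs))
  · by_cases hxx : x = x₀
    · exact Or.inr (hxx ▸ hn)
    · exact Or.inl (mem_smoothLocus_of_specializes_node f hn hsp hxx)

/-- A nodal curve has dimension at most one. -/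
theorem NodalCurve.deg_le_one (h : NodalCurve f) (x : X) : VarDim.deg f x ≤ 1 := by
  obtain ⟨z, hz, hmax⟩ := VarDim.exists_generic_of_component (irreducibleComponent_mem_irreducibleComponents x)
  have h1 := (comps_iff f).1 h.1 z hmax
  have hsp : z ⤳ x := specializes_iff_mem_closure.2 (by rw [← hz]; exact mem_irreducibleComponent)
  exact h1 ▸ VarDim.deg_le_of_specializes f hsp

theorem comps_bc_iff (f : X ⟶ Spec (CommRingCat.of k)) [LocallyOfFiniteType f] (K : Type u) [Field K] [Algebra k K] :
    (∀ Z ∈ irreducibleComponents (↥(pullback f (extMap k K))), topologicalKrullDim Z = 1) ↔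
      ∀ Z ∈ irreducibleComponents (X : Type u), topologicalKrullDim Z = 1 := by
  have e : (fun Z : Set ↥(pullback f (extMap k K)) => topologicalKrullDim Z) '' irreducibleComponents ↥(pullback f (extMap k K)) =
      (fun Z : Set X => topologicalKrullDim Z) '' irreducibleComponents (X : Type u) := S4673.result (K := K) f
  constructor
  · intro h Z hZ
    have hm : topologicalKrullDim Z ∈ (fun Z : Set X => topologicalKrullDim Z) '' irreducibleComponents (X : Type u) :=
      ⟨Z, hZ, rfl⟩
    rw [← e] at hm
    obtain ⟨W, hW, hWd⟩ := hm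
    rw [← hWd]; exact h W hW
  · intro h Z hZ
    have hm : topologicalKrullDim Z ∈ (fun Z : Set ↥(pullback f (extMap k K)) => topologicalKrullDim Z) ''
        irreducibleComponents ↥(pullback f (extMap k K)) := ⟨Z, hZ, rfl⟩
    rw [e] at hm
    obtain ⟨W, hW, hWd⟩ := hm
    rw [← hWd]; exact h W hW

/-- Nodal curves base change along field extensions. -/
theorem NodalCurve.bc (h : NodalCurve f) (K : Type u) [Field K] [Algebra k K] :
    NodalCurve (pullback.snd f (extMap k K)) := by
  haveI := lfp_of_lft (pullback.snd f (extMap k K))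
  refine ⟨(comps_bc_iff f K).2 h.1, fun y hy => ?_⟩
  rcases h.smooth_or_node (pullback.fst f (extMap k K) y) with hs | hn
  · exact Or.inl ((exists_smooth_nhd_iff _ y).2 ((mem_smoothLocus_bc_iff f K y).2 hs))
  · exact Or.inr ((nodeVia_bc_iff (AlgebraicClosure K) f h.deg_le_one y).1 hn)

/-- Nodal curves descend along field extensions. -/
theorem NodalCurve.of_bc (K : Type u) [Field K] [Algebra k K] (h : NodalCurve (pullback.snd f (extMap k K))) :
    NodalCurve f := by
  haveI := lfp_of_lft (pullback.snd f (extMap k K))
  have hcomps := (comps_bc_iff f K).1 h.1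
  refine ⟨hcomps, fun x hx => ?_⟩
  haveI : JacobsonSpace ↥(pullback f (extMap k K)) := LocallyOfFiniteType.jacobsonSpace (pullback.snd f (extMap k K))
  obtain ⟨y₀, hy₀, -⟩ := Scheme.Pullback.exists_preimage_pullback (f := f) (g := extMap k K) x
    (IsLocalRing.closedPoint K) (Subsingleton.elim _ _)
  obtain ⟨y, hy, hyc⟩ := nonempty_inter_closedPoints (Z := pullback.fst f (extMap k K) ⁻¹' {x})
    ⟨y₀, hy₀⟩ (hx.preimage (pullback.fst f (extMap k K)).continuous).isLocallyClosed
  have hyx : pullback.fst f (extMap k K) y = x := hy
  rcases h.smooth_or_node y with hs | hn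
  · exact Or.inl ((exists_smooth_nhd_iff f x).2 (hyx ▸ (mem_smoothLocus_bc_iff f K y).1 hs))
  · refine Or.inr (hyx ▸ (nodeVia_bc_iff (AlgebraicClosure K) f (fun z => ?_) y).2 hn)
    obtain ⟨w, hw, hmax⟩ := VarDim.exists_generic_of_component (irreducibleComponent_mem_irreducibleComponents z)
    have h1 := (comps_iff f).1 hcomps w hmax
    exact h1 ▸ VarDim.deg_le_of_specializes f (specializes_iff_mem_closure.2 (by rw [← hw]; exact mem_irreducibleComponent))

/-- A regular nodal curve is smooth. -/
theorem NodalCurve.smooth_of_regular (h : NodalCurve f) (hreg : ∀ x : X, IsRegularLocalRing (X.presheaf.stalk x)) :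
    Smooth f := by
  refine Scheme.Hom.smoothLocus_eq_top_iff.1 (top_le_iff.1 fun x _ => ?_)
  exact (h.smooth_or_node x).resolve_right fun hn => not_isRegular_of_nodeVia f hn (hreg x)

section Family

variable {S S' : Scheme.{u}}

/-- The fibre of a base change is the base change of the fibre. -/
theorem nodalCurve_fiber_baseChange_iff {Y : Scheme.{u}} (q : Y ⟶ S) [LocallyOfFiniteType q] (g : S' ⟶ S) (s' : S') :
    letI : Algebra (S.residueField (g s')) (S'.residueField s') := (g.residueFieldMap s').hom.toAlgebra
    NodalCurve (k := S'.residueField s') ((pullback.snd q g).fiberToSpecResidueField s') ↔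
      NodalCurve (k := S'.residueField s')
        (pullback.snd (q.fiberToSpecResidueField (g s')) (extMap (S.residueField (g s')) (S'.residueField s'))) := by
  letI : Algebra (S.residueField (g s')) (S'.residueField s') := (g.residueFieldMap s').hom.toAlgebra
  have he : extMap (S.residueField (g s')) (S'.residueField s') ≫ S.fromSpecResidueField (g s') =
      S'.fromSpecResidueField s' ≫ g := Scheme.Hom.SpecMap_residueFieldMap_fromSpecResidueField g s'
  let e : (pullback.snd q g).fiber s' ≅
      pullback (q.fiberToSpecResidueField (g s')) (extMap (S.residueField (g s')) (S'.residueField s')) :=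
    pullbackLeftPullbackSndIso q g (S'.fromSpecResidueField s') ≪≫ pullback.congrHom rfl he.symm ≪≫
      (pullbackLeftPullbackSndIso q (S.fromSpecResidueField (g s'))
        (extMap (S.residueField (g s')) (S'.residueField s'))).symm
  have h2 : e.hom ≫ pullback.snd (q.fiberToSpecResidueField (g s'))
      (extMap (S.residueField (g s')) (S'.residueField s')) = (pullback.snd q g).fiberToSpecResidueField s' := by
    simp [e, pullback.congrHom, pullback.map, Scheme.Hom.fiberToSpecResidueField]
  constructor
  · intro h
    have := h.comp_etale e.inv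
    rwa [← h2, ← Category.assoc, e.inv_hom_id, Category.id_comp] at this
  · intro h
    have := h.comp_etale e.hom
    rwa [h2] at this

/-- Nodal families base change. -/
theorem isNodalFamily_baseChange (q : X ⟶ S) (hq : Curv2.IsNodalFamily q) (g : S' ⟶ S) :
    Curv2.IsNodalFamily (pullback.snd q g) := by
  rw [isNodalFamily_iff] at hq ⊢
  obtain ⟨hflat, hlfp, hfib⟩ := hq
  haveI := hflat; haveI := hlfp
  refine ⟨inferInstance, inferInstance, fun s' => ?_⟩
  letI : Algebra (S.residueField (g s')) (S'.residueField s') := (g.residueFieldMap s').hom.toAlgebra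
  rw [nodalCurve_fiber_baseChange_iff]
  haveI := lfp_of_lft (k := S.residueField (g s')) (q.fiberToSpecResidueField (g s'))
  exact (hfib (g s')).bc (k := S.residueField (g s')) _

/-- Nodal families descend along flat quasi-compact surjective maps. -/
theorem isNodalFamily_of_baseChange (q : X ⟶ S) (g : S' ⟶ S) [Flat g] [QuasiCompact g] [Surjective g]
    (h : Curv2.IsNodalFamily (pullback.snd q g)) : Curv2.IsNodalFamily q := by
  rw [isNodalFamily_iff] at h
  obtain ⟨hflat, hlfp, hfib⟩ := h
  haveI : LocallyOfFinitePresentation q :=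
    MorphismProperty.of_pullback_snd_of_descendsAlong (Q := @Surjective ⊓ @Flat ⊓ @QuasiCompact) (f := q) (g := g)
      ⟨⟨‹_›, ‹_›⟩, ‹_›⟩ hlfp
  haveI : Flat q := by
    refine GrpdLib.flat_of_flat_comp (pullback.fst q g) q ?_
    rw [pullback.condition]
    haveI := hflat
    infer_instance
  rw [isNodalFamily_iff]
  refine ⟨inferInstance, inferInstance, fun s => ?_⟩
  obtain ⟨s', rfl⟩ := g.surjective s
  letI : Algebra (S.residueField (g s')) (S'.residueField s') := (g.residueFieldMap s').hom.toAlgebra
  haveI := lfp_of_lft (k := S.residueField (g s')) (q.fiberToSpecResidueField (g s'))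
  exact NodalCurve.of_bc (k := S.residueField (g s')) (S'.residueField s')
    ((nodalCurve_fiber_baseChange_iff q g s').1 (hfib s'))

end Family

end

end Groth.Agent.NodeFam
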