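import Groth.Agent.NodeFam.Crit
import Groth.Agent.PSLib.Regular
import Groth.Agent.Adic7.Lift
import Groth.Agent.LC.CanonComplete
import Groth.Prelude.Def_CurvBase
import Mathlib.RingTheory.Ideal.Quotient.Operations

/-!
# Ordinary double points and the numerical criterion
-/

set_option autoImplicit false
set_option linter.style.haveILetI false

universe u

open IsLocalRing

namespace Groth.Agent.NodeFam

noncomputable section

variable (K : Type u) [Field K]

/-- The ring of the standard node. -/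
abbrev NodeQuot : Type u := PS2 K ⧸ nodeIdeal K

/-- The ideal of the origin of the standard node. -/
abbrev nodeOrigin : Ideal (NodeQuot K) := (PSLib.vars 2 K).map (Ideal.Quotient.mk (nodeIdeal K))

/-- The standard node satisfies the criterion. -/
theorem nodeCrit_origin : NodeCrit K (nodeOrigin K) := by
  refine ⟨fun n => ?_, Ideal.Quotient.mk _ (MvPowerSeries.X 0), Ideal.Quotient.mk _ (MvPowerSeries.X 1), ?_, ?_⟩
  · rw [nodeOrigin, ← Ideal.map_pow, ← (finrank_trunc (K := K) n).1]
    exact LinearEquiv.finrank_eq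
      (DoubleQuot.quotQuotEquivQuotSupₐ K (nodeIdeal K) (PSLib.vars 2 K ^ (n + 1))).toLinearEquiv
  · have h : nodeOrigin K = Ideal.span
        {Ideal.Quotient.mk (nodeIdeal K) (MvPowerSeries.X 0), Ideal.Quotient.mk (nodeIdeal K) (MvPowerSeries.X 1)} := by
      rw [nodeOrigin, vars_eq, Ideal.map_span, Set.image_pair]
    rw [h, sup_eq_left]
    exact Ideal.pow_le_self two_ne_zero
  · rw [← map_mul, Ideal.Quotient.eq_zero_iff_mem.2 (Ideal.mem_span_singleton_self _)]
    exact zero_mem _

variable {K} {A : Type u} [CommRing A] [IsLocalRing A] [IsNoetherianRing A] [Algebra K A]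

theorem algebraMap_completion (c : K) :
    algebraMap K (AdicCompletion (maximalIdeal A) A) c =
      algebraMap A (AdicCompletion (maximalIdeal A) A) (algebraMap K A c) :=
  IsScalarTower.algebraMap_apply K A (AdicCompletion (maximalIdeal A) A) c

/-- The criterion is insensitive to completion. -/
theorem nodeCrit_completion_iff :
    NodeCrit K (maximalIdeal A) ↔ NodeCrit K (maximalIdeal (AdicCompletion (maximalIdeal A) A)) := by
  refine nodeCrit_iff (IsScalarTower.toAlgHom K A (AdicCompletion (maximalIdeal A) A)) ?_ (fun n a ha => ?_)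
    fun n b => ?_
  · exact le_of_eq AdicCompletion.maximalIdeal_eq_map.symm
  · change algebraMap A _ a ∈ _ at ha
    rw [AdicCompletion.maximalIdeal_eq_map, ← Ideal.map_pow] at ha
    have hle : (maximalIdeal A ^ n).map (algebraMap A (AdicCompletion (maximalIdeal A) A)) ≤
        RingHom.ker (AdicCompletion.evalₐ (maximalIdeal A) n).toRingHom := by
      rw [Ideal.map_le_iff_le_comap]
      intro r hr
      show AdicCompletion.evalₐ (maximalIdeal A) n (algebraMap A _ r) = 0
      rw [AlgHom.commutes]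
      exact Ideal.Quotient.eq_zero_iff_mem.2 hr
    have h0 : AdicCompletion.evalₐ (maximalIdeal A) n (algebraMap A _ a) = 0 := hle ha
    rw [AlgHom.commutes] at h0
    exact Ideal.Quotient.eq_zero_iff_mem.1 h0
  · obtain ⟨a, ha⟩ := Adic7.exists_sub_algebraMap_mem (maximalIdeal A) (IsNoetherian.noetherian _) b n
    refine ⟨a, ?_⟩
    show b - algebraMap A _ a ∈ _
    rw [AdicCompletion.maximalIdeal_eq_map]
    exact ha

/-- An ordinary double point satisfies the criterion. -/
theorem nodeCrit_of_isOrdDoublePt (h : Curv2.IsOrdDoublePt K A) : NodeCrit K (maximalIdeal A) := by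
  obtain ⟨e, he⟩ := h
  rw [nodeCrit_completion_iff]
  let φ : AdicCompletion (maximalIdeal A) A ≃ₐ[K] NodeQuot K := AlgEquiv.ofRingEquiv (f := e) (fun c => by
    rw [algebraMap_completion, he]
    rfl)
  have hmax := (nodeCrit_origin K).isMaximal
  have hmap : (maximalIdeal (AdicCompletion (maximalIdeal A) A)).map φ.toAlgHom = nodeOrigin K := by
    have h2 : (nodeOrigin K).comap φ.toAlgHom = maximalIdeal (AdicCompletion (maximalIdeal A) A) :=
      IsLocalRing.eq_maximalIdeal (Ideal.comap_isMaximal_of_surjective φ.toAlgHom φ.surjective)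
    rw [← h2]; exact Ideal.map_comap_of_surjective _ φ.surjective _
  refine (nodeCrit_iff φ.toAlgHom hmap.le (fun n a ha => ?_) fun n b => ?_).2 (nodeCrit_origin K)
  · rw [← hmap, ← Ideal.map_pow, Ideal.mem_map_iff_of_surjective φ.toAlgHom φ.surjective] at ha
    obtain ⟨a', ha', hea⟩ := ha
    rwa [← φ.injective hea]
  · obtain ⟨a, rfl⟩ := φ.surjective b
    exact ⟨a, by simp⟩

/-- The criterion produces an ordinary double point. -/
theorem isOrdDoublePt_of_nodeCrit (h : NodeCrit K (maximalIdeal A)) : Curv2.IsOrdDoublePt K A := by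
  rw [nodeCrit_completion_iff] at h
  haveI : IsNoetherianRing (AdicCompletion (maximalIdeal A) A) := LC.Canon.isNoetherianRing_completion (R := A)
  obtain ⟨x, y, hspan, hxy⟩ := h.2
  set N := maximalIdeal (AdicCompletion (maximalIdeal A) A) with hN
  have hjac : N ≤ Ideal.jacobson ⊥ := (IsLocalRing.jacobson_eq_maximalIdeal ⊥ bot_ne_top).ge
  have nak : ∀ u v : AdicCompletion (maximalIdeal A) A, u - x ∈ N ^ 2 → v - y ∈ N ^ 2 →
      Ideal.span {u, v} = N := by
    intro u v hu hv
    have h1 : Ideal.span {u, v} ⊔ N ^ 2 = N := by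
      refine le_antisymm (sup_le ?_ (Ideal.pow_le_self two_ne_zero)) (hspan.ge.trans (sup_le ?_ le_sup_right))
      · rw [Ideal.span_le]
        rintro z (rfl | rfl)
        · show z ∈ N
          rw [← sub_add_cancel z x]
          exact add_mem (Ideal.pow_le_self two_ne_zero hu) (hspan ▸ Ideal.mem_sup_left (Ideal.subset_span (by simp)))
        · show z ∈ N
          rw [← sub_add_cancel z y]
          exact add_mem (Ideal.pow_le_self two_ne_zero hv) (hspan ▸ Ideal.mem_sup_left (Ideal.subset_span (by simp)))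
      · rw [Ideal.span_le]
        rintro z (rfl | rfl)
        · show z ∈ Ideal.span {u, v} ⊔ N ^ 2
          rw [← sub_sub_cancel u z]
          exact sub_mem (Ideal.mem_sup_left (Ideal.subset_span (by simp))) (Ideal.mem_sup_right hu)
        · show z ∈ Ideal.span {u, v} ⊔ N ^ 2
          rw [← sub_sub_cancel v z]
          exact sub_mem (Ideal.mem_sup_left (Ideal.subset_span (by simp))) (Ideal.mem_sup_right hv)
    refine le_antisymm (le_sup_left.trans h1.le) (Submodule.le_of_le_smul_of_le_jacobson_bot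
      (IsNoetherian.noetherian _) hjac ?_)
    rw [smul_eq_mul, ← sq]
    exact h1.ge
  -- successive corrections
  let St : ℕ → AdicCompletion (maximalIdeal A) A × AdicCompletion (maximalIdeal A) A → Prop := fun n s =>
    s.1 - x ∈ N ^ 2 ∧ s.2 - y ∈ N ^ 2 ∧ s.1 * s.2 ∈ N ^ (n + 3)
  have hnext : ∀ (n : ℕ) (s : AdicCompletion (maximalIdeal A) A × AdicCompletion (maximalIdeal A) A), St n s →
      ∃ s', St (n + 1) s' ∧ s'.1 - s.1 ∈ N ^ (n + 2) ∧ s'.2 - s.2 ∈ N ^ (n + 2) := by
    rintro n ⟨u, v⟩ ⟨hu, hv, huv⟩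
    have h1 : u * v ∈ N ^ (n + 2) * Ideal.span {u, v} := by
      rw [nak u v hu hv, ← pow_succ]; exact huv
    rw [Ideal.span_insert, Ideal.mul_sup, Submodule.mem_sup] at h1
    obtain ⟨p, hp, q, hq, hpq⟩ := h1
    obtain ⟨a, ha, rfl⟩ := Ideal.mem_mul_span_singleton.1 hp
    obtain ⟨b, hb, rfl⟩ := Ideal.mem_mul_span_singleton.1 hq
    have hle : N ^ (n + 2) ≤ N ^ 2 := Ideal.pow_le_pow_right (by omega)
    refine ⟨(u - b, v - a), ⟨?_, ?_, ?_⟩, ?_, ?_⟩
    · show u - b - x ∈ N ^ 2
      rw [sub_right_comm]; exact sub_mem hu (hle hb)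
    · show v - a - y ∈ N ^ 2
      rw [sub_right_comm]; exact sub_mem hv (hle ha)
    · show (u - b) * (v - a) ∈ N ^ (n + 1 + 3)
      have e : (u - b) * (v - a) = b * a := by linear_combination -hpq
      rw [e]
      exact Ideal.pow_le_pow_right (by omega) ((pow_add N (n + 2) (n + 2)).symm ▸ Ideal.mul_mem_mul hb ha)
    · show u - b - u ∈ N ^ (n + 2)
      rw [sub_sub_cancel_left]; exact neg_mem hb
    · show v - a - v ∈ N ^ (n + 2)
      rw [sub_sub_cancel_left]; exact neg_mem ha
  choose! next hN1 hN2 hN3 using hnext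
  let s : ℕ → AdicCompletion (maximalIdeal A) A × AdicCompletion (maximalIdeal A) A :=
    fun n => Nat.rec (x, y) (fun n p => next n p) n
  have hs : ∀ n, St n (s n) := by
    intro n
    induction n with
    | zero => exact ⟨by simp [s], by simp [s], hxy⟩
    | succ n ih => exact hN1 n (s n) ih
  have lim : ∀ f : ℕ → AdicCompletion (maximalIdeal A) A, (∀ n, f (n + 1) - f n ∈ N ^ (n + 2)) →
      ∃ L, ∀ n, f n - L ∈ N ^ n := by
    intro f hf
    have hc : ∀ {m n}, m ≤ n → f m ≡ f n [SMOD (N ^ m • ⊤ :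
        Submodule (AdicCompletion (maximalIdeal A) A) (AdicCompletion (maximalIdeal A) A))] := by
      intro m n hmn
      rw [SModEq.sub_mem, smul_eq_mul, Ideal.mul_top]
      induction hmn with
      | refl => simp
      | @step l hml ih =>
        rw [← sub_add_sub_cancel (f m) (f l) (f (l + 1))]
        exact add_mem ih (Ideal.pow_le_pow_right (le_trans hml (Nat.le_add_right l 2))
          (by rw [← neg_sub]; exact neg_mem (hf l)))
    obtain ⟨L, hL⟩ := IsPrecomplete.prec' (I := N) f hc
    exact ⟨L, fun n => by simpa [SModEq.sub_mem, smul_eq_mul] using hL n⟩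
  obtain ⟨u', hu'⟩ := lim (fun n => (s n).1) fun n => hN2 n _ (hs n)
  obtain ⟨v', hv'⟩ := lim (fun n => (s n).2) fun n => hN3 n _ (hs n)
  have hprod : u' * v' = 0 := by
    refine IsHausdorff.haus' (I := N) _ fun n => ?_
    rw [SModEq.zero, smul_eq_mul, Ideal.mul_top]
    have e : u' * v' = (s n).1 * (s n).2 - ((s n).1 - u') * (s n).2 - u' * ((s n).2 - v') := by ring
    rw [e]
    exact sub_mem (sub_mem (Ideal.pow_le_pow_right (by omega) (hs n).2.2)
      (Ideal.mul_mem_right _ _ (hu' n))) (Ideal.mul_mem_left _ _ (hv' n))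
  have hgen : Ideal.span {u', v'} = N := by
    refine nak u' v' ?_ ?_
    · rw [← sub_sub_sub_cancel_left x u' (s 2).1]
      exact sub_mem (hs 2).1 (hu' 2)
    · rw [← sub_sub_sub_cancel_left y v' (s 2).2]
      exact sub_mem (hs 2).2.1 (hv' 2)
  -- the comparison map
  obtain ⟨ψ, hψ⟩ := PSLib.exists_algHom (R := K) N ![u', v'] (by
    intro i; rw [← hgen]
    fin_cases i <;> exact Ideal.subset_span (by simp))
  have hψ0 : ψ (MvPowerSeries.X 0) = u' := by simpa using hψ 0
  have hψ1 : ψ (MvPowerSeries.X 1) = v' := by simpa using hψ 1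
  have hψN : ∀ i, ψ (MvPowerSeries.X i) ∈ N := by
    intro i; rw [hψ, ← hgen]
    fin_cases i <;> exact Ideal.subset_span (by simp)
  have hsurj : Function.Surjective ψ := by
    refine PSLib.surjective_of_span ?_ ψ hψN (hgen.ge.trans (le_trans ?_ le_sup_left))
    · intro r
      obtain ⟨r, rfl⟩ := IsLocalRing.residue_surjective r
      obtain ⟨c, hc⟩ := h.exists_sub_mem r
      exact ⟨c, (Ideal.Quotient.eq.2 hc).symm⟩
    · refine Ideal.span_mono ?_
      rintro z (rfl | rfl)
      exacts [⟨0, hψ0⟩, ⟨1, hψ1⟩]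
  have hker0 : ∀ f ∈ nodeIdeal K, ψ f = 0 := by
    intro f hf
    obtain ⟨g, rfl⟩ := Ideal.mem_span_singleton'.1 hf
    rw [map_mul, map_mul, hψ0, hψ1, hprod, mul_zero]
  let ψb : NodeQuot K →ₐ[K] AdicCompletion (maximalIdeal A) A := Ideal.Quotient.liftₐ (nodeIdeal K) ψ hker0
  have hbij : Function.Bijective ψb := by
    refine ⟨?_, fun c => ?_⟩
    swap
    · obtain ⟨f, rfl⟩ := hsurj c
      exact ⟨Ideal.Quotient.mk _ f, rfl⟩
    rw [injective_iff_map_eq_zero]
    intro z hz
    obtain ⟨f, rfl⟩ := Ideal.Quotient.mk_surjective z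
    rw [Ideal.Quotient.eq_zero_iff_mem]
    refine mem_nodeIdeal_of_forall f fun n => ?_
    haveI := (finrank_trunc (K := K) n).2
    haveI := h.finiteDimensional n
    have hle : truncIdeal K (n + 1) ≤ (N ^ (n + 1)).comap ψ := by
      refine sup_le (fun g hg => ?_) fun g hg => PSLib.map_pow_le ψ hψN (n + 1) (Ideal.mem_map_of_mem _ hg)
      show ψ g ∈ N ^ (n + 1)
      rw [hker0 g hg]; exact zero_mem _
    let q := (Ideal.quotientMapₐ (N ^ (n + 1)) ψ hle).toLinearMap
    have hq : Function.Surjective q := fun c => by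
      obtain ⟨c, rfl⟩ := Ideal.Quotient.mk_surjective c
      obtain ⟨g, rfl⟩ := hsurj c
      exact ⟨Ideal.Quotient.mk _ g, rfl⟩
    have hinj : Function.Injective q :=
      (LinearMap.injective_iff_surjective_of_finrank_eq_finrank (by rw [(finrank_trunc n).1, h.1 n])).2 hq
    refine Ideal.Quotient.eq_zero_iff_mem.1 (hinj ?_)
    rw [map_zero]
    show Ideal.Quotient.mk _ (ψ f) = 0
    rw [show ψ f = 0 from hz, map_zero]
  refine ⟨(AlgEquiv.ofBijective ψb hbij).symm.toRingEquiv, fun c => ?_⟩
  rw [← algebraMap_completion]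
  exact (AlgEquiv.ofBijective ψb hbij).symm.commutes c

/-- The criterion characterises ordinary double points. -/
theorem isOrdDoublePt_iff_nodeCrit : Curv2.IsOrdDoublePt K A ↔ NodeCrit K (maximalIdeal A) :=
  ⟨nodeCrit_of_isOrdDoublePt, isOrdDoublePt_of_nodeCrit⟩

end

end Groth.Agent.NodeFam
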