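import Groth.Agent.NodeFam.ODP
import Groth.Agent.GrpSchLib.FieldDim
import Groth.Agent.MorLib.WeightFlat
import Groth.Agent.GeomField.Connected
import Mathlib.FieldTheory.IsAlgClosed.AlgebraicClosure

/-!
# Nodes through an arbitrary algebraic closure, and étale maps
-/

set_option autoImplicit false
set_option backward.isDefEq.respectTransparency false
set_option backward.isDefEq.respectTransparency.types false
set_option linter.style.haveILetI false
set_option linter.unusedSectionVars false

universe u

open CategoryTheory CategoryTheory.Limits AlgebraicGeometry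

namespace Groth.Agent.NodeFam

noncomputable section

variable {k : Type u} [Field k] {X Y : Scheme.{u}}

/-- The map of spectra of a field extension. -/
abbrev extMap (k K : Type u) [Field k] [Field K] [Algebra k K] :
    Spec (CommRingCat.of K) ⟶ Spec (CommRingCat.of k) :=
  Spec.map (CommRingCat.ofHom (algebraMap k K))

/-- A node, seen over a given extension of the base field. -/
def NodeVia (K : Type u) [Field K] [Algebra k K] (f : X ⟶ Spec (CommRingCat.of k)) (x : X) : Prop :=
  IsClosed ({x} : Set X) ∧
    ∃ z : ↥(pullback f (extMap k K)), pullback.fst f (extMap k K) z = x ∧ ODPAt K (pullback.snd f (extMap k K)) z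

/-- The definition of a node, seen through `NodeVia`. -/
theorem isNode_iff [X.Over (Spec (CommRingCat.of k))] (x : X) :
    Curv2.IsNode k X x ↔ NodeVia (AlgebraicClosure k) (X ↘ Spec (CommRingCat.of k)) x := Iff.rfl

theorem isIntegralHom_fst (K : Type u) [Field K] [Algebra k K] [Algebra.IsAlgebraic k K]
    (f : X ⟶ Spec (CommRingCat.of k)) : IsIntegralHom (pullback.fst f (extMap k K)) := by
  haveI : IsIntegralHom (extMap k K) := by
    rw [IsIntegralHom.SpecMap_iff]
    exact Algebra.IsIntegral.isIntegral
  infer_instance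

/-- A point over a closed point in an algebraic extension of the base is closed. -/
theorem isClosed_of_fst (K : Type u) [Field K] [Algebra k K] [Algebra.IsAlgebraic k K]
    (f : X ⟶ Spec (CommRingCat.of k)) [LocallyOfFiniteType f] (z : ↥(pullback f (extMap k K)))
    (hz : IsClosed ({pullback.fst f (extMap k K) z} : Set X)) : IsClosed ({z} : Set ↥(pullback f (extMap k K))) := by
  haveI := isIntegralHom_fst K f
  haveI : JacobsonSpace ↥(pullback f (extMap k K)) :=
    LocallyOfFiniteType.jacobsonSpace (pullback.snd f (extMap k K))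
  obtain ⟨w, hw, hwc⟩ := nonempty_inter_closedPoints (Z := closure ({z} : Set ↥(pullback f (extMap k K))))
    ((Set.singleton_nonempty z).closure) isClosed_closure.isLocallyClosed
  have hsp : z ⤳ w := specializes_iff_mem_closure.2 hw
  have he : pullback.fst f (extMap k K) w = pullback.fst f (extMap k K) z :=
    Set.mem_singleton_iff.1 ((hsp.map (pullback.fst f (extMap k K)).continuous).mem_closed hz (Set.mem_singleton _))
  rw [GrpSchLib.eq_of_specializes_of_isIntegralHom _ hsp he.symm]
  exact hwc

/-- Under an étale map a point is closed iff its image is. -/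
theorem isClosed_iff_of_etale (π : Y ⟶ X) [Etale π] (f : X ⟶ Spec (CommRingCat.of k)) [LocallyOfFiniteType f]
    (y : Y) : IsClosed ({π y} : Set X) ↔ IsClosed ({y} : Set Y) := by
  haveI : JacobsonSpace X := LocallyOfFiniteType.jacobsonSpace f
  haveI : JacobsonSpace Y := LocallyOfFiniteType.jacobsonSpace (π ≫ f)
  refine ⟨fun h => ?_, fun h => π.closePoints_subset_preimage_closedPoints h⟩
  haveI : LocallyQuasiFinite π := MorLib.WT.locallyQuasiFinite_of_etale π
  obtain ⟨U, hU, hUy⟩ := isDiscrete_iff_forall_exists_isOpen.1 (π.isDiscrete_preimage_singleton (π y)) y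
    (Set.mem_preimage.2 (Set.mem_singleton _))
  refine isClosed_singleton_of_isLocallyClosed_singleton ?_
  rw [← hUy]
  exact hU.isLocallyClosed.inter (h.preimage π.continuous).isLocallyClosed

/-- Étale maps preserve and reflect nodes. -/
theorem nodeVia_iff_of_etale (K : Type u) [Field K] [Algebra k K] [IsAlgClosed K] [Algebra.IsAlgebraic k K]
    (π : Y ⟶ X) [Etale π] (f : X ⟶ Spec (CommRingCat.of k)) (g : Y ⟶ Spec (CommRingCat.of k))
    [LocallyOfFiniteType f] (w : π ≫ f = g) (y : Y) : NodeVia K f (π y) ↔ NodeVia K g y := by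
  subst w
  let m : pullback (π ≫ f) (extMap k K) ⟶ pullback f (extMap k K) :=
    pullback.map _ _ _ _ π (𝟙 _) (𝟙 _) (by simp) (by simp)
  have hm1 : m ≫ pullback.fst f (extMap k K) = pullback.fst (π ≫ f) (extMap k K) ≫ π := pullback.lift_fst _ _ _
  have hm2 : m ≫ pullback.snd f (extMap k K) = pullback.snd (π ≫ f) (extMap k K) :=
    (pullback.lift_snd _ _ _).trans (Category.comp_id _)
  have hsq : IsPullback m (pullback.fst (π ≫ f) (extMap k K)) (pullback.fst f (extMap k K)) π :=
    IsPullback.of_right (by rw [hm2]; exact (IsPullback.of_hasPullback (π ≫ f) (extMap k K)).flip)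
      hm1 (IsPullback.of_hasPullback f (extMap k K)).flip
  haveI : Etale m := MorphismProperty.of_isPullback (P := @Etale) hsq.flip ‹Etale π›
  constructor
  · rintro ⟨hc, z, hz, hodp⟩
    have hy := (isClosed_iff_of_etale π f y).1 hc
    obtain ⟨z', hz'1, hz'2⟩ := Scheme.exists_preimage_of_isPullback hsq z y hz
    refine ⟨hy, z', hz'2, (odpAt_iff_of_etale m (pullback.snd f (extMap k K)) _ hm2 z'
      (isClosed_of_fst K (π ≫ f) z' (by rw [hz'2]; exact hy))).1 ?_⟩
    rw [hz'1]; exact hodp
  · rintro ⟨hy, z', hz', hodp⟩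
    refine ⟨(isClosed_iff_of_etale π f y).2 hy, m z', ?_, (odpAt_iff_of_etale m (pullback.snd f (extMap k K)) _ hm2 z'
      (isClosed_of_fst K (π ≫ f) z' (by rw [hz']; exact hy))).2 hodp⟩
    rw [← Scheme.Hom.comp_apply, hm1, Scheme.Hom.comp_apply, hz']

/-- The comparison of pullbacks along an isomorphism of extensions. -/
theorem nodeVia_iff_of_algEquiv (K L : Type u) [Field K] [Algebra k K] [Field L] [Algebra k L] (σ : K ≃ₐ[k] L)
    (f : X ⟶ Spec (CommRingCat.of k)) [LocallyOfFiniteType f] (x : X) : NodeVia K f x ↔ NodeVia L f x := by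
  suffices h : ∀ (K L : Type u) [Field K] [Algebra k K] [Field L] [Algebra k L] (σ : K ≃ₐ[k] L),
      NodeVia K f x → NodeVia L f x from ⟨h K L σ, h L K σ.symm⟩
  intro K L _ _ _ _ σ
  rintro ⟨hc, z, hz, hodp⟩
  let s : Spec (CommRingCat.of L) ⟶ Spec (CommRingCat.of K) := Spec.map (CommRingCat.ofHom σ.toRingEquiv.toRingHom)
  haveI : IsIso s := by
    haveI : IsIso (CommRingCat.ofHom σ.toRingEquiv.toRingHom) :=
      (ConcreteCategory.isIso_iff_bijective _).2 σ.bijective
    infer_instance
  have hs : extMap k L = s ≫ extMap k K := by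
    rw [← Spec.map_comp, ← CommRingCat.ofHom_comp]
    exact congrArg (fun φ => Spec.map (CommRingCat.ofHom φ)) (RingHom.ext fun c => (σ.commutes c).symm)
  let m : pullback f (extMap k L) ⟶ pullback f (extMap k K) :=
    pullback.map _ _ _ _ (𝟙 _) s (𝟙 _) (by simp) (by rw [Category.comp_id, hs])
  obtain ⟨z', rfl⟩ : ∃ z', m z' = z := ⟨inv m z, by
    rw [← Scheme.Hom.comp_apply, IsIso.inv_hom_id]; rfl⟩
  refine ⟨hc, z', ?_, (odpAt_iff_of_stalk_iso m (pullback.snd f (extMap k K)) _ σ.toRingEquiv
    (pullback.lift_snd _ _ _) z' (ConcreteCategory.bijective_of_isIso (m.stalkMap z'))).1 hodp⟩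
  rw [← hz, ← Scheme.Hom.comp_apply, pullback.lift_fst, Category.comp_id]

/-- Any algebraic closure computes the nodes. -/
theorem isNode_iff_nodeVia [X.Over (Spec (CommRingCat.of k))]
    [LocallyOfFiniteType (X ↘ Spec (CommRingCat.of k))] (K : Type u) [Field K] [Algebra k K] [IsAlgClosure k K]
    (x : X) : Curv2.IsNode k X x ↔ NodeVia K (X ↘ Spec (CommRingCat.of k)) x :=
  (isNode_iff x).trans (nodeVia_iff_of_algEquiv _ K (IsAlgClosure.equiv k (AlgebraicClosure k) K) _ x)

end

end Groth.Agent.NodeFam
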