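import Groth.Agent.NodeFam.QuadCrit
import Mathlib.RingTheory.Nakayama
import Mathlib.RingTheory.Regular.IsSMulRegular

/-!
# Local rings of depth one with a quadratic relation

A local ring with a regular element in its maximal ideal, residue field `K`, two generators of the
maximal ideal and a quadratic relation between them has the truncations of a node, unless it is
regular: each power of the maximal ideal is generated by two elements and, by invertibility, by no
fewer.
-/

set_option autoImplicit false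
set_option linter.style.haveILetI false

universe u

open IsLocalRing

namespace Groth.Agent.NodeFam

noncomputable section

variable {K : Type u} [Field K] {C : Type u} [CommRing C] [IsLocalRing C] [IsNoetherianRing C] [Algebra K C]

/-- If a power of the maximal ideal is generated by one element and the ring has depth one, then the
maximal ideal is principal. -/
theorem exists_eq_span_singleton {t : C} (ht : t ∈ maximalIdeal C) (hreg : IsSMulRegular C t) {n : ℕ} {w : C}
    (hw : w ∈ maximalIdeal C ^ (n + 1))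
    (h : maximalIdeal C ^ (n + 1) ≤ Ideal.span {w} ⊔ maximalIdeal C ^ (n + 2)) :
    ∃ a, maximalIdeal C = Ideal.span {a} := by
  set N := maximalIdeal C with hN
  have heq : N ^ (n + 1) = Ideal.span {w} := by
    refine le_antisymm (Submodule.le_of_le_smul_of_le_jacobson_bot (IsNoetherian.noetherian _)
      (IsLocalRing.jacobson_eq_maximalIdeal ⊥ bot_ne_top).ge ?_) ((Ideal.span_singleton_le_iff_mem _).2 hw)
    rwa [smul_eq_mul, ← pow_succ']
  have htn : t ^ (n + 1) ∈ Ideal.span {w} := heq ▸ Ideal.pow_mem_pow ht _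
  obtain ⟨r, hr⟩ := Ideal.mem_span_singleton'.1 htn
  have hwreg : ∀ z, z * w = 0 → z = 0 := fun z hz => (hreg.pow (n + 1)).right_eq_zero_of_smul (by
    rw [smul_eq_mul, ← hr, mul_assoc, mul_comm w z, hz, mul_zero])
  obtain ⟨a, ha, b, hb, hab⟩ : ∃ a ∈ N, ∃ b ∈ N ^ n, a * b ∉ N * Ideal.span {w} := by
    by_contra hcon
    push Not at hcon
    have hmem : w ∈ N * Ideal.span {w} :=
      (Ideal.mul_le.2 fun a ha b hb => hcon a ha b hb) (by rw [← pow_succ']; exact hw)
    obtain ⟨p, hp, hpw⟩ := Ideal.mem_mul_span_singleton.1 hmem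
    have h0 := hwreg (1 - p) (by rw [sub_mul, one_mul, hpw, sub_self])
    rw [sub_eq_zero] at h0
    exact (maximalIdeal.isMaximal C).ne_top ((Ideal.eq_top_iff_one _).2 (h0 ▸ hp))
  have habN : a * b ∈ Ideal.span {w} := heq ▸ (pow_succ' N n).symm ▸ Ideal.mul_mem_mul ha hb
  obtain ⟨e, he⟩ := Ideal.mem_span_singleton'.1 habN
  have heu : IsUnit e := by
    by_contra hu
    exact hab (he ▸ Ideal.mul_mem_mul (show e ∈ N from hu) (Ideal.mem_span_singleton_self w))
  obtain ⟨v, hv⟩ := heu.exists_left_inv
  have habreg : ∀ z, z * (a * b) = 0 → z = 0 := fun z hz => by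
    have h0 := hwreg (z * e) (by rw [mul_assoc, he, hz])
    calc z = z * e * v := by rw [mul_assoc, mul_comm e, hv, mul_one]
      _ = 0 := by rw [h0, zero_mul]
  refine ⟨a, le_antisymm (fun z hz => ?_) ((Ideal.span_singleton_le_iff_mem _).2 ha)⟩
  have hzb : z * b ∈ Ideal.span {w} := heq ▸ (pow_succ' N n).symm ▸ Ideal.mul_mem_mul hz hb
  obtain ⟨s, hs⟩ := Ideal.mem_span_singleton'.1 hzb
  refine Ideal.mem_span_singleton'.2 ⟨s * v, ?_⟩
  have h0 : (z - s * v * a) * (a * b) = 0 := by
    have e1 : s * v * (a * b) = z * b := by rw [← hs, ← he]; linear_combination (s * w) * hv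
    linear_combination (-a) * e1
  exact (sub_eq_zero.1 (habreg _ h0)).symm

variable {x y : C} {a b c : K}

/-- Two generators of each power of the maximal ideal. -/
theorem pow_le_of_quad (hspan : Ideal.span {x, y} ⊔ maximalIdeal C ^ 2 = maximalIdeal C) (ha : a ≠ 0)
    (hq : quad K a b c x y ∈ maximalIdeal C ^ 3) (n : ℕ) :
    maximalIdeal C ^ (n + 1) ≤ Ideal.span {x * y ^ n, y ^ (n + 1)} ⊔ maximalIdeal C ^ (n + 2) := by
  set N := maximalIdeal C with hN
  have hx : x ∈ N := hspan ▸ Ideal.mem_sup_left (Ideal.subset_span (by simp))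
  have hy : y ∈ N := hspan ▸ Ideal.mem_sup_left (Ideal.subset_span (by simp))
  induction n with
  | zero => simp [hspan.ge]
  | succ n ih =>
    rw [pow_succ N (n + 1)]
    refine (Ideal.mul_mono ih hspan.ge).trans ?_
    rw [Ideal.sup_mul, Ideal.mul_sup, Ideal.span_mul_span']
    refine sup_le (sup_le ?_ ?_) ?_
    · rw [Ideal.span_le]
      rintro z ⟨p, hp, q, hq', rfl⟩
      simp only [Set.mem_insert_iff, Set.mem_singleton_iff] at hp hq'
      show p * q ∈ _
      rcases hp with rfl | rfl <;> rcases hq' with rfl | rfl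
      · have h1 : quad K a b c q y * y ^ n ∈ N ^ (n + 1 + 2) := by
          have := Ideal.mul_mem_mul hq (Ideal.pow_mem_pow hy n)
          rw [← pow_add] at this
          exact Ideal.pow_le_pow_right (by omega) this
        have hi : algebraMap K C a⁻¹ * algebraMap K C a = 1 := by rw [← map_mul, inv_mul_cancel₀ ha, map_one]
        refine Submodule.mem_sup.2 ⟨-(algebraMap K C a⁻¹ * algebraMap K C b) * (q * y ^ (n + 1)) +
          -(algebraMap K C a⁻¹ * algebraMap K C c) * y ^ (n + 1 + 1),
          Ideal.mem_span_pair.2 ⟨_, _, rfl⟩, algebraMap K C a⁻¹ * (quad K a b c q y * y ^ n),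
          Ideal.mul_mem_left _ _ h1, ?_⟩
        simp only [quad]
        linear_combination (q * q * y ^ n) * hi
      · exact Ideal.mem_sup_left (Ideal.subset_span (by simp [pow_succ, mul_assoc]))
      · exact Ideal.mem_sup_left (Ideal.subset_span (by simp [mul_comm]))
      · exact Ideal.mem_sup_left (Ideal.subset_span (by simp [pow_succ]))
    · refine le_trans (Ideal.mul_mono_left (I := Ideal.span {x * y ^ n, y ^ (n + 1)}) (J := N ^ (n + 1)) ?_) ?_
      · rw [Ideal.span_le]
        rintro z (hz | hz) <;> rw [hz]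
        · rw [pow_succ']; exact Ideal.mul_mem_mul hx (Ideal.pow_mem_pow hy n)
        · exact Ideal.pow_mem_pow hy _
      · rw [← pow_add]; exact le_sup_of_le_right le_rfl
    · refine (Ideal.mul_mono_right (hspan.le)).trans ?_
      rw [← pow_succ]
      exact le_sup_right

/-- The criterion from depth one, a quadratic relation and a nonprincipal maximal ideal. -/
theorem quadCrit_of_depth (hres : ∀ r : C, ∃ e : K, r - algebraMap K C e ∈ maximalIdeal C)
    (hspan : Ideal.span {x, y} ⊔ maximalIdeal C ^ 2 = maximalIdeal C) (hD : 4 * a * c - b ^ 2 ≠ 0)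
    (hq : quad K a b c x y ∈ maximalIdeal C ^ 3) {t : C} (ht : t ∈ maximalIdeal C) (hreg : IsSMulRegular C t)
    (hnp : ∀ w, maximalIdeal C ≠ Ideal.span {w}) : QuadCrit K (maximalIdeal C) := by
  refine ⟨?_, x, y, a, b, c, hD, hspan, hq⟩
  -- make the first coefficient nonzero
  obtain ⟨x', y', a', b', c', ha', hspan', hq'⟩ : ∃ (x' y' : C) (a' b' c' : K), a' ≠ 0 ∧
      Ideal.span {x', y'} ⊔ maximalIdeal C ^ 2 = maximalIdeal C ∧ quad K a' b' c' x' y' ∈ maximalIdeal C ^ 3 := by
    by_cases ha : a = 0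
    swap
    · exact ⟨x, y, a, b, c, ha, hspan, hq⟩
    by_cases hc : c = 0
    · have hb : b ≠ 0 := by rintro rfl; simp [ha] at hD
      refine ⟨x, y - x, b, b, 0, hb, ?_, ?_⟩
      · rw [show Ideal.span {x, y - x} = Ideal.span {x, y} by
          refine le_antisymm ?_ ?_ <;> rw [Ideal.span_le] <;> rintro z (hz | hz) <;> rw [hz]
          · exact Ideal.subset_span (by simp)
          · exact sub_mem (Ideal.subset_span (by simp)) (Ideal.subset_span (by simp))
          · exact Ideal.subset_span (by simp)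
          · exact Ideal.mem_span_pair.2 ⟨1, 1, by ring⟩]
        exact hspan
      · convert hq using 1
        simp [quad, ha, hc]; ring
    · refine ⟨y, x, c, b, a, hc, by rwa [Set.pair_comm], ?_⟩
      convert hq using 1
      simp only [quad]; ring
  have hgen := pow_le_of_quad hspan' ha' hq'
  set N := maximalIdeal C with hN
  have hx : x' ∈ N := hspan' ▸ Ideal.mem_sup_left (Ideal.subset_span (by simp))
  have hy : y' ∈ N := hspan' ▸ Ideal.mem_sup_left (Ideal.subset_span (by simp))
  suffices h : ∀ n : ℕ, Module.finrank K (C ⧸ N ^ (n + 1)) = 2 * n + 1 ∧ Module.Finite K (C ⧸ N ^ (n + 1)) from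
    fun n => (h n).1
  intro n
  induction n with
  | zero =>
    let φ : K →ₗ[K] C ⧸ N ^ (0 + 1) := Algebra.linearMap K _
    have hφ : ∀ e, φ e = Ideal.Quotient.mk (N ^ (0 + 1)) (algebraMap K C e) := fun e => rfl
    have hb : Function.Bijective φ := by
      refine ⟨(injective_iff_map_eq_zero φ).2 fun e he => ?_, fun z => ?_⟩
      · rw [hφ, Ideal.Quotient.eq_zero_iff_mem, pow_one] at he
        by_contra h0
        exact he ((isUnit_iff_ne_zero.2 h0).map (algebraMap K C))
      · obtain ⟨r, rfl⟩ := Ideal.Quotient.mk_surjective z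
        obtain ⟨e, he⟩ := hres r
        exact ⟨e, ((Ideal.Quotient.eq.2 (by rwa [pow_one])).trans (hφ e).symm).symm⟩
    let E := LinearEquiv.ofBijective φ hb
    exact ⟨by rw [← E.finrank_eq, Module.finrank_self], Module.Finite.equiv E⟩
  | succ n ih =>
    obtain ⟨ih, hfin⟩ := ih
    let π : (C ⧸ N ^ (n + 1 + 1)) →ₗ[K] C ⧸ N ^ (n + 1) :=
      (Ideal.Quotient.factorₐ K (Ideal.pow_le_pow_right (Nat.le_succ (n + 1)))).toLinearMap
    have hπ : Function.Surjective π :=
      Ideal.Quotient.factor_surjective (Ideal.pow_le_pow_right (Nat.le_succ (n + 1)) : N ^ (n + 1 + 1) ≤ N ^ (n + 1))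
    have hπmk : ∀ r, π (Ideal.Quotient.mk _ r) = Ideal.Quotient.mk (N ^ (n + 1)) r := fun r => rfl
    have hw1 : x' * y' ^ n ∈ N ^ (n + 1) := by rw [pow_succ']; exact Ideal.mul_mem_mul hx (Ideal.pow_mem_pow hy n)
    have hw2 : y' ^ (n + 1) ∈ N ^ (n + 1) := Ideal.pow_mem_pow hy _
    let φ : (Fin 2 → K) →ₗ[K] C ⧸ N ^ (n + 1 + 1) :=
      (Ideal.Quotient.mkₐ K (N ^ (n + 1 + 1))).toLinearMap ∘ₗ
        Fintype.linearCombination K ![x' * y' ^ n, y' ^ (n + 1)]
    have hφ : ∀ v, φ v = Ideal.Quotient.mk (N ^ (n + 1 + 1))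
        (algebraMap K C (v 0) * (x' * y' ^ n) + algebraMap K C (v 1) * y' ^ (n + 1)) := fun v => by
      simp [φ, Fintype.linearCombination_apply, Fin.sum_univ_two, Algebra.smul_def]
    have hinj : Function.Injective φ := by
      refine (injective_iff_map_eq_zero φ).2 fun v hv => ?_
      rw [hφ, Ideal.Quotient.eq_zero_iff_mem] at hv
      by_contra hv0
      have key : ∀ (i : C) (j : C), (∀ s : K, s ≠ 0 → algebraMap K C s * i + j ∈ N ^ (n + 1 + 1) →
          i ∈ Ideal.span {j} ⊔ N ^ (n + 1 + 1)) := fun i j s hs hm => by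
        have hi : algebraMap K C s⁻¹ * algebraMap K C s = 1 := by rw [← map_mul, inv_mul_cancel₀ hs, map_one]
        exact Submodule.mem_sup.2 ⟨-(algebraMap K C s⁻¹) * j, Ideal.mem_span_singleton'.2 ⟨_, rfl⟩,
          algebraMap K C s⁻¹ * (algebraMap K C s * i + j), Ideal.mul_mem_left _ _ hm,
          by linear_combination i * hi⟩
      have fin : ∀ w ∈ N ^ (n + 1), x' * y' ^ n ∈ Ideal.span {w} ⊔ N ^ (n + 1 + 1) →
          y' ^ (n + 1) ∈ Ideal.span {w} ⊔ N ^ (n + 1 + 1) → False := fun w hw h1 h2 => by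
        obtain ⟨g, hg⟩ := exists_eq_span_singleton ht hreg hw ((hgen n).trans (sup_le (by
          rw [Ideal.span_le]; rintro z (hz | hz) <;> rw [hz]
          exacts [h1, h2]) le_sup_right))
        exact hnp g hg
      by_cases h0 : v 0 = 0
      · have h1 : v 1 ≠ 0 := fun h1 => hv0 (funext fun i => by fin_cases i <;> assumption)
        have := key (y' ^ (n + 1)) 0 (v 1) h1 (by simpa [h0] using hv)
        rw [Ideal.span_singleton_eq_bot.2 rfl, bot_sup_eq] at this
        exact fin (x' * y' ^ n) hw1 (Ideal.mem_sup_left (Ideal.mem_span_singleton_self _)) (Ideal.mem_sup_right this)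
      · have := key (x' * y' ^ n) (algebraMap K C (v 1) * y' ^ (n + 1)) (v 0) h0 hv
        refine fin (y' ^ (n + 1)) hw2 ?_ (Ideal.mem_sup_left (Ideal.mem_span_singleton_self _))
        have hle : Ideal.span {algebraMap K C (v 1) * y' ^ (n + 1)} ⊔ N ^ (n + 1 + 1) ≤
            Ideal.span {y' ^ (n + 1)} ⊔ N ^ (n + 1 + 1) :=
          sup_le_sup ((Ideal.span_singleton_le_iff_mem _).2
            (Ideal.mul_mem_left _ _ (Ideal.mem_span_singleton_self _))) le_rfl
        exact hle this
    have hker : LinearMap.ker π = LinearMap.range φ := by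
      ext z
      obtain ⟨r, rfl⟩ := Ideal.Quotient.mk_surjective z
      rw [LinearMap.mem_ker, hπmk, Ideal.Quotient.eq_zero_iff_mem, LinearMap.mem_range]
      simp only [hφ, Ideal.Quotient.eq]
      constructor
      · intro hr
        obtain ⟨w, hw, m, hm, rfl⟩ := Submodule.mem_sup.1 (hgen n hr)
        obtain ⟨p, q, rfl⟩ := Ideal.mem_span_pair.1 hw
        obtain ⟨p₀, hp⟩ := hres p
        obtain ⟨q₀, hq₀⟩ := hres q
        refine ⟨![p₀, q₀], ?_⟩
        simp only [Matrix.cons_val_zero, Matrix.cons_val_one]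
        have e : algebraMap K C p₀ * (x' * y' ^ n) + algebraMap K C q₀ * y' ^ (n + 1) -
            (p * (x' * y' ^ n) + q * y' ^ (n + 1) + m) =
              -((p - algebraMap K C p₀) * (x' * y' ^ n) + (q - algebraMap K C q₀) * y' ^ (n + 1) + m) := by ring
        rw [e]
        refine neg_mem (add_mem (add_mem ?_ ?_) hm) <;> rw [pow_succ' N (n + 1)]
        exacts [Ideal.mul_mem_mul hp hw1, Ideal.mul_mem_mul hq₀ hw2]
      · rintro ⟨v, hv⟩
        have := sub_mem (add_mem (Ideal.mul_mem_left _ (algebraMap K C (v 0)) hw1)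
          (Ideal.mul_mem_left _ (algebraMap K C (v 1)) hw2)) (Ideal.pow_le_pow_right (Nat.le_succ _) hv)
        rwa [sub_sub_cancel] at this
    haveI : Module.Finite K (LinearMap.ker π) := hker ▸ inferInstance
    haveI : Module.Finite K ((C ⧸ N ^ (n + 1 + 1)) ⧸ LinearMap.ker π) :=
      Module.Finite.equiv (π.quotKerEquivOfSurjective hπ).symm
    haveI : Module.Finite K (C ⧸ N ^ (n + 1 + 1)) := Module.Finite.of_submodule_quotient (LinearMap.ker π)
    refine ⟨?_, inferInstance⟩
    have h1 := π.finrank_range_add_finrank_ker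
    rw [LinearMap.range_eq_top.2 hπ, finrank_top, ih, hker, LinearMap.finrank_range_of_inj hinj,
      Module.finrank_fintype_fun_eq_card, Fintype.card_fin] at h1
    omega

end

end Groth.Agent.NodeFam
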