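import Groth.Agent.NodeFam.CritODP
import Groth.Agent.RegLoc6.Basic
import Groth.Agent.S0548
import Groth.Agent.S19474
import Mathlib.RingTheory.KrullDimension.NonZeroDivisors
import Mathlib.RingTheory.MvPowerSeries.Rename

/-!
# The node ring: reduced, of dimension one, not regular
-/

set_option autoImplicit false
set_option linter.style.haveILetI false

universe u

open IsLocalRing MvPowerSeries

namespace Groth.Agent.NodeFam

noncomputable section

variable (K : Type u) [Field K]

theorem coeff_axis_killCompl (f : PS2 K) (l : Fin 2) (m : ℕ) :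
    coeff (Finsupp.single 0 m) (killCompl (R := K) (⟨fun _ => l, fun a b _ => Subsingleton.elim a b⟩ : Fin 1 ↪ Fin 2) f) =
      coeff (Finsupp.single l m) f := by
  rw [coeff_killCompl, Finsupp.embDomain_single]
  rfl

theorem mem_nodeIdeal_of_sq {f : PS2 K} (hf : f * f ∈ nodeIdeal K) : f ∈ nodeIdeal K := by
  obtain ⟨g, hg⟩ := Ideal.mem_span_singleton'.1 hf
  have hax : ∀ (l : Fin 2) (m : ℕ), coeff (Finsupp.single l m) f = 0 := by
    intro l
    set e : Fin 1 ↪ Fin 2 := ⟨fun _ => l, fun a b _ => Subsingleton.elim a b⟩ with he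
    have h0 : killCompl (R := K) e f * killCompl (R := K) e f = 0 := by
      rw [← map_mul, ← hg]
      refine MvPowerSeries.ext fun d => ?_
      obtain ⟨m, rfl⟩ : ∃ m, d = Finsupp.single 0 m :=
        ⟨d 0, Finsupp.ext fun i => by rw [Fin.eq_zero i, Finsupp.single_eq_same]⟩
      rw [he, coeff_axis_killCompl, map_zero, mul_comm g, coeff_axis_mul]
    intro m
    have h1 := mul_self_eq_zero.1 h0
    rw [← coeff_axis_killCompl K f l m, ← he, h1, map_zero]
  refine mem_nodeIdeal_of_forall f fun n => (mem_truncIdeal_iff n f).2 (funext fun s => ?_)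
  rcases s with i | j
  exacts [hax 0 _, hax 1 _]

theorem isReduced_nodeQuot : IsReduced (NodeQuot K) := by
  rw [← Ideal.isRadical_iff_quotient_reduced, Ideal.isRadical_iff_pow_one_lt 2 one_lt_two]
  exact fun f hf => mem_nodeIdeal_of_sq K (by rwa [← sq])

theorem not_isDomain_nodeQuot : ¬ IsDomain (NodeQuot K) := by
  intro h
  rw [Ideal.Quotient.isDomain_iff_prime] at h
  have key : ∀ l : Fin 2, (X l : PS2 K) ∉ nodeIdeal K := fun l hl => by
    obtain ⟨g, hg⟩ := Ideal.mem_span_singleton'.1 hl
    have h1 := congrArg (coeff (Finsupp.single l 1)) hg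
    rw [mul_comm g, coeff_axis_mul] at h1
    simp [coeff_X] at h1
  exact (h.mem_or_mem (Ideal.mem_span_singleton_self _)).elim (key 0) (key 1)

theorem ringKrullDim_nodeQuot_le : ringKrullDim (NodeQuot K) ≤ 1 := by
  have hne : (X 0 * X 1 : PS2 K) ≠ 0 := by
    intro h
    have := congrArg (coeff (Finsupp.single (0 : Fin 2) 1 + Finsupp.single 1 1)) h
    rw [X, X, monomial_mul_monomial, one_mul, coeff_monomial_same, map_zero] at this
    exact one_ne_zero this
  have h := ringKrullDim_quotient_succ_le_of_nonZeroDivisor (R := PS2 K) (mem_nonZeroDivisors_of_ne_zero hne)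
  rw [PSLib.ringKrullDim_eq] at h
  rw [← WithBot.coe_one]
  revert h
  generalize ringKrullDim (PS2 K ⧸ nodeIdeal K) = d
  intro h
  induction d using WithBot.recBotCoe with
  | bot => exact bot_le
  | coe d =>
    induction d using ENat.recTopCoe with
    | top => exact absurd h (by decide)
    | coe d => norm_cast at h ⊢; have h2 : d + 1 ≤ 2 := Nat.cast_le.1 h; omega

variable {K} {A : Type u} [CommRing A] [IsLocalRing A] [IsNoetherianRing A] [Algebra K A]

/-- An ordinary double point is reduced. -/
theorem isReduced_of_odp (h : Curv2.IsOrdDoublePt K A) : IsReduced A := by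
  obtain ⟨e, -⟩ := h
  haveI := isReduced_nodeQuot K
  haveI : IsReduced (AdicCompletion (maximalIdeal A) A) := isReduced_of_injective e e.injective
  refine isReduced_of_injective (algebraMap A (AdicCompletion (maximalIdeal A) A))
    ((injective_iff_map_eq_zero _).2 fun a ha => ?_)
  refine IsHausdorff.haus' (I := maximalIdeal A) a fun n => ?_
  rw [SModEq.zero, smul_eq_mul, Ideal.mul_top, ← Ideal.Quotient.eq_zero_iff_mem]
  have := congrArg (AdicCompletion.evalₐ (maximalIdeal A) n) ha
  rwa [AlgHom.commutes, map_zero] at this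

/-- An ordinary double point is not regular. -/
theorem not_isRegularLocalRing_of_odp (h : Curv2.IsOrdDoublePt K A) : ¬ IsRegularLocalRing A := by
  intro hr
  obtain ⟨e, -⟩ := h
  haveI := (S0548.result A).1 hr
  haveI := RegLoc6.isDomain_of_isRegularLocalRing (AdicCompletion (maximalIdeal A) A)
  exact not_isDomain_nodeQuot K (e.toMulEquiv.symm.isDomain _)

/-- An ordinary double point has dimension at most one. -/
theorem ringKrullDim_le_of_odp (h : Curv2.IsOrdDoublePt K A) : ringKrullDim A ≤ 1 := by
  obtain ⟨e, -⟩ := h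
  rw [← (S19474.result A (maximalIdeal A) (maximalIdeal.isMaximal A).ne_top).1, ringKrullDim_eq_of_ringEquiv e]
  exact ringKrullDim_nodeQuot_le K

end

end Groth.Agent.NodeFam
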