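import Groth.Agent.NodeFam.QuadRing
import Groth.Agent.NodeFam.NodeDim
import Mathlib.FieldTheory.IsAlgClosed.AlgebraicClosure

/-!
# The quadratic cone is reduced
-/

set_option autoImplicit false
set_option linter.style.haveILetI false

universe u

open MvPowerSeries

namespace Groth.Agent.NodeFam

noncomputable section

variable {L : Type u} [Field L]

/-- A nondegenerate binary quadratic form over an algebraically closed field is a product of
independent linear forms. -/
theorem exists_factor [IsAlgClosed L] {a b c : L} (h : 4 * a * c - b ^ 2 ≠ 0) :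
    ∃ α β γ δ : L, α * γ = a ∧ α * δ + β * γ = b ∧ β * δ = c ∧ α * δ - β * γ ≠ 0 := by
  obtain ⟨α, β, γ, δ, hpoly⟩ : ∃ α β γ δ : L, α * γ = a ∧ α * δ + β * γ = b ∧ β * δ = c := by
    by_cases h3 : a = 0
    · exact ⟨0, 1, b, c, by simp [h3], by simp, by simp⟩
    · obtain ⟨r, hr⟩ := IsAlgClosed.exists_root (Polynomial.C a * Polynomial.X ^ 2 +
        Polynomial.C b * Polynomial.X + Polynomial.C c)
        (by rw [Polynomial.degree_quadratic h3]; exact two_ne_zero)
      simp [Polynomial.IsRoot] at hr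
      exact ⟨1, -r, a, b + a * r, by ring, by ring, by linear_combination -hr⟩
  refine ⟨α, β, γ, δ, hpoly.1, hpoly.2.1, hpoly.2.2, fun h0 => h ?_⟩
  rw [← hpoly.1, ← hpoly.2.1, ← hpoly.2.2]
  linear_combination -(α * δ - β * γ) * h0

/-- The linear substitution. -/
theorem exists_linearSubst {α β γ δ : L} (h : α * δ - β * γ ≠ 0) :
    ∃ θ : PS2 L →ₐ[L] PS2 L, Function.Bijective θ ∧
      θ (X 0) = C α * X 0 + C β * X 1 ∧ θ (X 1) = C γ * X 0 + C δ * X 1 := by
  have hX : ∀ l : Fin 2, (X l : PS2 L) ∈ PSLib.vars 2 L := fun l => Ideal.subset_span ⟨l, rfl⟩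
  obtain ⟨θ, hθ⟩ := PSLib.exists_algHom (R := L) (PSLib.vars 2 L)
    ![C α * X 0 + C β * X 1, C γ * X 0 + C δ * X 1] (fun i => by
      fin_cases i <;> exact add_mem (Ideal.mul_mem_left _ _ (hX 0)) (Ideal.mul_mem_left _ _ (hX 1)))
  have h0 : θ (X 0) = C α * X 0 + C β * X 1 := by simpa using hθ 0
  have h1 : θ (X 1) = C γ * X 0 + C δ * X 1 := by simpa using hθ 1
  refine ⟨θ, PSLib.bijective_of_first_order θ (fun i => ?_) (fun j => Ideal.mem_sup_left ?_), h0, h1⟩
  · rw [hθ]
    fin_cases i <;> exact add_mem (Ideal.mul_mem_left _ _ (hX 0)) (Ideal.mul_mem_left _ _ (hX 1))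
  · set D := α * δ - β * γ with hD
    have hi : (C D⁻¹ : PS2 L) * (C α * C δ - C β * C γ) = 1 := by
      rw [← map_mul, ← map_mul, ← map_sub, ← map_mul, inv_mul_cancel₀ h, map_one]
    have m0 : θ (X 0) ∈ Ideal.span (Set.range fun i => θ (X i)) := Ideal.subset_span ⟨0, rfl⟩
    have m1 : θ (X 1) ∈ Ideal.span (Set.range fun i => θ (X i)) := Ideal.subset_span ⟨1, rfl⟩
    match j with
    | 0 =>
      have e : (X 0 : PS2 L) = C D⁻¹ * C δ * θ (X 0) - C D⁻¹ * C β * θ (X 1) := by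
        rw [h0, h1]; linear_combination (-(X 0 : PS2 L)) * hi
      rw [e]
      exact sub_mem (Ideal.mul_mem_left _ _ m0) (Ideal.mul_mem_left _ _ m1)
    | 1 =>
      have e : (X 1 : PS2 L) = C D⁻¹ * C α * θ (X 1) - C D⁻¹ * C γ * θ (X 0) := by
        rw [h0, h1]; linear_combination (-(X 1 : PS2 L)) * hi
      rw [e]
      exact sub_mem (Ideal.mul_mem_left _ _ m1) (Ideal.mul_mem_left _ _ m0)

/-- A nondegenerate quadratic form over an algebraically closed field generates a radical ideal. -/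
theorem mem_quadIdeal_of_sq_isAlgClosed [IsAlgClosed L] {a b c : L} (h : 4 * a * c - b ^ 2 ≠ 0) {f : PS2 L}
    (hf : f * f ∈ quadIdeal a b c) : f ∈ quadIdeal a b c := by
  obtain ⟨α, β, γ, δ, ha, hb, hc, hdet⟩ := exists_factor h
  obtain ⟨θ, hbij, h0, h1⟩ := exists_linearSubst hdet
  have hq : θ (X 0 * X 1) = qForm a b c := by
    rw [map_mul, h0, h1, qForm_eq, ← ha, ← hb, ← hc]
    simp only [map_add, map_mul]; ring
  obtain ⟨f', rfl⟩ := hbij.2 f
  obtain ⟨g, hg⟩ := Ideal.mem_span_singleton'.1 hf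
  obtain ⟨g', rfl⟩ := hbij.2 g
  rw [← hq, ← map_mul, ← map_mul] at hg
  have := mem_nodeIdeal_of_sq L (f := f') (Ideal.mem_span_singleton'.2 ⟨g', hbij.1 hg⟩)
  obtain ⟨k, rfl⟩ := Ideal.mem_span_singleton'.1 this
  rw [map_mul, hq]
  exact Ideal.mul_mem_left _ _ (Ideal.mem_span_singleton_self _)

variable {K : Type u} [Field K]

/-- A nondegenerate quadratic form generates a radical ideal. -/
theorem mem_quadIdeal_of_sq {a b c : K} (h : 4 * a * c - b ^ 2 ≠ 0) {f : PS2 K}
    (hf : f * f ∈ quadIdeal a b c) : f ∈ quadIdeal a b c := by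
  set ι := algebraMap K (AlgebraicClosure K) with hι
  let φ := MvPowerSeries.map (σ := Fin 2) ι
  have hq : φ (qForm a b c) = qForm (ι a) (ι b) (ι c) := by
    simp only [qForm_eq, φ, map_add, map_mul, map_pow, MvPowerSeries.map_X, MvPowerSeries.map_C]
  have hdisc : 4 * ι a * ι c - ι b ^ 2 ≠ 0 := by
    rw [show 4 * ι a * ι c - ι b ^ 2 = ι (4 * a * c - b ^ 2) by simp [map_ofNat]]
    exact (_root_.map_ne_zero _).2 h
  obtain ⟨g, hg⟩ := Ideal.mem_span_singleton'.1 hf
  have hL : φ f ∈ quadIdeal (ι a) (ι b) (ι c) := mem_quadIdeal_of_sq_isAlgClosed hdisc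
    (Ideal.mem_span_singleton'.2 ⟨φ g, by rw [← hq, ← map_mul, hg, map_mul]⟩)
  obtain ⟨gL, hgL⟩ := Ideal.mem_span_singleton'.1 hL
  obtain ⟨π, hπ⟩ := (Algebra.linearMap K (AlgebraicClosure K)).exists_leftInverse_of_injective
    (LinearMap.ker_eq_bot.2 ι.injective)
  let g₀ : PS2 K := fun d => π (coeff d gL)
  refine Ideal.mem_span_singleton'.2 ⟨g₀, MvPowerSeries.ext fun d => ?_⟩
  classical
  have hd := congrArg (fun z => π (coeff d z)) hgL
  simp only [← hq, φ, MvPowerSeries.coeff_map] at hd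
  have hπι : ∀ r : K, π (ι r) = r := fun r => LinearMap.congr_fun hπ r
  rw [hπι, coeff_mul, map_sum] at hd
  rw [coeff_mul, ← hd]
  refine Finset.sum_congr rfl fun p _ => ?_
  rw [MvPowerSeries.coeff_map, mul_comm (coeff p.1 gL), ← Algebra.smul_def, map_smul, smul_eq_mul, mul_comm]
  rfl

/-- The nondegenerate quadratic cone is reduced. -/
theorem isReduced_quadQuot {a b c : K} (h : 4 * a * c - b ^ 2 ≠ 0) : IsReduced (PS2 K ⧸ quadIdeal a b c) := by
  rw [← Ideal.isRadical_iff_quotient_reduced, Ideal.isRadical_iff_pow_one_lt 2 one_lt_two]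
  exact fun f hf => mem_quadIdeal_of_sq h (by rwa [← sq])

end

end Groth.Agent.NodeFam
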