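import Groth.Agent.NodeFam.QuadODP
import Groth.Agent.NodeFam.QuadLocal
import Groth.Agent.NodeFam.QuadReduced
import Groth.Agent.LC.CanonComplete
import Mathlib.RingTheory.AdicCompletion.LocalRing
import Mathlib.RingTheory.AdicCompletion.AsTensorProduct
import Mathlib.RingTheory.Smooth.AdicCompletion
import Mathlib.RingTheory.Etale.Field

/-!
# The quadratic criterion and completion
-/

set_option autoImplicit false
set_option linter.style.haveILetI false

universe u

open IsLocalRing

namespace Groth.Agent.NodeFam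

noncomputable section

section Congr

variable {R : Type u} [CommRing R] {M : Ideal R}

/-- Congruences for quadratic expressions. -/
theorem quadExpr_sub_mem {a b c x y a' b' c' x' y' : R} (ha : a - a' ∈ M) (hb : b - b' ∈ M) (hc : c - c' ∈ M)
    (hx : x - x' ∈ M ^ 2) (hy : y - y' ∈ M ^ 2) (hx' : x' ∈ M) (hy' : y' ∈ M) :
    (a * (x * x) + b * (x * y) + c * (y * y)) - (a' * (x' * x') + b' * (x' * y') + c' * (y' * y')) ∈ M ^ 3 := by
  have hx0 : x ∈ M := by simpa using add_mem (Ideal.pow_le_self two_ne_zero hx) hx'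
  have hy0 : y ∈ M := by simpa using add_mem (Ideal.pow_le_self two_ne_zero hy) hy'
  have key : ∀ p q p' q' e e' : R, e - e' ∈ M → p - p' ∈ M ^ 2 → q - q' ∈ M ^ 2 → p ∈ M → q ∈ M → p' ∈ M →
      e * (p * q) - e' * (p' * q') ∈ M ^ 3 := fun p q p' q' e e' he hp hq hp0 hq0 hp0' => by
    have e1 : e * (p * q) - e' * (p' * q') = (e - e') * (p * q) + e' * ((p - p') * q) + e' * (p' * (q - q')) := by
      ring
    rw [e1]
    refine add_mem (add_mem ?_ (Ideal.mul_mem_left _ _ ?_)) (Ideal.mul_mem_left _ _ ?_)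
    · rw [pow_succ', sq]; exact Ideal.mul_mem_mul he (Ideal.mul_mem_mul hp0 hq0)
    · rw [pow_succ]; exact Ideal.mul_mem_mul hp hq0
    · rw [pow_succ']; exact Ideal.mul_mem_mul hp0' hq
  have e : (a * (x * x) + b * (x * y) + c * (y * y)) - (a' * (x' * x') + b' * (x' * y') + c' * (y' * y')) =
      (a * (x * x) - a' * (x' * x')) + (b * (x * y) - b' * (x' * y')) + (c * (y * y) - c' * (y' * y')) := by ring
  rw [e]
  exact add_mem (add_mem (key _ _ _ _ _ _ ha hx hx hx0 hx0 hx') (key _ _ _ _ _ _ hb hx hy hx0 hy0 hx'))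
    (key _ _ _ _ _ _ hc hy hy hy0 hy0 hy')

end Congr

variable {A : Type u} [CommRing A] [IsLocalRing A] [IsNoetherianRing A]

/-- The completion of a local ring. -/
abbrev Cmpl (A : Type u) [CommRing A] [IsLocalRing A] : Type u := AdicCompletion (maximalIdeal A) A

/-- Ideals are recovered from the completion. -/
theorem mem_of_algebraMap_mem (J : Ideal A) {z : A}
    (h : algebraMap A (Cmpl A) z ∈ J.map (algebraMap A (Cmpl A))) : z ∈ J := by
  haveI : Module.FaithfullyFlat A (Cmpl A) := LC.Canon.faithfullyFlat_completion (R := A)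
  rw [← Ideal.comap_map_eq_self_of_faithfullyFlat (B := Cmpl A) J]
  exact h

theorem map_pow_maximalIdeal (n : ℕ) :
    (maximalIdeal A ^ n).map (algebraMap A (Cmpl A)) = maximalIdeal (Cmpl A) ^ n := by
  rw [Ideal.map_pow, AdicCompletion.maximalIdeal_eq_map]

theorem exists_sub_mem_pow (r : Cmpl A) (n : ℕ) :
    ∃ a : A, r - algebraMap A (Cmpl A) a ∈ maximalIdeal (Cmpl A) ^ n := by
  rw [AdicCompletion.maximalIdeal_eq_map]
  exact Adic7.exists_sub_algebraMap_mem (maximalIdeal A) (IsNoetherian.noetherian _) r n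

/-- A reduced local ring which is not a field has a regular element in its maximal ideal. -/
theorem exists_regular_mem [IsReduced A] (h : ¬ IsField A) : ∃ t ∈ maximalIdeal A, IsSMulRegular A t := by
  have hnm : ¬ (maximalIdeal A : Set A) ⊆ ⋃ P ∈ (↑(minimalPrimes.finite_of_isNoetherianRing A).toFinset : Set (Ideal A)), (P : Set A) := by
    intro hsub
    rw [Ideal.subset_union_prime ⊤ ⊤ (fun P hP _ _ => by
      simp only [Set.Finite.mem_toFinset] at hP; exact hP.1.1)] at hsub
    obtain ⟨P, hP, hle⟩ := hsub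
    simp only [Set.Finite.mem_toFinset] at hP
    refine h (IsLocalRing.isField_iff_maximalIdeal_eq.2 (le_bot_iff.1 fun z hz => ?_))
    have hz' : IsNilpotent z := by
      rw [← mem_nilradical, nilradical_eq_sInf, Ideal.mem_sInf]
      intro Q hQ
      exact (hP.2 ⟨hQ, bot_le⟩ ((IsLocalRing.le_maximalIdeal hQ.ne_top).trans hle)) (hle hz)
    exact Ideal.mem_bot.2 hz'.eq_zero
  obtain ⟨t, ht, htn⟩ := Set.not_subset.1 hnm
  refine ⟨t, ht, fun p q hpq => sub_eq_zero.1 (IsNilpotent.eq_zero ?_)⟩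
  simp only [Set.mem_iUnion, Set.Finite.coe_toFinset, not_exists] at htn
  rw [← mem_nilradical, nilradical_eq_sInf, Ideal.mem_sInf]
  intro Q hQ
  haveI : Q.IsPrime := hQ
  obtain ⟨P, hP, hPQ⟩ := Ideal.exists_minimalPrimes_le (bot_le : ⊥ ≤ Q)
  refine hPQ ((hP.1.1.mem_or_mem ?_).resolve_left fun htP => htn P hP htP)
  have : t * (p - q) = 0 := by
    simp only [smul_eq_mul] at hpq
    rw [mul_sub, hpq, sub_self]
  rw [this]; exact zero_mem _

variable {κ : Type u} [Field κ] [Algebra κ (Cmpl A)]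

/-- The conditions on a local ring give the criterion on its completion, for any coefficient field. -/
theorem quadCrit_completion [IsReduced A] (ψ : A →+* κ) (hψ : Function.Surjective ψ)
    (hσ : ∀ a : A, algebraMap κ (Cmpl A) (ψ a) - algebraMap A (Cmpl A) a ∈ maximalIdeal (Cmpl A))
    {x y a b c : A} (hcot : Module.finrank (ResidueField A) (CotangentSpace A) = 2)
    (hx : x ∈ maximalIdeal A) (hy : y ∈ maximalIdeal A)
    (hspan : Ideal.span {x, y} ⊔ maximalIdeal A ^ 2 = maximalIdeal A) (hD : ψ (4 * a * c - b ^ 2) ≠ 0)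
    (hq : a * x ^ 2 + b * x * y + c * y ^ 2 ∈ maximalIdeal A ^ 3) :
    QuadCrit κ (maximalIdeal (Cmpl A)) := by
  haveI : IsNoetherianRing (Cmpl A) := LC.Canon.isNoetherianRing_completion (R := A)
  set φ := algebraMap A (Cmpl A) with hφ
  have hN : maximalIdeal (Cmpl A) = (maximalIdeal A).map φ := AdicCompletion.maximalIdeal_eq_map
  have hnf : ¬ IsField A := fun hf => by
    rw [finrank_cotangentSpace_eq_zero_iff.2 hf] at hcot
    omega
  obtain ⟨t, ht, hreg⟩ := exists_regular_mem hnf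
  haveI : Module.Flat A (Cmpl A) := AdicCompletion.flat_of_isNoetherian _
  refine quadCrit_of_depth (x := φ x) (y := φ y) (a := ψ a) (b := ψ b) (c := ψ c) (fun r => ?_) ?_ ?_ ?_
    (t := φ t) (hN ▸ Ideal.mem_map_of_mem _ ht) hreg.of_flat (fun w hw => ?_)
  · obtain ⟨r₀, hr⟩ := exists_sub_mem_pow r 1
    refine ⟨ψ r₀, ?_⟩
    rw [pow_one] at hr
    rw [← sub_sub_sub_cancel_right r (algebraMap κ (Cmpl A) (ψ r₀)) (φ r₀)]
    exact sub_mem hr (hσ r₀)
  · have e1 := congrArg (Ideal.map φ) hspan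
    rw [Ideal.map_sup, Ideal.map_span, Set.image_pair, map_pow_maximalIdeal, ← hN] at e1
    exact e1
  · simpa [map_sub, map_mul, map_pow, map_ofNat] using hD
  · have h1 : φ a * (φ x * φ x) + φ b * (φ x * φ y) + φ c * (φ y * φ y) ∈ maximalIdeal (Cmpl A) ^ 3 := by
      rw [← map_pow_maximalIdeal]
      have := Ideal.mem_map_of_mem φ hq
      convert this using 1
      simp only [map_add, map_mul, map_pow]; ring
    have h2 := quadExpr_sub_mem (hσ a) (hσ b) (hσ c) (x := φ x) (y := φ y) (x' := φ x) (y' := φ y)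
      (by simp) (by simp) (hN ▸ Ideal.mem_map_of_mem _ hx) (hN ▸ Ideal.mem_map_of_mem _ hy)
    have := add_mem h2 h1
    rwa [sub_add_cancel] at this
  · have h2 : ¬ (maximalIdeal A).IsPrincipal := by
      rw [← finrank_cotangentSpace_le_one_iff, hcot]; omega
    refine h2 ?_
    obtain ⟨w₀, hw₀⟩ := exists_sub_mem_pow w 2
    have hwN : w ∈ maximalIdeal (Cmpl A) := hw ▸ Ideal.mem_span_singleton_self w
    have hw₀m : w₀ ∈ maximalIdeal A := by
      refine mem_of_algebraMap_mem _ ?_
      rw [← hN, ← sub_sub_cancel w (φ w₀)]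
      exact sub_mem hwN (Ideal.pow_le_self two_ne_zero hw₀)
    have hle : maximalIdeal A ≤ Ideal.span {w₀} ⊔ maximalIdeal A ^ 2 := fun z hz => by
      refine mem_of_algebraMap_mem _ ?_
      rw [Ideal.map_sup, Ideal.map_span, Set.image_singleton, map_pow_maximalIdeal]
      have hz' : φ z ∈ Ideal.span {w} := hw ▸ hN ▸ Ideal.mem_map_of_mem _ hz
      obtain ⟨r, hr⟩ := Ideal.mem_span_singleton'.1 hz'
      refine Submodule.mem_sup.2 ⟨r * φ w₀, Ideal.mem_span_singleton'.2 ⟨r, rfl⟩, r * (w - φ w₀),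
        Ideal.mul_mem_left _ _ hw₀, by rw [← hr]; ring⟩
    refine ⟨w₀, le_antisymm ?_ ((Ideal.span_singleton_le_iff_mem _).2 hw₀m)⟩
    refine Submodule.le_of_le_smul_of_le_jacobson_bot (IsNoetherian.noetherian _)
      (IsLocalRing.jacobson_eq_maximalIdeal ⊥ bot_ne_top).ge ?_
    rw [smul_eq_mul, ← sq]
    exact hle

omit [Algebra κ (Cmpl A)]

/-- A quadratic cone as completion gives the conditions on the local ring. -/
theorem conditions_of_quadQuot {a b c : κ} (hD : 4 * a * c - b ^ 2 ≠ 0) (e : Cmpl A ≃+* QuadQuot a b c) :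
    IsReduced A ∧ Module.finrank (ResidueField A) (CotangentSpace A) = 2 ∧
      ∃ x y a b c : A, x ∈ maximalIdeal A ∧ y ∈ maximalIdeal A ∧
        Ideal.span {x, y} ⊔ maximalIdeal A ^ 2 = maximalIdeal A ∧
        IsLocalRing.residue A (4 * a * c - b ^ 2) ≠ 0 ∧
        a * x ^ 2 + b * x * y + c * y ^ 2 ∈ maximalIdeal A ^ 3 := by
  haveI : IsNoetherianRing (Cmpl A) := LC.Canon.isNoetherianRing_completion (R := A)
  set φ := algebraMap A (Cmpl A) with hφ
  have hN : (maximalIdeal (Cmpl A)) = (maximalIdeal A).map φ := AdicCompletion.maximalIdeal_eq_map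
  letI : Algebra κ (Cmpl A) := ((e.symm : QuadQuot a b c →+* Cmpl A).comp (algebraMap κ (QuadQuot a b c))).toAlgebra
  let E : Cmpl A ≃ₐ[κ] QuadQuot a b c := AlgEquiv.ofRingEquiv (f := e) fun r => e.apply_symm_apply _
  have hcr := quadCrit_of_algEquiv hD E
  haveI : Module.FaithfullyFlat A (Cmpl A) := LC.Canon.faithfullyFlat_completion (R := A)
  have hinj : Function.Injective φ := FaithfulSMul.algebraMap_injective A (Cmpl A)
  refine ⟨?_, ?_⟩
  · haveI := isReduced_quadQuot hD
    haveI : IsReduced (Cmpl A) := isReduced_of_injective e e.injective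
    exact isReduced_of_injective φ hinj
  obtain ⟨hd, X, Y, a', b', c', hD', hspan, hq⟩ := hcr
  have hX : X ∈ (maximalIdeal (Cmpl A)) := hspan ▸ Ideal.mem_sup_left (Ideal.subset_span (by simp))
  have hY : Y ∈ (maximalIdeal (Cmpl A)) := hspan ▸ Ideal.mem_sup_left (Ideal.subset_span (by simp))
  obtain ⟨x, hx⟩ := exists_sub_mem_pow X 2
  obtain ⟨y, hy⟩ := exists_sub_mem_pow Y 2
  have hmem : ∀ {z : A} {Z : Cmpl A}, Z ∈ (maximalIdeal (Cmpl A)) → Z - φ z ∈ (maximalIdeal (Cmpl A)) ^ 2 → z ∈ maximalIdeal A := fun {z Z} hZ hz => by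
    refine mem_of_algebraMap_mem _ ?_
    rw [← hN, ← sub_sub_cancel Z (φ z)]
    exact sub_mem hZ (Ideal.pow_le_self two_ne_zero hz)
  have hxm := hmem hX hx
  have hym := hmem hY hy
  have hgen : Ideal.span {x, y} ⊔ maximalIdeal A ^ 2 = maximalIdeal A := by
    refine le_antisymm (sup_le ?_ (Ideal.pow_le_self two_ne_zero)) fun z hz => mem_of_algebraMap_mem _ ?_
    · rw [Ideal.span_le]; rintro z (hz | hz) <;> rw [hz]
      exacts [hxm, hym]
    · have hz' : φ z ∈ (maximalIdeal (Cmpl A)) := hN ▸ Ideal.mem_map_of_mem _ hz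
      rw [← hspan] at hz'
      rw [Ideal.map_sup, Ideal.map_span, Set.image_pair, map_pow_maximalIdeal]
      refine (sup_le ?_ le_sup_right : _ ≤ Ideal.span {φ x, φ y} ⊔ (maximalIdeal (Cmpl A)) ^ 2) hz'
      rw [Ideal.span_le]; rintro w (hw | hw) <;> rw [hw]
      · exact (sub_add_cancel X (φ x)) ▸ add_mem (Ideal.mem_sup_right hx)
          (Ideal.mem_sup_left (Ideal.subset_span (by simp)))
      · exact (sub_add_cancel Y (φ y)) ▸ add_mem (Ideal.mem_sup_right hy)
          (Ideal.mem_sup_left (Ideal.subset_span (by simp)))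
  refine ⟨?_, ?_⟩
  · have hnp : ¬ Module.finrank (ResidueField A) (CotangentSpace A) ≤ 1 := by
      rw [finrank_cotangentSpace_le_one_iff]
      rintro ⟨w, hw⟩
      have hw : maximalIdeal A = Ideal.span {w} := hw
      have hNw : (maximalIdeal (Cmpl A)) = Ideal.span {φ w} := by
        rw [hN]; exact (congrArg (Ideal.map φ) hw).trans (by rw [Ideal.map_span, Set.image_singleton])
      haveI : FiniteDimensional κ (Cmpl A ⧸ (maximalIdeal (Cmpl A)) ^ (1 + 1)) := FiniteDimensional.of_finrank_pos (by rw [hd 1]; omega)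
      let f : (Fin 2 → κ) →ₗ[κ] Cmpl A ⧸ (maximalIdeal (Cmpl A)) ^ (1 + 1) :=
        (Ideal.Quotient.mkₐ κ ((maximalIdeal (Cmpl A)) ^ (1 + 1))).toLinearMap ∘ₗ Fintype.linearCombination κ ![(1 : Cmpl A), φ w]
      have hf : Function.Surjective f := fun z => by
        obtain ⟨r, rfl⟩ := Ideal.Quotient.mk_surjective z
        have hres := (show QuadCrit κ (maximalIdeal (Cmpl A)) from ⟨hd, X, Y, a', b', c', hD', hspan, hq⟩).exists_sub_mem
        obtain ⟨r₀, hr₀⟩ := hres r
        rw [hNw] at hr₀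
        obtain ⟨p, hp⟩ := Ideal.mem_span_singleton'.1 hr₀
        obtain ⟨p₀, hp₀⟩ := hres p
        refine ⟨![r₀, p₀], ?_⟩
        show Ideal.Quotient.mk _ (Fintype.linearCombination κ ![(1 : Cmpl A), φ w] ![r₀, p₀]) = _
        rw [Ideal.Quotient.eq, Fintype.linearCombination_apply, Fin.sum_univ_two]
        simp only [Matrix.cons_val_zero, Matrix.cons_val_one, Algebra.smul_def, mul_one]
        have e1 : algebraMap κ (Cmpl A) r₀ + algebraMap κ (Cmpl A) p₀ * φ w - r =
            -((p - algebraMap κ (Cmpl A) p₀) * φ w) := by linear_combination hp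
        rw [e1, one_add_one_eq_two, sq]
        exact neg_mem (Ideal.mul_mem_mul hp₀ (hNw ▸ Ideal.mem_span_singleton_self _))
      have := LinearMap.finrank_range_le f
      rw [LinearMap.range_eq_top.2 hf, finrank_top, hd 1, Module.finrank_fintype_fun_eq_card,
        Fintype.card_fin] at this
      omega
    have hle : (maximalIdeal A).spanFinrank ≤ 2 := by
      have e1 : maximalIdeal A = Ideal.span {x, y} := by
        refine le_antisymm (Submodule.le_of_le_smul_of_le_jacobson_bot (IsNoetherian.noetherian _)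
          (IsLocalRing.jacobson_eq_maximalIdeal ⊥ bot_ne_top).ge ?_) (le_sup_left.trans hgen.le)
        rw [smul_eq_mul, ← sq]
        exact hgen.ge
      rw [e1]
      refine (Submodule.spanFinrank_span_le_ncard_of_finite (Set.toFinite _)).trans ?_
      exact (Set.ncard_insert_le _ _).trans (by simp)
    have hle2 : Module.finrank (ResidueField A) (CotangentSpace A) ≤ 2 := by
      rwa [← IsLocalRing.spanFinrank_maximalIdeal_eq_finrank_cotangentSpace]
    omega
  obtain ⟨a₀, ha⟩ := exists_sub_mem_pow (algebraMap κ (Cmpl A) a') 1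
  obtain ⟨b₀, hb⟩ := exists_sub_mem_pow (algebraMap κ (Cmpl A) b') 1
  obtain ⟨c₀, hc⟩ := exists_sub_mem_pow (algebraMap κ (Cmpl A) c') 1
  rw [pow_one] at ha hb hc
  refine ⟨x, y, a₀, b₀, c₀, hxm, hym, hgen, fun h0 => ?_, mem_of_algebraMap_mem _ ?_⟩
  · rw [IsLocalRing.residue_eq_zero_iff] at h0
    let π := Ideal.Quotient.mk (maximalIdeal (Cmpl A))
    have h1 : π (φ (4 * a₀ * c₀ - b₀ ^ 2)) = 0 := Ideal.Quotient.eq_zero_iff_mem.2 (hN ▸ Ideal.mem_map_of_mem _ h0)
    have e1 : π (φ (4 * a₀ * c₀ - b₀ ^ 2)) = π (algebraMap κ (Cmpl A) (4 * a' * c' - b' ^ 2)) := by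
      simp only [map_sub, map_mul, map_pow, map_ofNat]
      rw [← show π (algebraMap κ _ a') = π (φ a₀) from Ideal.Quotient.eq.2 ha,
        ← show π (algebraMap κ _ b') = π (φ b₀) from Ideal.Quotient.eq.2 hb,
        ← show π (algebraMap κ _ c') = π (φ c₀) from Ideal.Quotient.eq.2 hc]
    rw [e1, Ideal.Quotient.eq_zero_iff_mem] at h1
    exact h1 ((isUnit_iff_ne_zero.2 hD').map (algebraMap κ (Cmpl A)))
  · rw [map_pow_maximalIdeal]
    have h2 := quadExpr_sub_mem ha hb hc hx hy (hN ▸ Ideal.mem_map_of_mem _ hxm) (hN ▸ Ideal.mem_map_of_mem _ hym)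
    have h3 := sub_mem hq h2
    rw [sub_sub_cancel] at h3
    convert h3 using 1
    simp only [hφ, map_add, map_mul, map_pow]; ring

/-- The completion of a local ring has a coefficient field containing a separable subfield. -/
theorem exists_coeffSection (k : Type u) [Field k] [Algebra k A] [Algebra.IsSeparable k (ResidueField A)] :
    ∃ σ : ResidueField A →ₐ[k] Cmpl A, ∀ a : A,
      σ (IsLocalRing.residue A a) - algebraMap A (Cmpl A) a ∈ maximalIdeal (Cmpl A) := by
  haveI : Algebra.FormallyEtale k (ResidueField A) := Algebra.FormallyEtale.of_isSeparable k (ResidueField A)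
  let f : ResidueField A →ₐ[k] Cmpl A ⧸ maximalIdeal (Cmpl A) :=
    Ideal.Quotient.liftₐ (maximalIdeal A)
      ((Ideal.Quotient.mkₐ k (maximalIdeal (Cmpl A))).comp (IsScalarTower.toAlgHom k A (Cmpl A))) fun z hz => by
        show Ideal.Quotient.mk _ (algebraMap A (Cmpl A) z) = 0
        rw [Ideal.Quotient.eq_zero_iff_mem, AdicCompletion.maximalIdeal_eq_map]
        exact Ideal.mem_map_of_mem _ hz
  obtain ⟨σ, hσ⟩ := Algebra.FormallySmooth.exists_mkₐ_comp_eq_of_isAdicComplete f
  exact ⟨σ, fun a => Ideal.Quotient.eq.1 (AlgHom.congr_fun hσ (IsLocalRing.residue A a))⟩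

/-- The conditions on a local ring with separable residue field give the normal form of its completion. -/
theorem exists_quadEquiv (k : Type u) [Field k] [Algebra k A] [Algebra.IsSeparable k (ResidueField A)] [IsReduced A]
    {x y a b c : A} (hcot : Module.finrank (ResidueField A) (CotangentSpace A) = 2)
    (hx : x ∈ maximalIdeal A) (hy : y ∈ maximalIdeal A)
    (hspan : Ideal.span {x, y} ⊔ maximalIdeal A ^ 2 = maximalIdeal A)
    (hD : IsLocalRing.residue A (4 * a * c - b ^ 2) ≠ 0)
    (hq : a * x ^ 2 + b * x * y + c * y ^ 2 ∈ maximalIdeal A ^ 3) :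
    ∃ a b c : ResidueField A, 4 * a * c - b ^ 2 ≠ 0 ∧
      ∃ e : Cmpl A ≃+* QuadQuot a b c, ∀ t : k, e (algebraMap A (Cmpl A) (algebraMap k A t)) =
        Ideal.Quotient.mk _ (MvPowerSeries.C (algebraMap A (ResidueField A) (algebraMap k A t))) := by
  obtain ⟨σ, hσ⟩ := exists_coeffSection (A := A) k
  letI : Algebra (ResidueField A) (Cmpl A) := σ.toRingHom.toAlgebra
  haveI : IsNoetherianRing (Cmpl A) := LC.Canon.isNoetherianRing_completion (R := A)
  have h := quadCrit_completion (κ := ResidueField A) (IsLocalRing.residue A) IsLocalRing.residue_surjective hσ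
    hcot hx hy hspan hD hq
  obtain ⟨a', b', c', hD', ⟨φ⟩⟩ := exists_algEquiv_quad h
  refine ⟨a', b', c', hD', φ.toRingEquiv, fun t => ?_⟩
  have e1 : algebraMap A (Cmpl A) (algebraMap k A t) =
      algebraMap (ResidueField A) (Cmpl A) (algebraMap A (ResidueField A) (algebraMap k A t)) := by
    rw [← IsScalarTower.algebraMap_apply k A (ResidueField A), ← IsScalarTower.algebraMap_apply k A (Cmpl A)]
    exact (σ.commutes t).symm
  rw [e1]
  exact φ.commutes _

end

end Groth.Agent.NodeFam
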