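import Groth.Agent.NodeFam.ExtPoint
import Groth.Agent.NodeFam.NodeDim
import Groth.Agent.SmoothReg.Scheme
import Groth.Agent.VarGeom.Normal
import Groth.Agent.VarDim.IrredFibres
import Groth.Agent.S2155
import Mathlib.RingTheory.Localization.Defs

/-!
# The local structure near a node
-/

set_option autoImplicit false
set_option backward.isDefEq.respectTransparency false
set_option backward.isDefEq.respectTransparency.types false
set_option linter.style.haveILetI false
set_option linter.unusedSectionVars false

universe u

open CategoryTheory CategoryTheory.Limits AlgebraicGeometry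

namespace Groth.Agent.NodeFam

noncomputable section

variable {k : Type u} [Field k] {X : Scheme.{u}}

/-- Having a smooth open neighbourhood is lying in the smooth locus. -/
theorem exists_smooth_nhd_iff (f : X ⟶ Spec (CommRingCat.of k)) [LocallyOfFinitePresentation f] (x : X) :
    (∃ U : X.Opens, x ∈ U ∧ Smooth (U.ι ≫ f)) ↔ x ∈ f.smoothLocus := by
  constructor
  · rintro ⟨U, hx, hs⟩
    have h : (⟨x, hx⟩ : U) ∈ (U.ι ≫ f).smoothLocus := by
      haveI := hs
      rw [Scheme.Hom.smoothLocus_eq_top (U.ι ≫ f)]
      trivial
    rw [← Scheme.Hom.preimage_smoothLocus_eq] at h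
    exact h
  · intro hx
    refine ⟨f.smoothLocus, hx, Scheme.Hom.smoothLocus_eq_top_iff.1 ?_⟩
    rw [← Scheme.Hom.preimage_smoothLocus_eq]
    exact Scheme.Opens.ι_preimage_self _

/-- A point of codimension zero with reduced local ring is regular. -/
theorem isRegularLocalRing_of_isField (A : Type u) [CommRing A] [IsLocalRing A] (h : IsField A) :
    IsRegularLocalRing A := by
  letI := h.toField
  infer_instance

theorem isRegularLocalRing_stalk_of_dim_zero (x : X) [IsReduced (X.presheaf.stalk x)]
    (h : ringKrullDim (X.presheaf.stalk x) ≤ 0) : IsRegularLocalRing (X.presheaf.stalk x) := by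
  haveI : Ring.KrullDimLE 0 (X.presheaf.stalk x) := Ring.krullDimLE_iff.2 h
  exact isRegularLocalRing_of_isField _ Ring.KrullDimLE.isField_of_isReduced

variable {K : Type u} [Field K]

/-- Ordinary double points are singular. -/
theorem not_mem_smoothLocus_of_odpAt (g : X ⟶ Spec (CommRingCat.of K)) [LocallyOfFiniteType g]
    [LocallyOfFinitePresentation g] (z : X) (h : ODPAt K g z) : z ∉ g.smoothLocus := by
  intro hz
  haveI := LocallyOfFiniteType.isLocallyNoetherian g
  letI := @Curv2.stalkAlgebra K _ X ⟨g⟩ z
  exact not_isRegularLocalRing_of_odp h (SmoothReg.isRegularLocalRing_stalk_of_mem_smoothLocus g hz)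

/-- The proper generalisations of an ordinary double point are regular. -/
theorem isRegular_of_specializes_odpAt (g : X ⟶ Spec (CommRingCat.of K)) [LocallyOfFiniteType g] {z z' : X}
    (hz : IsClosed ({z} : Set X)) (h : ODPAt K g z) (hs : z' ⤳ z) (hne : z' ≠ z) :
    IsRegularLocalRing (X.presheaf.stalk z') := by
  haveI := LocallyOfFiniteType.isLocallyNoetherian g
  letI := @Curv2.stalkAlgebra K _ X ⟨g⟩ z
  haveI := isReduced_of_odp h
  obtain ⟨S, hS⟩ := VarGeom.exists_isLocalization_stalkSpecializes hs
  haveI : IsReduced (X.presheaf.stalk z') := by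
    letI := (X.presheaf.stalkSpecializes hs).hom.toAlgebra
    exact isReduced_localizationPreserves S (X.presheaf.stalk z') inferInstance
  obtain ⟨b, hb, -, hle⟩ := VarDim.exists_deg_add_stalk g z
  have hb1 : b ≤ 1 := by
    have := ringKrullDim_le_of_odp h
    rw [hb] at this
    exact_mod_cast this
  obtain ⟨b', hb', ⟨η, hη, hηd⟩, -⟩ := VarDim.exists_deg_add_stalk g z'
  have h0 : VarDim.deg g z = 0 := (VarDim.closedPoint_iff_deg_eq_zero g z).1 hz
  have h1 : VarDim.deg g z' ≠ 0 := fun h0' =>
    hne (((hs.mem_closed ((VarDim.closedPoint_iff_deg_eq_zero g z').2 h0') rfl) : z = z')).symm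
  have h2 := hle η (hη.trans hs)
  obtain rfl : b' = 0 := by omega
  exact isRegularLocalRing_stalk_of_dim_zero z' (by rw [hb']; rfl)

/-- In dimension at most one a closed ordinary double point over an extension of algebraically closed
fields lies over a closed point. -/
theorem isClosed_image_of_odpAt {L : Type u} [Field L] [IsAlgClosed K] [Algebra K L]
    (f : X ⟶ Spec (CommRingCat.of K)) [LocallyOfFiniteType f] [LocallyOfFinitePresentation f]
    (hdim : ∀ x : X, VarDim.deg f x ≤ 1) (w : ↥(pullback f (extMap K L))) (h : ODPAt L (pullback.snd f (extMap K L)) w) :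
    IsClosed ({pullback.fst f (extMap K L) w} : Set X) := by
  haveI := LocallyOfFiniteType.isLocallyNoetherian (pullback.snd f (extMap K L))
  haveI : LocallyOfFinitePresentation (pullback.snd f (extMap K L)) := inferInstance
  by_contra hcl
  obtain ⟨b, hb, ⟨η, -, hη⟩, -⟩ := VarDim.exists_deg_add_stalk f (pullback.fst f (extMap K L) w)
  have h1 : VarDim.deg f (pullback.fst f (extMap K L) w) ≠ 0 := fun h0 =>
    hcl ((VarDim.closedPoint_iff_deg_eq_zero f _).2 h0)
  have h2 := hdim η
  obtain rfl : b = 0 := by omega
  haveI : IsReduced (X.presheaf.stalk (pullback.fst f (extMap K L) w)) := by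
    letI := @Curv2.stalkAlgebra L _ (pullback f (extMap K L)) ⟨pullback.snd f (extMap K L)⟩ w
    haveI := isReduced_of_odp h
    haveI : Flat (extMap K L) := by
      rw [HasRingHomProperty.Spec_iff (P := @Flat)]
      exact RingHom.flat_algebraMap_iff.2 inferInstance
    have hfl := Flat.stalkMap (pullback.fst f (extMap K L)) w
    refine isReduced_of_injective ((pullback.fst f (extMap K L)).stalkMap w).hom ?_
    algebraize [((pullback.fst f (extMap K L)).stalkMap w).hom]
    haveI : IsLocalHom (algebraMap (X.presheaf.stalk (pullback.fst f (extMap K L) w))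
        ((pullback f (extMap K L)).presheaf.stalk w)) :=
      inferInstanceAs (IsLocalHom ((pullback.fst f (extMap K L)).stalkMap w).hom)
    haveI : Module.Flat (X.presheaf.stalk (pullback.fst f (extMap K L) w))
        ((pullback f (extMap K L)).presheaf.stalk w) := hfl
    haveI := Module.FaithfullyFlat.of_flat_of_isLocalHom (A := X.presheaf.stalk (pullback.fst f (extMap K L) w))
      (B := (pullback f (extMap K L)).presheaf.stalk w)
    exact FaithfulSMul.algebraMap_injective _ _
  haveI : PerfectField K := IsAlgClosed.perfectField K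
  have hsm := (SmoothReg.mem_smoothLocus_iff_isRegularLocalRing f _).2
    (isRegularLocalRing_stalk_of_dim_zero _ (by rw [hb]; rfl))
  refine not_mem_smoothLocus_of_odpAt (pullback.snd f (extMap K L)) w h ?_
  have he := S2155.result f (extMap K L) (pullback.snd f (extMap K L)) (pullback.fst f (extMap K L))
    (IsPullback.of_hasPullback f (extMap K L)) (Or.inr (by
      rw [HasRingHomProperty.Spec_iff (P := @Flat)]; exact RingHom.flat_algebraMap_iff.2 inferInstance))
  rw [he]
  exact hsm

end

end Groth.Agent.NodeFam
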