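import Groth.Agent.NodeFam.NodeRing
import Mathlib.RingTheory.Localization.AtPrime.Basic
import Mathlib.RingTheory.TensorProduct.Quotient
import Mathlib.LinearAlgebra.TensorProduct.Pi
import Mathlib.RingTheory.Flat.Basic
import Mathlib.LinearAlgebra.Dimension.RankNullity

/-!
# A numerical criterion for ordinary double points

An ideal `M` with residue field `k` is *node-like* if the truncations have dimension `2 n + 1` and `M` is
generated modulo `M ^ 2` by two elements whose product lies in `M ^ 3`.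
-/

set_option autoImplicit false

universe u

open scoped TensorProduct

namespace Groth.Agent.NodeFam

noncomputable section

/-- The numerical criterion for an ordinary double point. -/
def NodeCrit (k : Type u) [Field k] {R : Type u} [CommRing R] [Algebra k R] (M : Ideal R) : Prop :=
  (∀ n : ℕ, Module.finrank k (R ⧸ M ^ (n + 1)) = 2 * n + 1) ∧
    ∃ x y : R, Ideal.span {x, y} ⊔ M ^ 2 = M ∧ x * y ∈ M ^ 3

variable {k : Type u} [Field k] {R S : Type u} [CommRing R] [CommRing S] [Algebra k R] [Algebra k S]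
  {M : Ideal R} {N : Ideal S}

/-- The criterion only depends on the truncations. -/
theorem finrank_trunc_eq (φ : R →ₐ[k] S) (h : M.map φ ≤ N) (hinj : ∀ n a, φ a ∈ N ^ n → a ∈ M ^ n)
    (hsurj : ∀ n b, ∃ a, b - φ a ∈ N ^ n) (n : ℕ) :
    Module.finrank k (R ⧸ M ^ n) = Module.finrank k (S ⧸ N ^ n) := by
  have hle : M ^ n ≤ (N ^ n).comap φ := by
    rw [← Ideal.map_le_iff_le_comap, Ideal.map_pow]
    exact Ideal.pow_right_mono h n
  let q : (R ⧸ M ^ n) →ₐ[k] S ⧸ N ^ n := Ideal.quotientMapₐ _ φ hle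
  refine (LinearEquiv.ofBijective q.toLinearMap ⟨?_, fun b => ?_⟩).finrank_eq
  · exact Ideal.quotientMap_injective' (H := hle) (fun a ha => hinj n a ha)
  · obtain ⟨b, rfl⟩ := Ideal.Quotient.mk_surjective b
    obtain ⟨a, ha⟩ := hsurj n b
    exact ⟨Ideal.Quotient.mk _ a, (Ideal.Quotient.eq.2 ha).symm⟩

/-- The criterion transfers along maps bijective on truncations. -/
theorem nodeCrit_iff (φ : R →ₐ[k] S) (h : M.map φ ≤ N) (hinj : ∀ n a, φ a ∈ N ^ n → a ∈ M ^ n)
    (hsurj : ∀ n b, ∃ a, b - φ a ∈ N ^ n) : NodeCrit k M ↔ NodeCrit k N := by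
  have hd : (∀ n : ℕ, Module.finrank k (R ⧸ M ^ (n + 1)) = 2 * n + 1) ↔
      ∀ n : ℕ, Module.finrank k (S ⧸ N ^ (n + 1)) = 2 * n + 1 :=
    forall_congr' fun n => by rw [finrank_trunc_eq φ h hinj hsurj]
  have hmem : ∀ {n : ℕ} {a : R}, a ∈ M ^ n → φ a ∈ N ^ n := fun {n a} ha => by
    have := Ideal.mem_map_of_mem φ ha
    rw [Ideal.map_pow] at this
    exact Ideal.pow_right_mono h n this
  have hmem1 : ∀ {a : R}, a ∈ M → φ a ∈ N := fun {a} ha => h (Ideal.mem_map_of_mem φ ha)
  refine and_congr hd ⟨?_, ?_⟩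
  · rintro ⟨x, y, hspan, hxy⟩
    have hx : x ∈ M := hspan ▸ Ideal.mem_sup_left (Ideal.subset_span (by simp))
    have hy : y ∈ M := hspan ▸ Ideal.mem_sup_left (Ideal.subset_span (by simp))
    refine ⟨φ x, φ y, le_antisymm (sup_le ?_ (Ideal.pow_le_self two_ne_zero)) fun b hb => ?_, ?_⟩
    · rw [Ideal.span_le]; rintro z (rfl | rfl)
      exacts [hmem1 hx, hmem1 hy]
    · obtain ⟨a, ha⟩ := hsurj 2 b
      have hφa : φ a ∈ N ^ 1 := by
        rw [pow_one, ← sub_sub_cancel b (φ a)]
        exact sub_mem hb (Ideal.pow_le_self two_ne_zero ha)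
      have haM := hinj 1 a hφa
      rw [pow_one, ← hspan, Submodule.mem_sup] at haM
      obtain ⟨w, hw, m, hm, rfl⟩ := haM
      obtain ⟨p, q, rfl⟩ := Ideal.mem_span_pair.1 hw
      refine Submodule.mem_sup.2 ⟨φ p * φ x + φ q * φ y, Ideal.mem_span_pair.2 ⟨φ p, φ q, rfl⟩,
        φ m + (b - φ (p * x + q * y + m)), add_mem (hmem hm) ha, ?_⟩
      simp only [map_add, map_mul]; ring
    · rw [← map_mul]; exact hmem hxy
  · rintro ⟨x, y, hspan, hxy⟩
    have hx : x ∈ N := hspan ▸ Ideal.mem_sup_left (Ideal.subset_span (by simp))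
    have hy : y ∈ N := hspan ▸ Ideal.mem_sup_left (Ideal.subset_span (by simp))
    have lift : ∀ z ∈ N, ∃ a ∈ M, z - φ a ∈ N ^ 3 := fun z hz => by
      obtain ⟨a, ha⟩ := hsurj 3 z
      refine ⟨a, ?_, ha⟩
      have : φ a ∈ N ^ 1 := by
        rw [pow_one, ← sub_sub_cancel z (φ a)]
        exact sub_mem hz (Ideal.pow_le_self (by norm_num) ha)
      simpa using hinj 1 a this
    obtain ⟨x', hx', hxx⟩ := lift x hx
    obtain ⟨y', hy', hyy⟩ := lift y hy
    refine ⟨x', y', le_antisymm (sup_le ?_ (Ideal.pow_le_self two_ne_zero)) fun a ha => ?_, hinj 3 _ ?_⟩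
    · rw [Ideal.span_le]; rintro z (rfl | rfl)
      exacts [hx', hy']
    · have h1 : φ a ∈ N := hmem1 ha
      rw [← hspan, Submodule.mem_sup] at h1
      obtain ⟨w, hw, m, hm, hwm⟩ := h1
      obtain ⟨p, q, rfl⟩ := Ideal.mem_span_pair.1 hw
      obtain ⟨p', hp⟩ := hsurj 1 p
      obtain ⟨q', hq⟩ := hsurj 1 q
      have h3 : φ (a - (p' * x' + q' * y')) ∈ N ^ 2 := by
        have e : φ (a - (p' * x' + q' * y')) = m + (p - φ p') * x + (q - φ q') * y +
            φ p' * (x - φ x') + φ q' * (y - φ y') := by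
          simp only [map_sub, map_add, map_mul]; linear_combination -hwm
        rw [e]
        rw [pow_one] at hp hq
        have hle : N ^ 3 ≤ N ^ 2 := Ideal.pow_le_pow_right (by norm_num)
        refine add_mem (add_mem (add_mem (add_mem hm ?_) ?_) (Ideal.mul_mem_left _ _ (hle hxx)))
          (Ideal.mul_mem_left _ _ (hle hyy))
        · rw [sq]; exact Ideal.mul_mem_mul hp hx
        · rw [sq]; exact Ideal.mul_mem_mul hq hy
      exact Submodule.mem_sup.2 ⟨p' * x' + q' * y', Ideal.mem_span_pair.2 ⟨p', q', rfl⟩,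
        a - (p' * x' + q' * y'), hinj 2 _ h3, by ring⟩
    · have e : φ (x' * y') = x * y - (x - φ x') * y - φ x' * (y - φ y') := by rw [map_mul]; ring
      rw [e]
      exact sub_mem (sub_mem hxy (Ideal.mul_mem_right _ _ hxx)) (Ideal.mul_mem_left _ _ hyy)

namespace NodeCrit

theorem finiteDimensional (h : NodeCrit k M) (n : ℕ) : FiniteDimensional k (R ⧸ M ^ (n + 1)) :=
  FiniteDimensional.of_finrank_pos (by rw [h.1 n]; omega)

/-- Every element is a scalar modulo `M`. -/
theorem exists_sub_mem (h : NodeCrit k M) (r : R) : ∃ c : k, r - algebraMap k R c ∈ M := by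
  have h1 : Module.finrank k (R ⧸ M ^ (0 + 1)) = 1 := h.1 0
  have hne : (1 : R ⧸ M ^ (0 + 1)) ≠ 0 := by
    intro h0
    haveI : Subsingleton (R ⧸ M ^ (0 + 1)) := subsingleton_of_zero_eq_one h0.symm
    rw [Module.finrank_zero_of_subsingleton] at h1
    exact one_ne_zero h1.symm
  obtain ⟨c, hc⟩ := (finrank_eq_one_iff_of_nonzero' (1 : R ⧸ M ^ (0 + 1)) hne).1 h1 (Ideal.Quotient.mk _ r)
  refine ⟨c, ?_⟩
  rw [Algebra.smul_def, mul_one, IsScalarTower.algebraMap_apply k R (R ⧸ M ^ (0 + 1)),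
    Ideal.Quotient.algebraMap_eq, eq_comm, Ideal.Quotient.eq, pow_one] at hc
  exact hc

theorem ne_top (h : NodeCrit k M) : M ≠ ⊤ := by
  rintro rfl
  have h1 : Module.finrank k (R ⧸ (⊤ : Ideal R) ^ (0 + 1)) = 1 := h.1 0
  haveI : Subsingleton (R ⧸ (⊤ : Ideal R) ^ (0 + 1)) := Ideal.Quotient.subsingleton_iff.2 (by simp)
  rw [Module.finrank_zero_of_subsingleton] at h1
  exact one_ne_zero h1.symm

theorem isMaximal (h : NodeCrit k M) : M.IsMaximal := by
  refine Ideal.isMaximal_iff.2 ⟨(Ideal.ne_top_iff_one M).1 h.ne_top, fun J r hJ hrM hrJ => ?_⟩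
  obtain ⟨c, hc⟩ := h.exists_sub_mem r
  have hc0 : c ≠ 0 := by rintro rfl; simp at hc; exact hrM hc
  have h1 : algebraMap k R c ∈ J := by
    have := sub_mem hrJ (hJ hc)
    rwa [sub_sub_cancel] at this
  have h2 := Ideal.mul_mem_left J (algebraMap k R c⁻¹) h1
  rwa [← map_mul, inv_mul_cancel₀ hc0, map_one] at h2

end NodeCrit

section Span

variable {x y : R}

theorem exists_sub_mem_sq (hres : ∀ r : R, ∃ c : k, r - algebraMap k R c ∈ M)
    (hspan : Ideal.span {x, y} ⊔ M ^ 2 = M) (r : R) :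
    ∃ c₀ c₁ c₂ : k, r - (algebraMap k R c₀ + algebraMap k R c₁ * x + algebraMap k R c₂ * y) ∈ M ^ 2 := by
  have hx : x ∈ M := hspan ▸ Ideal.mem_sup_left (Ideal.subset_span (by simp))
  have hy : y ∈ M := hspan ▸ Ideal.mem_sup_left (Ideal.subset_span (by simp))
  obtain ⟨c₀, h0⟩ := hres r
  rw [← hspan, Submodule.mem_sup] at h0
  obtain ⟨w, hw, m, hm, hwm⟩ := h0
  obtain ⟨p, q, rfl⟩ := Ideal.mem_span_pair.1 hw
  obtain ⟨c₁, h1⟩ := hres p
  obtain ⟨c₂, h2⟩ := hres q
  refine ⟨c₀, c₁, c₂, ?_⟩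
  have e : r - (algebraMap k R c₀ + algebraMap k R c₁ * x + algebraMap k R c₂ * y) =
      m + (p - algebraMap k R c₁) * x + (q - algebraMap k R c₂) * y := by linear_combination -hwm
  rw [e]
  refine add_mem (add_mem hm ?_) ?_ <;> rw [sq]
  exacts [Ideal.mul_mem_mul h1 hx, Ideal.mul_mem_mul h2 hy]

theorem exists_sub_mem_cube (hres : ∀ r : R, ∃ c : k, r - algebraMap k R c ∈ M)
    (hspan : Ideal.span {x, y} ⊔ M ^ 2 = M) (r : R) :
    ∃ c₀ c₁ c₂ c₃ c₄ c₅ : k, r - (algebraMap k R c₀ + algebraMap k R c₁ * x + algebraMap k R c₂ * y +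
      algebraMap k R c₃ * (x * x) + algebraMap k R c₄ * (x * y) + algebraMap k R c₅ * (y * y)) ∈ M ^ 3 := by
  have hx : x ∈ M := hspan ▸ Ideal.mem_sup_left (Ideal.subset_span (by simp))
  have hy : y ∈ M := hspan ▸ Ideal.mem_sup_left (Ideal.subset_span (by simp))
  -- products of two elements of `M`
  have hmul : ∀ z ∈ M ^ 2, ∃ c₃ c₄ c₅ : k, z - (algebraMap k R c₃ * (x * x) + algebraMap k R c₄ * (x * y) +
      algebraMap k R c₅ * (y * y)) ∈ M ^ 3 := by
    intro z hz
    rw [sq] at hz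
    refine Submodule.mul_induction_on hz (fun a ha b hb => ?_) ?_
    · obtain ⟨a₀, a₁, a₂, ha'⟩ := exists_sub_mem_sq hres hspan a
      obtain ⟨b₀, b₁, b₂, hb'⟩ := exists_sub_mem_sq hres hspan b
      have key : ∀ (a : R) (a₀ a₁ a₂ : k), a ∈ M →
          a - (algebraMap k R a₀ + algebraMap k R a₁ * x + algebraMap k R a₂ * y) ∈ M ^ 2 → M ≠ ⊤ → a₀ = 0 := by
        intro a a₀ a₁ a₂ ha h htop
        by_contra hne
        have h1 : algebraMap k R a₀ ∈ M := by
          have := sub_mem (sub_mem (sub_mem ha (Ideal.pow_le_self two_ne_zero h))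
            (Ideal.mul_mem_left M (algebraMap k R a₁) hx)) (Ideal.mul_mem_left M (algebraMap k R a₂) hy)
          convert this using 1; ring
        exact htop (Ideal.eq_top_of_isUnit_mem _ h1 ((isUnit_iff_ne_zero.2 hne).map _))
      by_cases htop : M = ⊤
      · exact ⟨0, 0, 0, by rw [htop, Ideal.top_pow]; trivial⟩
      obtain rfl := key a a₀ a₁ a₂ ha ha' htop
      obtain rfl := key b b₀ b₁ b₂ hb hb' htop
      refine ⟨a₁ * b₁, a₁ * b₂ + a₂ * b₁, a₂ * b₂, ?_⟩
      set u := a - (algebraMap k R 0 + algebraMap k R a₁ * x + algebraMap k R a₂ * y) with hu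
      set v := b - (algebraMap k R 0 + algebraMap k R b₁ * x + algebraMap k R b₂ * y) with hv
      have e : a * b - (algebraMap k R (a₁ * b₁) * (x * x) + algebraMap k R (a₁ * b₂ + a₂ * b₁) * (x * y) +
          algebraMap k R (a₂ * b₂) * (y * y)) = u * b + (algebraMap k R a₁ * x + algebraMap k R a₂ * y) * v := by
        simp only [hu, hv, map_mul, map_add, map_zero]; ring
      rw [e]
      refine add_mem ?_ ?_
      · rw [pow_succ]; exact Ideal.mul_mem_mul ha' hb
      · rw [pow_succ']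
        exact Ideal.mul_mem_mul (add_mem (Ideal.mul_mem_left _ _ hx) (Ideal.mul_mem_left _ _ hy)) hb'
    · rintro a b ⟨p₁, p₂, p₃, hp⟩ ⟨q₁, q₂, q₃, hq⟩
      refine ⟨p₁ + q₁, p₂ + q₂, p₃ + q₃, ?_⟩
      convert add_mem hp hq using 1
      simp only [map_add]; ring
  obtain ⟨c₀, c₁, c₂, h2⟩ := exists_sub_mem_sq hres hspan r
  obtain ⟨c₃, c₄, c₅, h3⟩ := hmul _ h2
  refine ⟨c₀, c₁, c₂, c₃, c₄, c₅, ?_⟩
  convert h3 using 1
  ring

/-- With truncations of dimension three the generators are independent modulo `M ^ 2`. -/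
theorem coeff_eq_zero (hres : ∀ r : R, ∃ c : k, r - algebraMap k R c ∈ M)
    (hspan : Ideal.span {x, y} ⊔ M ^ 2 = M) (hd : Module.finrank k (R ⧸ M ^ 2) = 3) {c₀ c₁ c₂ : k}
    (h : algebraMap k R c₀ + algebraMap k R c₁ * x + algebraMap k R c₂ * y ∈ M ^ 2) :
    c₀ = 0 ∧ c₁ = 0 ∧ c₂ = 0 := by
  haveI : FiniteDimensional k (R ⧸ M ^ 2) := FiniteDimensional.of_finrank_pos (by rw [hd]; norm_num)
  let q : (Fin 3 → k) →ₗ[k] R ⧸ M ^ 2 :=
    (Ideal.Quotient.mkₐ k (M ^ 2)).toLinearMap ∘ₗ Fintype.linearCombination k ![(1 : R), x, y]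
  have hq : ∀ c : Fin 3 → k, q c =
      Ideal.Quotient.mk _ (algebraMap k R (c 0) + algebraMap k R (c 1) * x + algebraMap k R (c 2) * y) := by
    intro c
    simp [q, Fintype.linearCombination_apply, Fin.sum_univ_three, Algebra.smul_def]
  have hsurj : Function.Surjective q := fun b => by
    obtain ⟨r, rfl⟩ := Ideal.Quotient.mk_surjective b
    obtain ⟨d₀, d₁, d₂, hd'⟩ := exists_sub_mem_sq hres hspan r
    refine ⟨![d₀, d₁, d₂], ?_⟩
    rw [hq]
    simpa using (Ideal.Quotient.eq.2 hd').symm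
  have hinj : Function.Injective q :=
    (LinearMap.injective_iff_surjective_of_finrank_eq_finrank (by simp [hd])).2 hsurj
  have h0 : q ![c₀, c₁, c₂] = 0 := by
    rw [hq]; exact Ideal.Quotient.eq_zero_iff_mem.2 h
  have h1 := hinj (h0.trans (map_zero q).symm)
  exact ⟨congrFun h1 0, congrFun h1 1, congrFun h1 2⟩

end Span

/-- In a node-like ideal only elements of `M ^ 2` square into `M ^ 3`. -/
theorem NodeCrit.mem_sq_of_sq_mem (h : NodeCrit k M) {z : R} (hz : z ∈ M) (hzz : z * z ∈ M ^ 3) : z ∈ M ^ 2 := by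
  obtain ⟨x, y, hspan, hxy⟩ := h.2
  have hres := h.exists_sub_mem
  have hx : x ∈ M := hspan ▸ Ideal.mem_sup_left (Ideal.subset_span (by simp))
  have hy : y ∈ M := hspan ▸ Ideal.mem_sup_left (Ideal.subset_span (by simp))
  obtain ⟨c₀, c₁, c₂, hc⟩ := exists_sub_mem_sq hres hspan z
  have hc0 : c₀ = 0 := by
    by_contra hne
    refine h.ne_top (Ideal.eq_top_of_isUnit_mem _ (?_ : algebraMap k R c₀ ∈ M) ((isUnit_iff_ne_zero.2 hne).map _))
    have := sub_mem (sub_mem (sub_mem hz (Ideal.pow_le_self two_ne_zero hc))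
      (Ideal.mul_mem_left M (algebraMap k R c₁) hx)) (Ideal.mul_mem_left M (algebraMap k R c₂) hy)
    convert this using 1; ring
  subst hc0
  set d := z - (algebraMap k R 0 + algebraMap k R c₁ * x + algebraMap k R c₂ * y) with hd
  have hsq : algebraMap k R (c₁ * c₁) * (x * x) + algebraMap k R (c₂ * c₂) * (y * y) ∈ M ^ 3 := by
    have e : algebraMap k R (c₁ * c₁) * (x * x) + algebraMap k R (c₂ * c₂) * (y * y) =
        z * z - d * z - (algebraMap k R c₁ * x + algebraMap k R c₂ * y) * d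
          - algebraMap k R (c₁ * c₂ + c₂ * c₁) * (x * y) := by
      simp only [hd, map_mul, map_add, map_zero]; ring
    rw [e]
    refine sub_mem (sub_mem (sub_mem hzz ?_) ?_) (Ideal.mul_mem_left _ _ hxy)
    · rw [pow_succ]; exact Ideal.mul_mem_mul hc hz
    · rw [pow_succ']; exact Ideal.mul_mem_mul (add_mem (Ideal.mul_mem_left _ _ hx) (Ideal.mul_mem_left _ _ hy)) hc
  suffices hboth : c₁ = 0 ∧ c₂ = 0 by
    rw [hboth.1, hboth.2] at hd
    simp only [map_zero, zero_mul, add_zero, sub_zero] at hd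
    rwa [hd] at hc
  haveI : FiniteDimensional k (R ⧸ M ^ 3) := h.finiteDimensional 2
  have h5 : Module.finrank k (R ⧸ M ^ 3) = 5 := h.1 2
  -- a nonzero coefficient would cut down the third truncation
  have key : ∀ (w₁ w₂ : R) (s : k), w₁ - algebraMap k R s * w₂ ∈ M ^ 3 →
      (∀ r : R, ∃ e₀ e₁ e₂ e₃ e₄ : k, r - (algebraMap k R e₀ + algebraMap k R e₁ * x + algebraMap k R e₂ * y +
        algebraMap k R e₃ * w₁ + algebraMap k R e₄ * w₂) ∈ M ^ 3) → False := by
    intro w₁ w₂ s hw hgen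
    let q : (Fin 4 → k) →ₗ[k] R ⧸ M ^ 3 :=
      (Ideal.Quotient.mkₐ k (M ^ 3)).toLinearMap ∘ₗ Fintype.linearCombination k ![(1 : R), x, y, w₂]
    have hsurj : Function.Surjective q := fun b => by
      obtain ⟨r, rfl⟩ := Ideal.Quotient.mk_surjective b
      obtain ⟨e₀, e₁, e₂, e₃, e₄, he⟩ := hgen r
      refine ⟨![e₀, e₁, e₂, e₃ * s + e₄], (Ideal.Quotient.eq.2 ?_).symm⟩
      have := add_mem he (Ideal.mul_mem_left _ (algebraMap k R e₃) hw)
      convert this using 1
      simp [Fintype.linearCombination_apply, Fin.sum_univ_four, Algebra.smul_def]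
      ring
    have := LinearMap.finrank_le_finrank_of_surjective hsurj
    rw [h5, Module.finrank_fintype_fun_eq_card, Fintype.card_fin] at this
    omega
  have hgen : ∀ r : R, ∃ e₀ e₁ e₂ e₃ e₄ : k, r - (algebraMap k R e₀ + algebraMap k R e₁ * x +
      algebraMap k R e₂ * y + algebraMap k R e₃ * (x * x) + algebraMap k R e₄ * (y * y)) ∈ M ^ 3 := fun r => by
    obtain ⟨e₀, e₁, e₂, e₃, e₄, e₅, he⟩ := exists_sub_mem_cube hres hspan r
    refine ⟨e₀, e₁, e₂, e₃, e₅, ?_⟩
    have := add_mem he (Ideal.mul_mem_left _ (algebraMap k R e₄) hxy)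
    convert this using 1; ring
  constructor
  · by_contra hne
    refine key (x * x) (y * y) (-(c₂ * c₂) / (c₁ * c₁)) ?_ hgen
    have hm := Ideal.mul_mem_left _ (algebraMap k R (c₁ * c₁)⁻¹) hsq
    rw [mul_add, ← mul_assoc, ← map_mul, inv_mul_cancel₀ (mul_ne_zero hne hne), map_one, one_mul, ← mul_assoc,
      ← map_mul] at hm
    convert hm using 1
    rw [div_eq_inv_mul, mul_neg, map_neg]; ring
  · by_contra hne
    refine key (y * y) (x * x) (-(c₁ * c₁) / (c₂ * c₂)) ?_ fun r => ?_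
    · have hm := Ideal.mul_mem_left _ (algebraMap k R (c₂ * c₂)⁻¹) hsq
      rw [mul_add, add_comm, ← mul_assoc, ← map_mul, inv_mul_cancel₀ (mul_ne_zero hne hne), map_one, one_mul,
        ← mul_assoc, ← map_mul] at hm
      convert hm using 1
      rw [div_eq_inv_mul, mul_neg, map_neg]; ring
    · obtain ⟨e₀, e₁, e₂, e₃, e₄, he⟩ := hgen r
      refine ⟨e₀, e₁, e₂, e₄, e₃, ?_⟩
      convert he using 1; ring

/-- Localising at the maximal ideal does not change the criterion. -/
theorem nodeCrit_localization_iff [hM : M.IsMaximal] :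
    NodeCrit k M ↔ NodeCrit k (M.map (algebraMap R (Localization.AtPrime M))) := by
  have hs : ∀ (n : ℕ) (s : R), s ∉ M → ∃ t : R, t * s - 1 ∈ M ^ n := by
    intro n s hsM
    have h1 : Ideal.span {s} ⊔ M ^ n = ⊤ := by
      refine Ideal.sup_pow_eq_top ?_
      exact hM.1.2 _ (lt_of_le_of_ne le_sup_right fun h => hsM (by
        rw [h]; exact Ideal.mem_sup_left (Ideal.mem_span_singleton_self s)))
    obtain ⟨w, hw, m, hm, hwm⟩ := Submodule.mem_sup.1 (h1 ▸ Submodule.mem_top : (1 : R) ∈ _)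
    obtain ⟨t, rfl⟩ := Ideal.mem_span_singleton'.1 hw
    exact ⟨t, by rw [← hwm]; simpa using neg_mem hm⟩
  refine nodeCrit_iff (IsScalarTower.toAlgHom k R (Localization.AtPrime M)) (le_of_eq rfl) (fun n a ha => ?_)
    fun n b => ?_
  · change algebraMap R _ a ∈ _ at ha
    rw [← Ideal.map_pow, IsLocalization.mem_map_algebraMap_iff M.primeCompl] at ha
    obtain ⟨⟨⟨c, hc⟩, ⟨s, hsM⟩⟩, he⟩ := ha
    rw [← map_mul] at he
    obtain ⟨⟨v, hv⟩, hv'⟩ := (IsLocalization.eq_iff_exists M.primeCompl _).1 he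
    obtain ⟨t, ht⟩ := hs n (v * s) (M.primeCompl.mul_mem hv hsM)
    have e : a = t * v * c - (t * (v * s) - 1) * a := by
      have : v * (a * s) = v * c := hv'
      linear_combination t * this
    rw [e]
    exact sub_mem (Ideal.mul_mem_left _ _ hc) (Ideal.mul_mem_right _ _ ht)
  · obtain ⟨a, ⟨s, hsM⟩, rfl⟩ := IsLocalization.exists_mk'_eq M.primeCompl b
    obtain ⟨t, ht⟩ := hs n s hsM
    refine ⟨t * a, ?_⟩
    show _ - algebraMap R _ (t * a) ∈ _
    rw [← Ideal.map_pow]
    have hu : IsUnit (algebraMap R (Localization.AtPrime M) s) :=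
      IsLocalization.map_units (Localization.AtPrime M) (⟨s, hsM⟩ : M.primeCompl)
    rw [← Ideal.unit_mul_mem_iff_mem _ hu, mul_sub, mul_comm, IsLocalization.mk'_spec, ← map_mul, ← map_sub]
    refine Ideal.mem_map_of_mem _ ?_
    have e : a - s * (t * a) = -((t * s - 1) * a) := by ring
    rw [e]
    exact neg_mem (Ideal.mul_mem_right _ _ ht)

section Extension

variable {L : Type u} [Field L] [Algebra k L]

/-- The ideal in the extension of scalars. -/
abbrev extIdeal (k : Type u) [Field k] [Algebra k R] (L : Type u) [Field L] [Algebra k L] (M : Ideal R) : Ideal (L ⊗[k] R) :=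
  M.map (Algebra.TensorProduct.includeRight : R →ₐ[k] L ⊗[k] R)

/-- Extension of scalars does not change the dimensions of the truncations. -/
theorem finrank_ext (n : ℕ) :
    Module.finrank L ((L ⊗[k] R) ⧸ extIdeal k L M ^ n) = Module.finrank k (R ⧸ M ^ n) := by
  rw [extIdeal, ← Ideal.map_pow,
    ← LinearEquiv.finrank_eq (Algebra.TensorProduct.tensorQuotientEquiv (R := k) L R L (M ^ n)).toLinearEquiv]
  exact Module.finrank_baseChange

/-- The criterion ascends along extensions of scalars, and descends to an algebraically closed field. -/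
theorem nodeCrit_ext_iff [IsAlgClosed k] : NodeCrit k M ↔ NodeCrit L (extIdeal k L M) := by
  let ι : R →ₐ[k] L ⊗[k] R := Algebra.TensorProduct.includeRight
  have hgen : ∀ x y : R, Ideal.span {x, y} ⊔ M ^ 2 = M →
      Ideal.span {ι x, ι y} ⊔ extIdeal k L M ^ 2 = extIdeal k L M := fun x y h => by
    conv_rhs => rw [extIdeal, ← h]
    rw [Ideal.map_sup, Ideal.map_span, Set.image_pair, Ideal.map_pow]
  constructor
  · rintro ⟨hd, x, y, hspan, hxy⟩
    refine ⟨fun n => by rw [finrank_ext]; exact hd n, ι x, ι y, hgen x y hspan, ?_⟩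
    rw [← map_mul, extIdeal, ← Ideal.map_pow]
    exact Ideal.mem_map_of_mem _ hxy
  intro hB
  have hd : ∀ n : ℕ, Module.finrank k (R ⧸ M ^ (n + 1)) = 2 * n + 1 := fun n => by
    rw [← finrank_ext (L := L)]; exact hB.1 n
  refine ⟨hd, ?_⟩
  -- residue field and generators downstairs
  haveI h2fin : FiniteDimensional k (R ⧸ M ^ 2) := FiniteDimensional.of_finrank_pos (by rw [hd 1]; norm_num)
  haveI h1fin : FiniteDimensional k (R ⧸ M ^ 1) := FiniteDimensional.of_finrank_pos (by rw [hd 0]; norm_num)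
  have hres : ∀ r : R, ∃ c : k, r - algebraMap k R c ∈ M := by
    intro r
    have hne : (1 : R ⧸ M ^ (0 + 1)) ≠ 0 := by
      intro h0
      haveI : Subsingleton (R ⧸ M ^ (0 + 1)) := subsingleton_of_zero_eq_one h0.symm
      have h1 := hd 0
      rw [Module.finrank_zero_of_subsingleton] at h1
      omega
    obtain ⟨c, hc⟩ := (finrank_eq_one_iff_of_nonzero' (1 : R ⧸ M ^ (0 + 1)) hne).1 (hd 0) (Ideal.Quotient.mk _ r)
    refine ⟨c, ?_⟩
    rw [Algebra.smul_def, mul_one, IsScalarTower.algebraMap_apply k R (R ⧸ M ^ (0 + 1)),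
      Ideal.Quotient.algebraMap_eq, eq_comm, Ideal.Quotient.eq, pow_one] at hc
    exact hc
  obtain ⟨u, v, hspan⟩ : ∃ u v : R, Ideal.span {u, v} ⊔ M ^ 2 = M := by
    let q : (R ⧸ M ^ 2) →ₗ[k] R ⧸ M ^ 1 :=
      (Ideal.Quotient.factorₐ k (Ideal.pow_le_pow_right one_le_two : M ^ 2 ≤ M ^ 1)).toLinearMap
    have hq : Function.Surjective q :=
      Ideal.Quotient.factor_surjective (Ideal.pow_le_pow_right one_le_two : M ^ 2 ≤ M ^ 1)
    have hker : Module.finrank k (LinearMap.ker q) = 2 := by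
      have := q.finrank_range_add_finrank_ker
      rw [LinearMap.range_eq_top.2 hq, finrank_top, show Module.finrank k (R ⧸ M ^ 1) = 1 from hd 0,
        show Module.finrank k (R ⧸ M ^ 2) = 3 from hd 1] at this
      omega
    let b := Module.finBasisOfFinrankEq k _ hker
    obtain ⟨u, hu⟩ := Ideal.Quotient.mk_surjective (b 0 : R ⧸ M ^ 2)
    obtain ⟨v, hv⟩ := Ideal.Quotient.mk_surjective (b 1 : R ⧸ M ^ 2)
    have hmem : ∀ {w : R}, Ideal.Quotient.mk (M ^ 2) w ∈ LinearMap.ker q ↔ w ∈ M := fun {w} => by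
      rw [LinearMap.mem_ker]
      show Ideal.Quotient.factor (Ideal.pow_le_pow_right one_le_two : M ^ 2 ≤ M ^ 1) (Ideal.Quotient.mk (M ^ 2) w) = 0 ↔ _
      rw [Ideal.Quotient.factor_mk, Ideal.Quotient.eq_zero_iff_mem, pow_one]
    refine ⟨u, v, le_antisymm (sup_le ?_ (Ideal.pow_le_self two_ne_zero)) fun w hw => ?_⟩
    · rw [Ideal.span_le]; rintro z (rfl | rfl)
      exacts [hmem.1 (hu ▸ (b 0).2), hmem.1 (hv ▸ (b 1).2)]
    · have hsum := congrArg Subtype.val (b.sum_repr ⟨_, hmem.2 hw⟩)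
      simp only [Fin.sum_univ_two, Submodule.coe_add, Submodule.coe_smul, ← hu, ← hv, Algebra.smul_def,
        IsScalarTower.algebraMap_apply k R (R ⧸ M ^ 2), Ideal.Quotient.algebraMap_eq, ← map_mul,
        ← map_add] at hsum
      exact Submodule.mem_sup.2 ⟨_, Ideal.mem_span_pair.2 ⟨_, _, rfl⟩, _, Ideal.Quotient.eq.1 hsum.symm,
        add_sub_cancel _ w⟩
  -- a quadratic relation
  haveI h3fin : FiniteDimensional k (R ⧸ M ^ 3) := FiniteDimensional.of_finrank_pos (by rw [hd 2]; norm_num)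
  let q6 : (Fin 6 → k) →ₗ[k] R ⧸ M ^ 3 := (Ideal.Quotient.mkₐ k (M ^ 3)).toLinearMap ∘ₗ
    Fintype.linearCombination k ![(1 : R), u, v, u * u, u * v, v * v]
  obtain ⟨c, hc, hc0⟩ : ∃ c, q6 c = 0 ∧ c ≠ 0 := by
    have hne : LinearMap.ker q6 ≠ ⊥ := by
      intro hbot
      have := LinearMap.finrank_le_finrank_of_injective (LinearMap.ker_eq_bot.1 hbot)
      rw [show Module.finrank k (R ⧸ M ^ 3) = 5 from hd 2, Module.finrank_fintype_fun_eq_card,
        Fintype.card_fin] at this
      omega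
    obtain ⟨c, hc, hc0⟩ := Submodule.exists_mem_ne_zero_of_ne_bot hne
    exact ⟨c, hc, hc0⟩
  have hu : u ∈ M := hspan ▸ Ideal.mem_sup_left (Ideal.subset_span (by simp))
  have hv : v ∈ M := hspan ▸ Ideal.mem_sup_left (Ideal.subset_span (by simp))
  have hrel : algebraMap k R (c 0) + algebraMap k R (c 1) * u + algebraMap k R (c 2) * v +
      algebraMap k R (c 3) * (u * u) + algebraMap k R (c 4) * (u * v) + algebraMap k R (c 5) * (v * v) ∈
        M ^ 3 := by
    rw [← Ideal.Quotient.eq_zero_iff_mem, ← hc]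
    simp [q6, Fintype.linearCombination_apply, Fin.sum_univ_six, Algebra.smul_def]
  obtain ⟨e0, e1, e2⟩ := coeff_eq_zero hres hspan (hd 1) (c₀ := c 0) (c₁ := c 1) (c₂ := c 2) (by
    have hq2 : algebraMap k R (c 3) * (u * u) + algebraMap k R (c 4) * (u * v) +
        algebraMap k R (c 5) * (v * v) ∈ M ^ 2 := by
      rw [sq]
      exact add_mem (add_mem (Ideal.mul_mem_left _ _ (Ideal.mul_mem_mul hu hu))
        (Ideal.mul_mem_left _ _ (Ideal.mul_mem_mul hu hv))) (Ideal.mul_mem_left _ _ (Ideal.mul_mem_mul hv hv))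
    have := sub_mem (Ideal.pow_le_pow_right (by norm_num : 2 ≤ 3) hrel) hq2
    convert this using 1; ring)
  simp only [e0, e1, e2, map_zero, zero_mul, zero_add] at hrel
  -- factor the form into two linear forms
  obtain ⟨α, β, γ, δ, hpoly, hnz⟩ : ∃ α β γ δ : k, (α * γ = c 3 ∧ α * δ + β * γ = c 4 ∧ β * δ = c 5) ∧
      (α ≠ 0 ∨ β ≠ 0) ∧ (γ ≠ 0 ∨ δ ≠ 0) := by
    by_cases h3 : c 3 = 0
    · refine ⟨0, 1, c 4, c 5, ⟨by simp [h3], by simp, by simp⟩, Or.inr one_ne_zero, ?_⟩
      by_contra hcon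
      rw [not_or, not_not, not_not] at hcon
      refine hc0 (funext fun i => ?_)
      fin_cases i <;> simp [e0, e1, e2, h3, hcon.1, hcon.2]
    · obtain ⟨r, hr⟩ := IsAlgClosed.exists_root
        (Polynomial.C (c 3) * Polynomial.X ^ 2 + Polynomial.C (c 4) * Polynomial.X + Polynomial.C (c 5))
        (by rw [Polynomial.degree_quadratic h3]; exact two_ne_zero)
      simp [Polynomial.IsRoot] at hr
      refine ⟨1, -r, c 3, c 4 + c 3 * r, ⟨by ring, by ring, ?_⟩, Or.inl one_ne_zero, Or.inl h3⟩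
      linear_combination -hr
  set x := algebraMap k R α * u + algebraMap k R β * v with hx
  set y := algebraMap k R γ * u + algebraMap k R δ * v with hy
  have hxy : x * y ∈ M ^ 3 := by
    have e : x * y = algebraMap k R (c 3) * (u * u) + algebraMap k R (c 4) * (u * v) +
        algebraMap k R (c 5) * (v * v) := by
      simp only [hx, hy, ← hpoly.1, ← hpoly.2.1, ← hpoly.2.2, map_add, map_mul]; ring
    rw [e]; exact hrel
  by_cases hdet : α * δ - β * γ = 0
  · -- proportional forms would square into the cube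
    exfalso
    obtain ⟨t, ht0, htα, htβ⟩ : ∃ t : k, t ≠ 0 ∧ γ = t * α ∧ δ = t * β := by
      rcases hnz.1 with h | h
      · have hγ : γ ≠ 0 := by
          intro hγ
          rcases hnz.2 with h2 | h2
          · exact h2 hγ
          · rw [hγ, mul_zero, sub_zero] at hdet
            exact mul_ne_zero h h2 hdet
        refine ⟨γ / α, div_ne_zero hγ h, by field_simp, ?_⟩
        field_simp
        linear_combination hdet
      · have hδ : δ ≠ 0 := by
          intro hδ
          rcases hnz.2 with h2 | h2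
          · rw [hδ, mul_zero, zero_sub, neg_eq_zero] at hdet
            exact mul_ne_zero h h2 hdet
          · exact h2 hδ
        refine ⟨δ / β, div_ne_zero hδ h, ?_, by field_simp⟩
        field_simp
        linear_combination -hdet
    have hxx : x * x ∈ M ^ 3 := by
      have e : x * x = algebraMap k R t⁻¹ * (x * y) := by
        have : y = algebraMap k R t * x := by simp only [hx, hy, htα, htβ, map_mul]; ring
        rw [this, mul_left_comm (algebraMap k R t⁻¹), ← mul_assoc (algebraMap k R t⁻¹) (algebraMap k R t),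
          ← map_mul, inv_mul_cancel₀ ht0, map_one, one_mul]
      rw [e]; exact Ideal.mul_mem_left _ _ hxy
    have hxM : x ∈ M := add_mem (Ideal.mul_mem_left _ _ hu) (Ideal.mul_mem_left _ _ hv)
    have hB2 : ι x ∈ extIdeal k L M ^ 2 := hB.mem_sq_of_sq_mem (Ideal.mem_map_of_mem _ hxM) (by
      rw [← map_mul, extIdeal, ← Ideal.map_pow]; exact Ideal.mem_map_of_mem _ hxx)
    have hall := coeff_eq_zero hB.exists_sub_mem (hgen u v hspan) (hB.1 1)
      (c₀ := 0) (c₁ := algebraMap k L α) (c₂ := algebraMap k L β) (by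
        have e : ∀ s : k, algebraMap L (L ⊗[k] R) (algebraMap k L s) = ι (algebraMap k R s) := fun s => by
          rw [← IsScalarTower.algebraMap_apply k L (L ⊗[k] R), ι.commutes]
        rw [map_zero, zero_add, e, e, ← map_mul, ← map_mul, ← map_add]
        exact hB2)
    rcases hnz.1 with h | h
    · exact h ((map_eq_zero _).1 hall.2.1)
    · exact h ((map_eq_zero _).1 hall.2.2)
  · refine ⟨x, y, ?_, hxy⟩
    refine le_antisymm (sup_le ?_ (Ideal.pow_le_self two_ne_zero)) ?_
    · rw [Ideal.span_le]; rintro z (rfl | rfl) <;>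
        exact add_mem (Ideal.mul_mem_left _ _ hu) (Ideal.mul_mem_left _ _ hv)
    · have hmem : ∀ p q : k, algebraMap k R p * x + algebraMap k R q * y ∈ Ideal.span {x, y} ⊔ M ^ 2 :=
        fun p q => Ideal.mem_sup_left (Ideal.mem_span_pair.2 ⟨_, _, rfl⟩)
      refine hspan.ge.trans (sup_le ?_ le_sup_right)
      rw [Ideal.span_le]
      set D := α * δ - β * γ with hD
      rintro z (hz | hz) <;> rw [hz]
      · have e : u = algebraMap k R (D⁻¹ * δ) * x + algebraMap k R (-(D⁻¹ * β)) * y := by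
          have h1 : algebraMap k R D⁻¹ * algebraMap k R D = 1 := by
            rw [← map_mul, inv_mul_cancel₀ hdet, map_one]
          simp only [hx, hy, map_neg, map_mul, hD, map_sub] at h1 ⊢
          linear_combination (-u) * h1
        show u ∈ _
        rw [e]; exact hmem _ _
      · have e : v = algebraMap k R (-(D⁻¹ * γ)) * x + algebraMap k R (D⁻¹ * α) * y := by
          have h1 : algebraMap k R D⁻¹ * algebraMap k R D = 1 := by
            rw [← map_mul, inv_mul_cancel₀ hdet, map_one]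
          simp only [hx, hy, map_neg, map_mul, hD, map_sub] at h1 ⊢
          linear_combination (-v) * h1
        show v ∈ _
        rw [e]; exact hmem _ _

end Extension

end

end Groth.Agent.NodeFam
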