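import Groth.Agent.NodeFam.NodeEquation

/-!
# Restricting a plane cut to a principal open
-/

set_option autoImplicit false
set_option linter.style.haveILetI false

universe u

open scoped TensorProduct

namespace Groth.Agent.NodeFam

noncomputable section

variable {R B A : Type u} [CommRing R] [CommRing B] [Algebra R B] [CommRing A] [Algebra R A]

/-- The restriction of a cut to a principal open. -/
theorem exists_cut_away (q : B →ₐ[R] A) (hq : Function.Surjective q) {h : B} (σ : B) (hh : q h = 0)
    (hker : ∀ z, q z = 0 → ∃ m : ℕ, σ ^ m * z ∈ Ideal.span {h}) :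
    ∃ q' : Localization.Away σ →ₐ[R] Localization.Away (q σ),
      Function.Surjective q' ∧ RingHom.ker q' = Ideal.span {algebraMap B (Localization.Away σ) h} ∧
      ∀ b, q' (algebraMap B (Localization.Away σ) b) = algebraMap A (Localization.Away (q σ)) (q b) := by
  let j : B →ₐ[R] Localization.Away (q σ) := (IsScalarTower.toAlgHom R A (Localization.Away (q σ))).comp q
  have hu : IsUnit (j σ) := IsLocalization.Away.algebraMap_isUnit (S := Localization.Away (q σ)) (q σ)
  let q' : Localization.Away σ →ₐ[R] Localization.Away (q σ) :=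
    IsLocalization.liftAlgHom (M := Submonoid.powers σ) (f := j) (fun y => by
      obtain ⟨m, hm⟩ := y.2
      show IsUnit (j y.1)
      rw [← hm, map_pow]; exact hu.pow m)
  have hq' : ∀ b, q' (algebraMap B (Localization.Away σ) b) = algebraMap A (Localization.Away (q σ)) (q b) :=
    fun b => by simp [q', IsLocalization.lift_eq, j]
  have hσu : IsUnit (algebraMap B (Localization.Away σ) σ) := IsLocalization.Away.algebraMap_isUnit σ
  have hqσu : IsUnit (algebraMap A (Localization.Away (q σ)) (q σ)) := IsLocalization.Away.algebraMap_isUnit (q σ)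
  refine ⟨q', fun w => ?_, le_antisymm (fun z hz => ?_) ?_, hq'⟩
  · obtain ⟨m, a, hma⟩ := IsLocalization.Away.surj (q σ) w
    obtain ⟨b, rfl⟩ := hq a
    obtain ⟨v, hv⟩ := hσu.exists_left_inv
    refine ⟨algebraMap B (Localization.Away σ) b * v ^ m, (hqσu.pow m).mul_right_cancel ?_⟩
    rw [hma, map_mul, map_pow, hq', ← hq' σ, mul_assoc, ← mul_pow, ← map_mul, hv, map_one, one_pow, mul_one]
  · obtain ⟨m, b, hmb⟩ := IsLocalization.Away.surj σ z
    have h0 : algebraMap A (Localization.Away (q σ)) (q b) = 0 := by
      rw [← hq', ← hmb, map_mul, show q' z = 0 from hz, zero_mul]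
    obtain ⟨l, hl⟩ := IsLocalization.Away.exists_of_eq (q σ) (h0.trans (map_zero _).symm)
    rw [mul_zero, ← map_pow, ← map_mul] at hl
    obtain ⟨m', hm'⟩ := hker _ hl
    obtain ⟨r, hr⟩ := Ideal.mem_span_singleton'.1 hm'
    have e : z * algebraMap B (Localization.Away σ) σ ^ (m + (m' + l)) =
        algebraMap B (Localization.Away σ) r * algebraMap B (Localization.Away σ) h := by
      rw [← map_mul, hr, pow_add, ← mul_assoc, hmb, map_mul, map_mul, map_pow, map_pow, pow_add]
      ring
    obtain ⟨v, hv⟩ := (hσu.pow (m + (m' + l))).exists_left_inv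
    refine Ideal.mem_span_singleton'.2 ⟨v * algebraMap B (Localization.Away σ) r, ?_⟩
    rw [mul_assoc, ← e, mul_left_comm, hv, mul_one]
  · rw [Ideal.span_singleton_le_iff_mem]
    show q' _ = 0
    rw [hq', hh, map_zero]

end

end Groth.Agent.NodeFam
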