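import Groth.Agent.SrcDescent.Scheme
import Mathlib.AlgebraicGeometry.Limits

/-!
# Flatness and finite presentation from an étale cover
-/

set_option autoImplicit false
set_option backward.isDefEq.respectTransparency false
set_option backward.isDefEq.respectTransparency.types false

universe u

open CategoryTheory CategoryTheory.Limits AlgebraicGeometry

namespace Groth.Agent.NodeFam

theorem flat_lfp_of_etale_cover {X S : Scheme.{u}} (f : X ⟶ S) {ι : Type u} {U : ι → Scheme.{u}}
    (g : ∀ i, U i ⟶ X) [∀ i, Etale (g i)] (hsurj : ∀ x : X, ∃ i, x ∈ Set.range (g i).base)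
    [∀ i, Flat (g i ≫ f)] [∀ i, LocallyOfFinitePresentation (g i ≫ f)] :
    Flat f ∧ LocallyOfFinitePresentation f := by
  haveI : Etale (Sigma.desc g) := IsZariskiLocalAtSource.sigmaDesc (P := @Etale) fun i => inferInstance
  haveI : Surjective (Sigma.desc g) := ⟨fun x => by
    obtain ⟨i, y, hy⟩ := hsurj x
    exact ⟨Sigma.ι U i y, by rw [← Scheme.Hom.comp_apply, Sigma.ι_desc]; exact hy⟩⟩
  have e : Sigma.desc g ≫ f = Sigma.desc fun i => g i ≫ f := Sigma.hom_ext _ _ fun i => by simp
  exact ⟨SrcDescent.flat_of_smooth_comp (Sigma.desc g) f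
      (e ▸ IsZariskiLocalAtSource.sigmaDesc (P := @Flat) fun i => inferInstance),
    SrcDescent.locallyOfFinitePresentation_of_smooth_comp (Sigma.desc g) f
      (e ▸ IsZariskiLocalAtSource.sigmaDesc (P := @LocallyOfFinitePresentation) fun i => inferInstance)⟩

end Groth.Agent.NodeFam
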