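import Groth.Agent.NodeFam.EtaleTaylor
import Mathlib.RingTheory.Etale.Basic
import Mathlib.RingTheory.Derivation.ToSquareZero
import Mathlib.RingTheory.TensorProduct.Quotient
import Mathlib.LinearAlgebra.Matrix.NonsingularInverse

/-!
# Coordinates on an algebra, change of coordinates, and transversal cuts
-/

set_option autoImplicit false
set_option linter.style.haveILetI false

universe u

open scoped TensorProduct
open KaehlerDifferential

namespace Groth.Agent.NodeFam

noncomputable section

variable {R B : Type u} [CommRing R] [CommRing B] [Algebra R B]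

/-- Two functions with dual derivations, generating the differentials, on a formally smooth algebra. -/
structure Coord (R B : Type u) [CommRing R] [CommRing B] [Algebra R B] (x : Fin 2 → B)
    (δ : Fin 2 → Derivation R B B) : Prop where
  smooth : Algebra.FormallySmooth R B
  dual : ∀ i j, δ i (x j) = if i = j then 1 else 0
  det : ∀ (M : Type u) [AddCommGroup M] [Module B M] [Module R M] [IsScalarTower R B M] (D : Derivation R B M),
    (∀ l, D (x l) = 0) → ∀ b, D b = 0

/-- A formally étale algebra over the plane has coordinates. -/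
theorem exists_coord_of_etale [Algebra (MvPolynomial (Fin 2) R) B] [IsScalarTower R (MvPolynomial (Fin 2) R) B]
    [Algebra.FormallyEtale (MvPolynomial (Fin 2) R) B] :
    ∃ δ : Fin 2 → Derivation R B B, Coord R B (fun l => coordFun (R := R) l) δ := by
  obtain ⟨δ, hδ⟩ := exists_coordDer (R := R) B
  refine ⟨δ, Algebra.FormallySmooth.comp R (MvPolynomial (Fin 2) R) B, hδ, fun M _ _ _ _ D hD b => ?_⟩
  let e := tensorKaehlerEquivOfFormallyEtale R (MvPolynomial (Fin 2) R) B
  have hz : D.liftKaehlerDifferential ∘ₗ e.toLinearMap = 0 := by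
    refine ((mvPolynomialBasis R (Fin 2)).baseChange B).ext fun j => ?_
    rw [Module.Basis.baseChange_apply, mvPolynomialBasis_apply, LinearMap.comp_apply, LinearMap.zero_apply]
    show D.liftKaehlerDifferential (e (1 ⊗ₜ KaehlerDifferential.D R (MvPolynomial (Fin 2) R) (MvPolynomial.X j))) = 0
    rw [tensorKaehlerEquivOfFormallyEtale_apply, mapBaseChange_tmul, one_smul, map_D,
      Derivation.liftKaehlerDifferential_comp_D]
    exact hD j
  have h0 : D.liftKaehlerDifferential = 0 := by
    refine LinearMap.ext fun w => ?_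
    obtain ⟨w, rfl⟩ := e.surjective w
    exact LinearMap.congr_fun hz w
  rw [← Derivation.liftKaehlerDifferential_comp_D D b, h0, LinearMap.zero_apply]

variable {x : Fin 2 → B} {δ : Fin 2 → Derivation R B B}

/-- Coordinates pass to formally étale algebras, with compatible derivations. -/
theorem Coord.exists_ext (hc : Coord R B x δ) (B' : Type u) [CommRing B'] [Algebra R B'] [Algebra B B']
    [IsScalarTower R B B'] [Algebra.FormallyEtale B B'] :
    ∃ δ' : Fin 2 → Derivation R B' B', Coord R B' (fun l => algebraMap B B' (x l)) δ' ∧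
      ∀ i b, δ' i (algebraMap B B' b) = algebraMap B B' (δ i b) := by
  haveI := hc.smooth
  let e := tensorKaehlerEquivOfFormallyEtale R B B'
  let δ' : Fin 2 → Derivation R B' B' := fun i =>
    ((((Algebra.linearMap B B').compDer (δ i)).liftKaehlerDifferential.liftBaseChange B') ∘ₗ
      e.symm.toLinearMap).compDer (D R B')
  have hext : ∀ i b, δ' i (algebraMap B B' b) = algebraMap B B' (δ i b) := fun i b => by
    show LinearMap.liftBaseChange B' _ (e.symm (D R B' (algebraMap B B' b))) = _
    rw [tensorKaehlerEquivOfFormallyEtale_symm_D_algebraMap, LinearMap.liftBaseChange_tmul, one_smul,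
      Derivation.liftKaehlerDifferential_comp_D]
    rfl
  refine ⟨δ', ⟨Algebra.FormallySmooth.comp R B B', fun i j => ?_, fun M _ _ _ _ D' hD b => ?_⟩, hext⟩
  · rw [hext, hc.dual]
    split <;> simp
  · letI : Module B M := Module.compHom M (algebraMap B B')
    haveI : IsScalarTower B B' M := ⟨fun b b' m => by
      rw [Algebra.smul_def, mul_smul]; rfl⟩
    haveI : IsScalarTower R B M := ⟨fun r b m => by
      show algebraMap B B' (r • b) • m = r • algebraMap B B' b • m
      rw [show algebraMap B B' (r • b) = r • algebraMap B B' b by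
        rw [Algebra.smul_def, map_mul, ← IsScalarTower.algebraMap_apply, ← Algebra.smul_def], smul_assoc]⟩
    have h0 : ∀ b : B, D' (algebraMap B B' b) = 0 := hc.det M (D'.compAlgebraMap B) hD
    haveI : Subsingleton Ω[B'⁄B] := inferInstance
    let DB : Derivation B B' M :=
      { toFun := D'
        map_add' := fun _ _ => map_add D' _ _
        map_smul' := fun c b' => by
          rw [Algebra.smul_def, Derivation.leibniz, h0, smul_zero, add_zero, RingHom.id_apply, algebraMap_smul]
        map_one_eq_zero' := Derivation.map_one_eq_zero D'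
        leibniz' := fun b1 b2 => Derivation.leibniz D' b1 b2 }
    show DB b = 0
    rw [← Derivation.liftKaehlerDifferential_comp_D DB b, Subsingleton.elim (KaehlerDifferential.D B B' b) 0, map_zero]

/-- Coordinates over an unramified base. -/
theorem Coord.exists_base (R' : Type u) [CommRing R'] [Algebra R R'] [Algebra.FormallyUnramified R R'] [Algebra R' B]
    [IsScalarTower R R' B] (hc : Coord R B x δ) :
    ∃ δ' : Fin 2 → Derivation R' B B, Coord R' B x δ' ∧ ∀ i b, δ' i b = δ i b := by
  haveI := hc.smooth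
  haveI : Subsingleton Ω[R'⁄R] := inferInstance
  have h0 : ∀ i (r : R'), δ i (algebraMap R' B r) = 0 := fun i r => by
    show (δ i).compAlgebraMap R' r = 0
    rw [← Derivation.liftKaehlerDifferential_comp_D ((δ i).compAlgebraMap R') r,
      Subsingleton.elim (KaehlerDifferential.D R R' r) 0, map_zero]
  let δ' : Fin 2 → Derivation R' B B := fun i =>
    { toFun := δ i
      map_add' := fun _ _ => map_add (δ i) _ _
      map_smul' := fun c b => by
        rw [Algebra.smul_def, Derivation.leibniz, h0, smul_zero, add_zero, RingHom.id_apply, smul_eq_mul,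
          Algebra.smul_def]
      map_one_eq_zero' := Derivation.map_one_eq_zero (δ i)
      leibniz' := fun b1 b2 => Derivation.leibniz (δ i) b1 b2 }
  refine ⟨δ', ⟨Algebra.FormallySmooth.of_restrictScalars R R' B, hc.dual, fun M _ _ _ _ D hD b => ?_⟩, fun _ _ => rfl⟩
  letI : Module R M := Module.compHom M (algebraMap R R')
  haveI : IsScalarTower R R' M := ⟨fun r c m => by
    rw [Algebra.smul_def, mul_smul]; rfl⟩
  haveI : IsScalarTower R B M := ⟨fun r b m => by
    rw [Algebra.smul_def, mul_smul, IsScalarTower.algebraMap_apply R R' B, algebraMap_smul]; rfl⟩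
  exact hc.det M (D.restrictScalars R) hD b

section Lift

variable {T : Type u} [CommRing T] [Algebra R T] {I : Ideal T}

/-- The matrix of derivatives of a pair of functions. -/
abbrev jacobian (δ : Fin 2 → Derivation R B B) (g : Fin 2 → B) : Matrix (Fin 2) (Fin 2) B :=
  Matrix.of fun i l => δ l (g i)

/-- Lifts with prescribed values on functions of unit Jacobian are unique. -/
theorem Coord.lift_unique (hc : Coord R B x δ) {g : Fin 2 → B} (hg : IsUnit (jacobian δ g).det) (hI : I ^ 2 = ⊥)
    (F₁ F₂ : B →ₐ[R] T) (e : ∀ b, F₁ b - F₂ b ∈ I) (hgg : ∀ i, F₁ (g i) = F₂ (g i)) : F₁ = F₂ := by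
  letI : Algebra B T := F₂.toRingHom.toAlgebra
  haveI : IsScalarTower R B T := IsScalarTower.of_algebraMap_eq fun r => (F₂.commutes r).symm
  have he : (Ideal.Quotient.mkₐ R I).comp F₁ = IsScalarTower.toAlgHom R B (T ⧸ I) :=
    AlgHom.ext fun b => (Ideal.Quotient.eq.2 (e b) : Ideal.Quotient.mk I (F₁ b) = Ideal.Quotient.mk I (F₂ b))
  let d := derivationToSquareZeroOfLift I hI F₁ he
  have hd : ∀ b, (d b : T) = F₁ b - F₂ b := fun b => rfl
  let ev : (l : Fin 2) → B →ₗ[B] I := fun l => LinearMap.toSpanSingleton B I (d (x l))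
  have hsum : ∀ b, d b = ∑ l, δ l b • d (x l) := by
    intro b
    have := hc.det I (d - ∑ l, (ev l).compDer (δ l)) (fun j => by
      rw [Derivation.sub_apply, sub_eq_zero, Fin.sum_univ_two, Derivation.add_apply]
      show d (x j) = δ 0 (x j) • d (x 0) + δ 1 (x j) • d (x 1)
      fin_cases j <;> simp [hc.dual]) b
    rw [Derivation.sub_apply, sub_eq_zero] at this
    rw [this, Fin.sum_univ_two, Fin.sum_univ_two, Derivation.add_apply]
    rfl
  have hdg : ∀ i, d (g i) = 0 := fun i => Subtype.ext (by
    rw [hd, hgg, sub_self, Submodule.coe_zero])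
  have hz : ∀ j, d (x j) = 0 := by
    intro j
    have h1 : ∑ i, (jacobian δ g)⁻¹ j i • d (g i) = 0 :=
      Finset.sum_eq_zero fun i _ => by rw [hdg, smul_zero]
    simp only [hsum (g _), Finset.smul_sum, smul_smul] at h1
    rw [Finset.sum_comm] at h1
    simp only [← Finset.sum_smul] at h1
    have h2 : ∀ l, ∑ i, (jacobian δ g)⁻¹ j i * δ l (g i) = (1 : Matrix (Fin 2) (Fin 2) B) j l := fun l => by
      rw [← Matrix.nonsing_inv_mul _ hg, Matrix.mul_apply]
      rfl
    simp only [h2, Matrix.one_apply, ite_smul, one_smul, zero_smul, Finset.sum_ite_eq, Finset.mem_univ,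
      if_true] at h1
    exact h1
  refine AlgHom.ext fun b => sub_eq_zero.1 ?_
  rw [← hd, hsum]
  simp [hz]

/-- Lifts with prescribed values on functions of unit Jacobian exist. -/
theorem Coord.exists_lift (hc : Coord R B x δ) {g : Fin 2 → B} (hg : IsUnit (jacobian δ g).det) (hI : I ^ 2 = ⊥)
    (f : B →ₐ[R] T ⧸ I) (t : Fin 2 → T) (ht : ∀ i, Ideal.Quotient.mk I (t i) = f (g i)) :
    ∃ F : B →ₐ[R] T, (Ideal.Quotient.mkₐ R I).comp F = f ∧ ∀ i, F (g i) = t i := by
  haveI := hc.smooth
  obtain ⟨F₀, hF₀⟩ := Algebra.FormallySmooth.comp_surjective R B I hI f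
  letI : Algebra B T := F₀.toRingHom.toAlgebra
  haveI : IsScalarTower R B T := IsScalarTower.of_algebraMap_eq fun r => (F₀.commutes r).symm
  let c : Fin 2 → I := fun i => ⟨t i - F₀ (g i), Ideal.Quotient.eq.1
    ((ht i).trans (AlgHom.congr_fun hF₀ (g i)).symm)⟩
  let w : Fin 2 → I := fun l => ∑ i, (jacobian δ g)⁻¹ l i • c i
  let d : Derivation R B I := ∑ l, (LinearMap.toSpanSingleton B I (w l)).compDer (δ l)
  refine ⟨liftOfDerivationToSquareZero I hI d, AlgHom.ext fun b => ?_, fun i => ?_⟩
  · show Ideal.Quotient.mk I (liftOfDerivationToSquareZero I hI d b) = f b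
    rw [liftOfDerivationToSquareZero_mk_apply]
    exact AlgHom.congr_fun hF₀ b
  · have hdi : d (g i) = c i := by
      simp only [d, Fin.sum_univ_two, Derivation.add_apply]
      show δ 0 (g i) • w 0 + δ 1 (g i) • w 1 = c i
      rw [← Fin.sum_univ_two (fun l => δ l (g i) • w l)]
      simp only [w, Finset.smul_sum, smul_smul]
      rw [Finset.sum_comm]
      simp only [← Finset.sum_smul]
      have h2 : ∀ k, ∑ l, δ l (g i) * (jacobian δ g)⁻¹ l k = (1 : Matrix (Fin 2) (Fin 2) B) i k := fun k => by
        rw [← Matrix.mul_nonsing_inv _ hg, Matrix.mul_apply]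
        rfl
      simp [h2, Matrix.one_apply]
    rw [liftOfDerivationToSquareZero_apply, hdi]
    show t i - F₀ (g i) + F₀ (g i) = t i
    exact sub_add_cancel _ _

end Lift

/-- Functions with unit Jacobian are étale coordinates. -/
theorem Coord.formallyEtale_of_jacobian (hc : Coord R B x δ) {g : Fin 2 → B} (hg : IsUnit (jacobian δ g).det)
    [Algebra (MvPolynomial (Fin 2) R) B] [IsScalarTower R (MvPolynomial (Fin 2) R) B]
    (hgX : ∀ i, algebraMap (MvPolynomial (Fin 2) R) B (MvPolynomial.X i) = g i) :
    Algebra.FormallyEtale (MvPolynomial (Fin 2) R) B := by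
  rw [Algebra.FormallyEtale.iff_comp_bijective]
  intro T _ _ I hI
  letI : Algebra R T := ((algebraMap (MvPolynomial (Fin 2) R) T).comp (algebraMap R _)).toAlgebra
  haveI : IsScalarTower R (MvPolynomial (Fin 2) R) T := IsScalarTower.of_algebraMap_eq fun _ => rfl
  refine ⟨fun F₁ F₂ he => ?_, fun f => ?_⟩
  · have := hc.lift_unique hg hI (F₁.restrictScalars R) (F₂.restrictScalars R)
      (fun b => Ideal.Quotient.eq.1 (AlgHom.congr_fun he b)) (fun i => by
        show F₁ (g i) = F₂ (g i)
        rw [← hgX, F₁.commutes, F₂.commutes])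
    exact AlgHom.ext fun b => AlgHom.congr_fun this b
  · obtain ⟨F, hF, hFt⟩ := hc.exists_lift hg hI (f.restrictScalars R)
      (fun i => algebraMap (MvPolynomial (Fin 2) R) T (MvPolynomial.X i)) (fun i => by
        show _ = f (g i)
        rw [← hgX, f.commutes]
        rfl)
    have hcomm : F.comp (IsScalarTower.toAlgHom R (MvPolynomial (Fin 2) R) B) =
        IsScalarTower.toAlgHom R (MvPolynomial (Fin 2) R) T :=
      MvPolynomial.algHom_ext fun i => by
        show F (algebraMap _ B (MvPolynomial.X i)) = _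
        rw [hgX, hFt]
        rfl
    exact ⟨{ F.toRingHom with commutes' := fun p => AlgHom.congr_fun hcomm p },
      AlgHom.ext fun b => AlgHom.congr_fun hF b⟩

/-- A transversal cut is formally étale over the base. -/
theorem Coord.formallyEtale_cut (hc : Coord R B x δ) {g : Fin 2 → B} (hg : IsUnit (jacobian δ g).det) :
    Algebra.FormallyEtale R (B ⧸ Ideal.span (Set.range g)) := by
  rw [Algebra.FormallyEtale.iff_comp_bijective]
  intro T _ _ I hI
  have hg0 : ∀ i, Ideal.Quotient.mk (Ideal.span (Set.range g)) (g i) = 0 := fun i =>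
    Ideal.Quotient.eq_zero_iff_mem.2 (Ideal.subset_span ⟨i, rfl⟩)
  refine ⟨fun F₁ F₂ he => ?_, fun f => ?_⟩
  · refine Ideal.Quotient.algHom_ext _ (hc.lift_unique hg hI _ _
      (fun b => Ideal.Quotient.eq.1 (AlgHom.congr_fun he _)) fun i => ?_)
    show F₁ (Ideal.Quotient.mk _ (g i)) = F₂ (Ideal.Quotient.mk _ (g i))
    rw [hg0, map_zero, map_zero]
  · obtain ⟨F, hF, hFt⟩ := hc.exists_lift hg hI (f.comp (Ideal.Quotient.mkₐ R _)) (fun _ => 0) (fun i => by
      show _ = f (Ideal.Quotient.mk _ (g i))
      rw [hg0, map_zero, map_zero])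
    refine ⟨Ideal.Quotient.liftₐ _ F fun b hb => ?_, Ideal.Quotient.algHom_ext _ hF⟩
    have hle : Ideal.span (Set.range g) ≤ RingHom.ker F := by
      rw [Ideal.span_le]
      rintro _ ⟨i, rfl⟩
      exact hFt i
    exact hle hb

/-- Quotients of an étale algebra by extended ideals. -/
theorem formallyEtale_quotient_map (A : Type u) [CommRing A] [Algebra A B] [Algebra.FormallyEtale A B] (p : Ideal A) :
    Algebra.FormallyEtale (A ⧸ p) (B ⧸ p.map (algebraMap A B)) :=
  .of_equiv (Algebra.TensorProduct.quotIdealMapEquivQuotTensor B p).symm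

/-- A section of a formally unramified finitely presented algebra is cut out by an idempotent. -/
theorem exists_retraction_idempotent {C : Type u} [CommRing C] [Algebra R C] [Algebra.FormallyUnramified R C]
    [Algebra.FinitePresentation R C] (s : C →ₐ[R] R) : ∃ ε : C, s ε = 1 ∧ ∀ z, s z = 0 → ε * z = 0 := by
  set J := RingHom.ker s with hJ
  have hle : J ≤ J ^ 2 := by
    intro z hz
    let F₁ : C →ₐ[R] C ⧸ J ^ 2 := Ideal.Quotient.mkₐ R _
    let F₂ : C →ₐ[R] C ⧸ J ^ 2 := (Algebra.ofId R (C ⧸ J ^ 2)).comp s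
    have hnil : (J.map (Ideal.Quotient.mk (J ^ 2))) ^ 2 = ⊥ := by
      rw [← Ideal.map_pow, Ideal.map_quotient_self]
    have h := Algebra.FormallyUnramified.ext (J.map (Ideal.Quotient.mk (J ^ 2))) ⟨2, hnil⟩ (g₁ := F₁) (g₂ := F₂)
      fun c => by
        refine Ideal.Quotient.eq.2 ?_
        have hF : F₁ c - F₂ c = Ideal.Quotient.mk (J ^ 2) (c - algebraMap R C (s c)) :=
          (map_sub (Ideal.Quotient.mk (J ^ 2)) _ _).symm
        rw [hF]
        refine Ideal.mem_map_of_mem _ ?_
        show s (c - algebraMap R C (s c)) = 0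
        rw [map_sub, AlgHom.commutes, Algebra.algebraMap_self, RingHom.id_apply, sub_self]
    have := AlgHom.congr_fun h z
    rw [show F₂ z = 0 by show algebraMap R _ (s z) = 0; rw [show s z = 0 from hz, map_zero]] at this
    exact Ideal.Quotient.eq_zero_iff_mem.1 this
  have hfg : J.FG := Algebra.FinitePresentation.ker_fG_of_surjective s fun r => ⟨algebraMap R C r, by simp⟩
  obtain ⟨e, he, hJe⟩ := (Ideal.isIdempotentElem_iff_of_fg J hfg).1
    (le_antisymm Ideal.mul_le_right (by rw [← sq]; exact hle))
  refine ⟨1 - e, ?_, fun z hz => ?_⟩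
  · have : s e = 0 := hJe.ge (Submodule.mem_span_singleton_self e)
    simp [this]
  · obtain ⟨w, rfl⟩ := Submodule.mem_span_singleton.1 (hJe.le hz)
    rw [smul_eq_mul, show (1 - e) * (w * e) = w * (e - e * e) by ring, he.eq, sub_self, mul_zero]

end

end Groth.Agent.NodeFam
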