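import Mathlib.RingTheory.Smooth.StandardSmoothCotangent
import Mathlib.RingTheory.Extension.Presentation.Submersive

/-!
# Square presentations with unit Jacobian are étale
-/

set_option autoImplicit false

universe u

open MvPolynomial

namespace Groth.Agent.NodeFam

noncomputable section

theorem etale_squareQuot {S : Type u} [CommRing S] {ι : Type} [Fintype ι] [DecidableEq ι]
    (v : ι → MvPolynomial ι S)
    (hu : IsUnit (Ideal.Quotient.mk (Ideal.span (Set.range v))
      (Matrix.det (Matrix.of fun i j => pderiv i (v j))))) :
    Algebra.Etale S (MvPolynomial ι S ⧸ Ideal.span (Set.range v)) := by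
  let P₀ : Algebra.PreSubmersivePresentation S (MvPolynomial ι S ⧸ Ideal.span (Set.range v)) ι ι :=
    Algebra.PreSubmersivePresentation.naive (v := v) id Function.injective_id
  have hm : P₀.jacobiMatrix = Matrix.of fun i j => pderiv i (v j) :=
    Matrix.ext fun i j => by simp [P₀]
  let P : Algebra.SubmersivePresentation S (MvPolynomial ι S ⧸ Ideal.span (Set.range v)) ι ι :=
    { P₀ with
      jacobian_isUnit := by
        rw [Algebra.PreSubmersivePresentation.jacobian_eq_jacobiMatrix_det, hm]
        exact hu }
  haveI : Algebra.IsStandardSmoothOfRelativeDimension 0 S (MvPolynomial ι S ⧸ Ideal.span (Set.range v)) :=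
    P.isStandardSmoothOfRelativeDimension (by simp [Algebra.Presentation.dimension])
  infer_instance

end

end Groth.Agent.NodeFam
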