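import Groth.Agent.NodeFam.SeriesCone
import Mathlib.RingTheory.Etale.Kaehler
import Mathlib.RingTheory.Kaehler.Polynomial
import Mathlib.RingTheory.Smooth.AdicCompletion
import Mathlib.RingTheory.TensorProduct.Maps
import Mathlib.LinearAlgebra.Basis.Bilinear

/-!
# Taylor expansion at a point of an étale algebra over the plane
-/

set_option autoImplicit false
set_option linter.style.haveILetI false

universe u

open scoped TensorProduct
open MvPowerSeries KaehlerDifferential

namespace Groth.Agent.NodeFam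

noncomputable section

variable {R B K : Type u} [CommRing R] [CommRing B] [Algebra R B] [Field K] [Algebra R K]
  [Algebra (MvPolynomial (Fin 2) R) B] [IsScalarTower R (MvPolynomial (Fin 2) R) B]
  [Algebra.FormallyEtale (MvPolynomial (Fin 2) R) B]

/-- The coordinate functions. -/
abbrev coordFun (l : Fin 2) : B := algebraMap (MvPolynomial (Fin 2) R) B (MvPolynomial.X l)

variable (B) in
/-- The partial derivations in étale coordinates. -/
theorem exists_coordDer : ∃ δ : Fin 2 → Derivation R B B, ∀ i j,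
    δ i (coordFun (R := R) j) = if i = j then 1 else 0 := by
  let e := tensorKaehlerEquivOfFormallyEtale R (MvPolynomial (Fin 2) R) B
  let bB := (mvPolynomialBasis R (Fin 2)).baseChange B
  refine ⟨fun i => ((bB.coord i) ∘ₗ e.symm.toLinearMap).compDer (D R B), fun i j => ?_⟩
  show bB.coord i (e.symm (D R B (algebraMap (MvPolynomial (Fin 2) R) B (MvPolynomial.X j)))) = _
  rw [tensorKaehlerEquivOfFormallyEtale_symm_D_algebraMap, ← mvPolynomialBasis_apply,
    ← Module.Basis.baseChange_apply, Module.Basis.coord_apply, Module.Basis.repr_self, Finsupp.single_apply]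
  simp only [eq_comm]

variable (θ : B →ₐ[R] K)

/-- The Taylor expansion. -/
theorem exists_taylor : ∃ ψ : B →ₐ[R] PS2 K,
    (∀ l, ψ (coordFun (R := R) l) = MvPowerSeries.C (θ (coordFun (R := R) l)) + MvPowerSeries.X l) ∧
      ∀ b, constantCoeff (ψ b) = θ b := by
  let τ : MvPolynomial (Fin 2) R →ₐ[R] PS2 K :=
    MvPolynomial.aeval fun l => MvPowerSeries.C (θ (coordFun (R := R) l)) + MvPowerSeries.X l
  have hcc : ∀ p, constantCoeff (τ p) = θ (algebraMap (MvPolynomial (Fin 2) R) B p) := by
    intro p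
    induction p using MvPolynomial.induction_on with
    | C r =>
      rw [← MvPolynomial.algebraMap_eq, AlgHom.commutes, ← IsScalarTower.algebraMap_apply, AlgHom.commutes,
        MvPowerSeries.algebraMap_apply, constantCoeff_C]
    | add p q hp hq => simp [hp, hq]
    | mul_X p l hp =>
      rw [map_mul, map_mul, map_mul, map_mul, hp]
      simp [τ]
  letI : Algebra (MvPolynomial (Fin 2) R) (PS2 K) := τ.toRingHom.toAlgebra
  haveI : IsScalarTower R (MvPolynomial (Fin 2) R) (PS2 K) :=
    IsScalarTower.of_algebraMap_eq fun r => (τ.commutes r).symm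
  let f : B →ₐ[MvPolynomial (Fin 2) R] PS2 K ⧸ PSLib.vars 2 K :=
    { ((Ideal.Quotient.mk (PSLib.vars 2 K)).comp MvPowerSeries.C).comp θ.toRingHom with
      commutes' := fun p => by
        show Ideal.Quotient.mk (PSLib.vars 2 K) (MvPowerSeries.C (θ (algebraMap (MvPolynomial (Fin 2) R) B p))) =
          Ideal.Quotient.mk (PSLib.vars 2 K) (τ p)
        rw [Ideal.Quotient.eq, PSLib.mem_vars_iff]
        simp [hcc] }
  obtain ⟨g, hg⟩ := Algebra.FormallySmooth.exists_mkₐ_comp_eq_of_isAdicComplete f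
  refine ⟨g.restrictScalars R, fun l => ?_, fun b => ?_⟩
  · refine (g.commutes (MvPolynomial.X l)).trans ?_
    exact MvPolynomial.aeval_X _ l
  · have h1 : g b - MvPowerSeries.C (θ b) ∈ PSLib.vars 2 K := Ideal.Quotient.eq.1 (AlgHom.congr_fun hg b)
    rw [PSLib.mem_vars_iff, map_sub, constantCoeff_C, sub_eq_zero] at h1
    exact h1

variable {θ}

/-- The Taylor expansion commutes with the derivations. -/
theorem pderiv_taylor {δ : Fin 2 → Derivation R B B}
    (hδ : ∀ i j, δ i (coordFun (R := R) j) = if i = j then 1 else 0) {ψ : B →ₐ[R] PS2 K}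
    (hψ : ∀ l, ψ (coordFun (R := R) l) = MvPowerSeries.C (θ (coordFun (R := R) l)) + MvPowerSeries.X l)
    (i : Fin 2) (b : B) : ψ (δ i b) = pderiv K i (ψ b) := by
  letI : Algebra B (PS2 K) := ψ.toRingHom.toAlgebra
  haveI : IsScalarTower R B (PS2 K) := IsScalarTower.of_algebraMap_eq fun r => (ψ.commutes r).symm
  let D1 : Derivation R B (PS2 K) := (Algebra.linearMap B (PS2 K)).compDer (δ i)
  let D2 : Derivation R B (PS2 K) := ((pderiv K i).restrictScalars R).compAlgebraMap B
  let e := tensorKaehlerEquivOfFormallyEtale R (MvPolynomial (Fin 2) R) B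
  have hz : (D1 - D2).liftKaehlerDifferential ∘ₗ e.toLinearMap = 0 := by
    refine ((mvPolynomialBasis R (Fin 2)).baseChange B).ext fun j => ?_
    rw [Module.Basis.baseChange_apply, mvPolynomialBasis_apply, LinearMap.comp_apply, LinearMap.zero_apply]
    show (D1 - D2).liftKaehlerDifferential (e (1 ⊗ₜ D R (MvPolynomial (Fin 2) R) (MvPolynomial.X j))) = 0
    rw [tensorKaehlerEquivOfFormallyEtale_apply, mapBaseChange_tmul, one_smul, map_D,
      Derivation.liftKaehlerDifferential_comp_D, Derivation.sub_apply, sub_eq_zero]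
    show ψ (δ i (coordFun (R := R) j)) = pderiv K i (ψ (coordFun (R := R) j))
    rw [hδ, hψ, map_add, pderiv_C, zero_add, pderiv_X]
    by_cases h : i = j <;> simp [h, eq_comm]
  have h0 : (D1 - D2).liftKaehlerDifferential = 0 := by
    refine LinearMap.ext fun w => ?_
    obtain ⟨w, rfl⟩ := e.surjective w
    exact LinearMap.congr_fun hz w
  have := Derivation.liftKaehlerDifferential_comp_D (D1 - D2) b
  rw [h0, LinearMap.zero_apply, Derivation.sub_apply, eq_comm, sub_eq_zero] at this
  exact this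

/-- The point, extended to the base change. -/
abbrev pointExt (θ : B →ₐ[R] K) : K ⊗[R] B →ₐ[K] K :=
  Algebra.TensorProduct.lift (Algebra.ofId K K) θ fun _ _ => Commute.all _ _

/-- The expansion, extended to the base change. -/
abbrev taylorExt (ψ : B →ₐ[R] PS2 K) : K ⊗[R] B →ₐ[K] PS2 K :=
  Algebra.TensorProduct.lift (Algebra.ofId K (PS2 K)) ψ fun _ _ => Commute.all _ _

/-- The expansion identifies the truncations at the point. -/
theorem taylorExt_spec {ψ : B →ₐ[R] PS2 K}
    (hψ : ∀ l, ψ (coordFun (R := R) l) = MvPowerSeries.C (θ (coordFun (R := R) l)) + MvPowerSeries.X l)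
    (hcc : ∀ b, constantCoeff (ψ b) = θ b) :
    (∀ n b, taylorExt ψ b ∈ PSLib.vars 2 K ^ n ↔ b ∈ RingHom.ker (pointExt θ) ^ n) ∧
      ∀ n F, ∃ b, F - taylorExt ψ b ∈ PSLib.vars 2 K ^ n := by
  set M := RingHom.ker (pointExt θ) with hM
  have hΨt : ∀ (l : K) (b : B), taylorExt ψ (l ⊗ₜ b) = MvPowerSeries.C l * ψ b := fun l b => by
    rw [Algebra.TensorProduct.lift_tmul]; rfl
  have hccK : ∀ b, constantCoeff (taylorExt ψ b) = pointExt θ b := by
    intro b
    induction b using TensorProduct.induction_on with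
    | zero => simp
    | tmul l b => rw [hΨt, map_mul, constantCoeff_C, hcc, Algebra.TensorProduct.lift_tmul]; rfl
    | add b b' hb hb' => rw [map_add, map_add, map_add, hb, hb']
  let U : Fin 2 → K ⊗[R] B := fun l =>
    (1 : K) ⊗ₜ coordFun (R := R) l - algebraMap K (K ⊗[R] B) (θ (coordFun (R := R) l))
  have hU : ∀ l, U l ∈ M := fun l => by
    show pointExt θ (U l) = 0
    simp only [U, map_sub, AlgHom.commutes, Algebra.algebraMap_self, RingHom.id_apply,
      Algebra.TensorProduct.lift_tmul, map_one, one_mul, sub_self]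
  have hΨU : ∀ l, taylorExt ψ (U l) = MvPowerSeries.X l := fun l => by
    simp only [U, map_sub, hΨt, map_one, one_mul, AlgHom.commutes, hψ]
    show MvPowerSeries.C _ + MvPowerSeries.X l - MvPowerSeries.C _ = _
    rw [add_sub_cancel_left]
  have hMle : M.map (taylorExt ψ) ≤ PSLib.vars 2 K := by
    rw [Ideal.map_le_iff_le_comap]
    intro b hb
    show taylorExt ψ b ∈ PSLib.vars 2 K
    rw [PSLib.mem_vars_iff, hccK]
    exact hb
  refine ⟨fun n b => ⟨fun hb => ?_, fun hb => ?_⟩, fun n F => ?_⟩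
  · -- an inverse modulo the power
    have hle : MvPolynomial.idealOfVars (Fin 2) K ^ n ≤ (M ^ n).comap (MvPolynomial.aeval U) := by
      rw [← Ideal.map_le_iff_le_comap, Ideal.map_pow]
      refine Ideal.pow_right_mono ?_ n
      rw [MvPolynomial.idealOfVars, Ideal.map_span, Ideal.span_le]
      rintro _ ⟨_, ⟨i, rfl⟩, rfl⟩
      simpa using hU i
    let ω : PS2 K →ₐ[K] (K ⊗[R] B) ⧸ M ^ n :=
      (Ideal.quotientMapₐ (M ^ n) (MvPolynomial.aeval U) hle).comp
        ((MvPowerSeries.truncTotalAlgHom (Fin 2) K n).restrictScalars K)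
    have hωX : ∀ l, ω (MvPowerSeries.X l) = Ideal.Quotient.mk (M ^ n) (U l) := fun l => by
      have e : MvPowerSeries.truncTotalAlgHom (Fin 2) K n (MvPowerSeries.X l) =
          Ideal.Quotient.mk (MvPolynomial.idealOfVars (Fin 2) K ^ n) (MvPolynomial.X l) := by
        have := (MvPowerSeries.truncTotalAlgHom (Fin 2) K n).commutes (MvPolynomial.X l)
        rw [← MvPolynomial.coe_X]
        exact this
      show Ideal.quotientMapₐ (M ^ n) (MvPolynomial.aeval U) hle
        (MvPowerSeries.truncTotalAlgHom (Fin 2) K n (MvPowerSeries.X l)) = _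
      rw [e]
      show Ideal.Quotient.mk (M ^ n) (MvPolynomial.aeval U (MvPolynomial.X l)) = _
      rw [MvPolynomial.aeval_X]
    have hωvars : (PSLib.vars 2 K).map ω ≤ M.map (Ideal.Quotient.mk (M ^ n)) := by
      rw [PSLib.vars, Ideal.map_span, Ideal.span_le]
      rintro _ ⟨_, ⟨l, rfl⟩, rfl⟩
      rw [hωX]
      exact Ideal.mem_map_of_mem _ (hU l)
    have hω : ∀ b, ω (taylorExt ψ b) - Ideal.Quotient.mk (M ^ n) b ∈ M.map (Ideal.Quotient.mk (M ^ n)) := by
      intro b
      have h1 : taylorExt ψ b - algebraMap K (PS2 K) (pointExt θ b) ∈ PSLib.vars 2 K := by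
        rw [PSLib.mem_vars_iff, map_sub, MvPowerSeries.algebraMap_apply, constantCoeff_C, hccK]
        simp
      have h2 := hωvars (Ideal.mem_map_of_mem ω h1)
      rw [map_sub, AlgHom.commutes] at h2
      have h3 : b - algebraMap K (K ⊗[R] B) (pointExt θ b) ∈ M := by
        show pointExt θ _ = 0
        rw [map_sub, AlgHom.commutes, Algebra.algebraMap_self, RingHom.id_apply, sub_self]
      have h4 := Ideal.mem_map_of_mem (Ideal.Quotient.mk (M ^ n)) h3
      rw [map_sub] at h4
      have := sub_mem h2 h4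
      rwa [← Ideal.Quotient.algebraMap_eq, ← IsScalarTower.algebraMap_apply, sub_sub_sub_cancel_right] at this
    let g₁ : B →ₐ[R] (K ⊗[R] B) ⧸ M ^ n :=
      (Ideal.Quotient.mkₐ R (M ^ n)).comp Algebra.TensorProduct.includeRight
    let g₂ : B →ₐ[R] (K ⊗[R] B) ⧸ M ^ n := (ω.restrictScalars R).comp ψ
    have hP : ∀ p, g₂ (algebraMap (MvPolynomial (Fin 2) R) B p) = g₁ (algebraMap (MvPolynomial (Fin 2) R) B p) := by
      intro p
      have e : g₂.comp (IsScalarTower.toAlgHom R (MvPolynomial (Fin 2) R) B) =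
          g₁.comp (IsScalarTower.toAlgHom R (MvPolynomial (Fin 2) R) B) := by
        refine MvPolynomial.algHom_ext fun l => ?_
        show ω (ψ (coordFun (R := R) l)) = Ideal.Quotient.mk (M ^ n) ((1 : K) ⊗ₜ coordFun (R := R) l)
        rw [hψ, map_add, show (MvPowerSeries.C (θ (coordFun (R := R) l)) : PS2 K) = algebraMap K (PS2 K) _ from rfl,
          AlgHom.commutes, hωX, IsScalarTower.algebraMap_apply K (K ⊗[R] B), Ideal.Quotient.algebraMap_eq,
          ← map_add, add_sub_cancel]
      exact AlgHom.congr_fun e p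
    letI : Algebra (MvPolynomial (Fin 2) R) ((K ⊗[R] B) ⧸ M ^ n) :=
      (g₁.toRingHom.comp (algebraMap (MvPolynomial (Fin 2) R) B)).toAlgebra
    let G₁ : B →ₐ[MvPolynomial (Fin 2) R] (K ⊗[R] B) ⧸ M ^ n := { g₁.toRingHom with commutes' := fun p => rfl }
    let G₂ : B →ₐ[MvPolynomial (Fin 2) R] (K ⊗[R] B) ⧸ M ^ n := { g₂.toRingHom with commutes' := hP }
    have hnil : IsNilpotent (M.map (Ideal.Quotient.mk (M ^ n))) := ⟨n, by
      rw [← Ideal.map_pow, Ideal.zero_eq_bot, Ideal.map_quotient_self]⟩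
    have hG : G₂ = G₁ := Algebra.FormallyUnramified.ext (M.map (Ideal.Quotient.mk (M ^ n))) hnil fun b => by
      refine Ideal.Quotient.eq.2 ?_
      show ω (ψ b) - Ideal.Quotient.mk (M ^ n) ((1 : K) ⊗ₜ b) ∈ _
      have := hω ((1 : K) ⊗ₜ b)
      rwa [hΨt, map_one, one_mul] at this
    have hid : ∀ b, ω (taylorExt ψ b) = Ideal.Quotient.mk (M ^ n) b := by
      have e : ω.comp (taylorExt ψ) = Ideal.Quotient.mkₐ K (M ^ n) := by
        refine Algebra.TensorProduct.ext (Subsingleton.elim _ _) (AlgHom.ext fun b => ?_)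
        show ω (taylorExt ψ ((1 : K) ⊗ₜ b)) = Ideal.Quotient.mk (M ^ n) ((1 : K) ⊗ₜ b)
        rw [hΨt, map_one, one_mul]
        exact AlgHom.congr_fun hG b
      exact fun b => AlgHom.congr_fun e b
    rw [← Ideal.Quotient.eq_zero_iff_mem, ← hid]
    have h0 := Ideal.mem_map_of_mem ω hb
    rw [Ideal.map_pow] at h0
    have := Ideal.pow_right_mono hωvars n h0
    rwa [← Ideal.map_pow, Ideal.map_quotient_self, Ideal.mem_bot] at this
  · have := Ideal.mem_map_of_mem (taylorExt ψ) hb
    rw [Ideal.map_pow] at this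
    exact Ideal.pow_right_mono hMle n this
  · refine ⟨MvPolynomial.aeval U (MvPowerSeries.truncTotal n F), ?_⟩
    have e : (taylorExt ψ).comp (MvPolynomial.aeval U) = MvPolynomial.coeToMvPowerSeries.algHom K := by
      refine MvPolynomial.algHom_ext fun l => ?_
      simp [hΨU]
    have e' := AlgHom.congr_fun e (MvPowerSeries.truncTotal n F)
    rw [AlgHom.comp_apply] at e'
    rw [e', PSLib.mem_pow_iff]
    intro d hd
    simp [MvPowerSeries.coeff_truncTotal _ hd]

end

end Groth.Agent.NodeFam
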