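import Groth.Agent.NodeFam.Node
import Mathlib.AlgebraicGeometry.Morphisms.FormallyUnramified
import Mathlib.RingTheory.Etale.Field

/-!
# Nodes over a finite separable extension of the base field
-/

set_option autoImplicit false
set_option backward.isDefEq.respectTransparency false
set_option backward.isDefEq.respectTransparency.types false
set_option linter.style.haveILetI false
set_option linter.unusedSectionVars false

universe u

open CategoryTheory CategoryTheory.Limits AlgebraicGeometry

namespace Groth.Agent.NodeFam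

noncomputable section

variable {k k' : Type u} [Field k] [Field k'] [Algebra k k'] {X : Scheme.{u}}

theorem isOpenImmersion_mapDesc {S' S T : Scheme.{u}} (f : X ⟶ S') (g : T ⟶ S') (i : S' ⟶ S) [Etale i] :
    IsOpenImmersion (pullback.mapDesc f g i) :=
  MorphismProperty.of_isPullback (P := @IsOpenImmersion) (pullback_map_diagonal_isPullback f g i) inferInstance

/-- A comparison map of pullbacks along an étale change of base is an open immersion. -/
theorem exists_openImmersion {S' S T : Scheme.{u}} (f : X ⟶ S') (g : T ⟶ S') (i : S' ⟶ S) [Etale i]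
    (e : T ⟶ S) (he : g ≫ i = e) :
    ∃ m : pullback f g ⟶ pullback (f ≫ i) e, IsOpenImmersion m ∧
      m ≫ pullback.fst (f ≫ i) e = pullback.fst f g ∧ m ≫ pullback.snd (f ≫ i) e = pullback.snd f g := by
  subst he
  exact ⟨pullback.mapDesc f g i, isOpenImmersion_mapDesc f g i, by simp [pullback.mapDesc],
    by simp [pullback.mapDesc]⟩

/-- Comparison of ordinary double points along such a change of base. -/
theorem exists_point_compare {S : Scheme.{u}} {K : Type u} [Field K] (f : X ⟶ Spec (CommRingCat.of k'))
    [LocallyOfFiniteType f] (g : Spec (CommRingCat.of K) ⟶ Spec (CommRingCat.of k'))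
    (i : Spec (CommRingCat.of k') ⟶ S) [Etale i] (e : Spec (CommRingCat.of K) ⟶ S) (he : g ≫ i = e)
    (z : ↥(pullback f g)) :
    ∃ z' : ↥(pullback (f ≫ i) e), pullback.fst (f ≫ i) e z' = pullback.fst f g z ∧
      (ODPAt K (pullback.snd f g) z ↔ ODPAt K (pullback.snd (f ≫ i) e) z') ∧
      ∀ p : Spec (CommRingCat.of K) ⟶ pullback f g, p ≫ pullback.snd f g = 𝟙 _ →
        p (IsLocalRing.closedPoint K) = z → ∀ q : Spec (CommRingCat.of K) ⟶ pullback (f ≫ i) e,
        q ≫ pullback.fst (f ≫ i) e = p ≫ pullback.fst f g →
        q ≫ pullback.snd (f ≫ i) e = 𝟙 _ → q (IsLocalRing.closedPoint K) = z' := by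
  obtain ⟨m, hmo, hm1, hm2⟩ := exists_openImmersion f g i e he
  haveI := hmo
  refine ⟨m z, by rw [← Scheme.Hom.comp_apply, hm1], ?_, fun p hp1 hp2 q hq1 hq2 => ?_⟩
  · exact (odpAt_iff_of_stalk_iso m (pullback.snd (f ≫ i) e) (pullback.snd f g) (RingEquiv.refl K)
      (by rw [hm2, show (RingEquiv.refl K).toRingHom = RingHom.id K from rfl, CommRingCat.ofHom_id, Spec.map_id,
        Category.comp_id]) z (ConcreteCategory.bijective_of_isIso (m.stalkMap z))).symm
  · have : q = p ≫ m := by
      apply pullback.hom_ext
      · rw [hq1, Category.assoc, hm1]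
      · rw [hq2, Category.assoc, hm2, hp1]
    rw [this, Scheme.Hom.comp_apply, hp2]

/-- Being a node does not depend on the finite separable ground field. -/
theorem nodeVia_iff_of_separable [FiniteDimensional k k'] [Algebra.IsSeparable k k']
    (f : X ⟶ Spec (CommRingCat.of k')) [LocallyOfFiniteType f] (x : X) :
    NodeVia (AlgebraicClosure k') f x ↔ NodeVia (AlgebraicClosure k) (f ≫ extMap k k') x := by
  haveI : Etale (extMap k k') := by
    rw [HasRingHomProperty.Spec_iff (P := @Etale)]
    haveI : Algebra.FormallyEtale k k' := Algebra.FormallyEtale.of_isSeparable k k'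
    exact RingHom.etale_algebraMap.2
      (⟨inferInstance, Algebra.FinitePresentation.of_finiteType.1 inferInstance⟩ : Algebra.Etale k k')
  haveI : LocallyOfFiniteType (f ≫ extMap k k') := inferInstance
  have hmap : ∀ (K : Type u) (_ : Field K) (_ : Algebra k K) (_ : Algebra k' K) (_ : IsScalarTower k k' K),
      extMap k K = extMap k' K ≫ extMap k k' := by
    intro K _ _ _ _
    rw [← Spec.map_comp, ← CommRingCat.ofHom_comp, ← IsScalarTower.algebraMap_eq]
  constructor
  · intro h
    haveI : IsScalarTower k k' (AlgebraicClosure k') := inferInstance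
    haveI : IsAlgClosure k (AlgebraicClosure k') :=
      ⟨inferInstance, Algebra.IsAlgebraic.trans k k' (AlgebraicClosure k')⟩
    obtain ⟨hc, z, hz, hodp⟩ := h
    obtain ⟨z', h1, h2, -⟩ := exists_point_compare f (extMap k' (AlgebraicClosure k')) (extMap k k') (extMap k (AlgebraicClosure k'))
      (hmap (AlgebraicClosure k') _ _ _ inferInstance).symm z
    exact (nodeVia_iff_of_algEquiv _ (AlgebraicClosure k)
      (IsAlgClosure.equiv k (AlgebraicClosure k') (AlgebraicClosure k)) (f ≫ extMap k k') x).1
      ⟨hc, z', h1.trans hz, h2.1 hodp⟩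
  · rintro ⟨hc, z', hz', hodp⟩
    have hz'c := isClosed_of_fst (AlgebraicClosure k) (f ≫ extMap k k') z' (by rw [hz']; exact hc)
    let q := pointOfClosedPoint (pullback.snd (f ≫ extMap k k') (extMap k (AlgebraicClosure k))) z' hz'c
    have hq2 : q ≫ pullback.snd (f ≫ extMap k k') (extMap k (AlgebraicClosure k)) = 𝟙 _ :=
      pointOfClosedPoint_comp _ _ _
    obtain ⟨τ, hτ⟩ := Spec.map_surjective (q ≫ pullback.fst (f ≫ extMap k k') (extMap k (AlgebraicClosure k)) ≫ f)
    letI : Algebra k' (AlgebraicClosure k) := τ.hom.toAlgebra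
    have hτ' : extMap k' (AlgebraicClosure k) =
        q ≫ pullback.fst (f ≫ extMap k k') (extMap k (AlgebraicClosure k)) ≫ f := hτ
    have hpc : extMap k' (AlgebraicClosure k) ≫ extMap k k' = extMap k (AlgebraicClosure k) := by
      rw [hτ', Category.assoc, Category.assoc, pullback.condition, ← Category.assoc, hq2, Category.id_comp]
    haveI : IsScalarTower k k' (AlgebraicClosure k) := by
      rw [← Spec.map_comp, Spec.map_inj] at hpc
      exact IsScalarTower.of_algebraMap_eq' (congrArg CommRingCat.Hom.hom hpc).symm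
    haveI : IsAlgClosure k' (AlgebraicClosure k) :=
      ⟨inferInstance, Algebra.IsAlgebraic.tower_top (K := k) k'⟩
    let p : Spec (CommRingCat.of (AlgebraicClosure k)) ⟶ pullback f (extMap k' (AlgebraicClosure k)) :=
      pullback.lift (q ≫ pullback.fst _ _) (𝟙 _) (by rw [Category.assoc, Category.id_comp, hτ'])
    obtain ⟨w, h1, h2, h3⟩ := exists_point_compare f (extMap k' (AlgebraicClosure k)) (extMap k k') (extMap k (AlgebraicClosure k))
      hpc (p (IsLocalRing.closedPoint _))
    obtain rfl : w = z' := (h3 p (pullback.lift_snd _ _ _) rfl q (pullback.lift_fst _ _ _).symm hq2).symm.trans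
      (pointOfClosedPoint_apply _ _ _ _)
    exact (nodeVia_iff_of_algEquiv _ (AlgebraicClosure k')
      (IsAlgClosure.equiv k' (AlgebraicClosure k) (AlgebraicClosure k')) f x).1
      ⟨hc, _, h1.symm.trans hz', h2.2 hodp⟩

end

end Groth.Agent.NodeFam
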