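import Groth.Agent.NodeFam.Node
import Groth.Agent.NodeFam.CritODP
import Mathlib.RingTheory.Jacobson.Ring
import Mathlib.RingTheory.FiniteType
import Mathlib.Algebra.Category.Ring.Constructions

/-!
# Ordinary double points under extensions of algebraically closed fields
-/

set_option autoImplicit false
set_option backward.isDefEq.respectTransparency false
set_option backward.isDefEq.respectTransparency.types false
set_option linter.style.haveILetI false
set_option linter.unusedSectionVars false

universe u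

open CategoryTheory CategoryTheory.Limits AlgebraicGeometry
open scoped TensorProduct

namespace Groth.Agent.NodeFam

noncomputable section

/-- Ordinary double points of an affine scheme, by localisation. -/
theorem odpAt_spec_iff (K : Type u) [Field K] (A : Type u) [CommRing A] [Algebra K A] [Algebra.FiniteType K A]
    (x : ↥(Spec (CommRingCat.of A))) [hx : x.asIdeal.IsMaximal] :
    ODPAt K (Spec.map (CommRingCat.ofHom (algebraMap K A))) x ↔ NodeCrit K x.asIdeal := by
  haveI : IsNoetherianRing A := Algebra.FiniteType.isNoetherianRing K A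
  haveI : IsNoetherianRing (Localization.AtPrime x.asIdeal) :=
    IsLocalization.isNoetherianRing x.asIdeal.primeCompl _ inferInstance
  haveI : IsLocallyNoetherian (Spec (CommRingCat.of A)) := inferInstance
  rw [nodeCrit_localization_iff (M := x.asIdeal), Localization.AtPrime.map_eq_maximalIdeal,
    ← isOrdDoublePt_iff_nodeCrit]
  letI := @Curv2.stalkAlgebra K _ (Spec (CommRingCat.of A)) ⟨Spec.map (CommRingCat.ofHom (algebraMap K A))⟩ x
  letI : Algebra A ((Spec (CommRingCat.of A)).presheaf.stalk x) := (StructureSheaf.toStalk A x).hom.toAlgebra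
  haveI : IsLocalization.AtPrime ((Spec (CommRingCat.of A)).presheaf.stalk x) x.asIdeal :=
    StructureSheaf.IsLocalization.to_stalk A x
  let e := IsLocalization.algEquiv x.asIdeal.primeCompl ((Spec (CommRingCat.of A)).presheaf.stalk x)
    (Localization.AtPrime x.asIdeal)
  refine isOrdDoublePt_iff_of_equiv (RingEquiv.refl K) e.toRingEquiv.toRingHom e.bijective fun c => ?_
  show e (cst (Spec.map (CommRingCat.ofHom (algebraMap K A))) x c) = algebraMap K (Localization.AtPrime x.asIdeal) c
  have h1 : cst (Spec.map (CommRingCat.ofHom (algebraMap K A))) x c =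
      algebraMap A ((Spec (CommRingCat.of A)).presheaf.stalk x) (algebraMap K A c) := by
    show ((Spec (CommRingCat.of A)).presheaf.germ ⊤ x trivial)
      ((Spec.map (CommRingCat.ofHom (algebraMap K A))).appTop ((Scheme.ΓSpecIso _).inv c)) = _
    have h := ConcreteCategory.congr_hom (Scheme.ΓSpecIso_inv_naturality (CommRingCat.ofHom (algebraMap K A))) c
    refine (congrArg _ h.symm).trans ?_
    rfl
  rw [h1, AlgEquiv.commutes, IsScalarTower.algebraMap_apply K A (Localization.AtPrime x.asIdeal)]

section Ext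

variable (K L : Type u) [Field K] [Field L] [Algebra K L] [IsAlgClosed K] [IsAlgClosed L]
  (A : Type u) [CommRing A] [Algebra K A] [Algebra.FiniteType K A]

theorem exists_sub_mem_of_isMaximal (M : Ideal A) [M.IsMaximal] (a : A) : ∃ c : K, a - algebraMap K A c ∈ M := by
  letI : Field (A ⧸ M) := Ideal.Quotient.field M
  haveI : Module.Finite K (A ⧸ M) := finite_of_finite_type_of_isJacobsonRing K (A ⧸ M)
  obtain ⟨c, hc⟩ := (IsAlgClosed.algebraMap_bijective_of_isIntegral (k := K) (K := A ⧸ M)).2
    (Ideal.Quotient.mk M a)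
  refine ⟨c, ?_⟩
  rw [IsScalarTower.algebraMap_apply K A (A ⧸ M), Ideal.Quotient.algebraMap_eq, eq_comm, Ideal.Quotient.eq] at hc
  exact hc

/-- Over an algebraically closed field the only prime over a rational point is its extension. -/
theorem extIdeal_eq (M : Ideal A) [M.IsMaximal] (N : Ideal (L ⊗[K] A)) [N.IsPrime]
    (hN : N.comap (Algebra.TensorProduct.includeRight : A →ₐ[K] L ⊗[K] A) = M) :
    extIdeal K L M = N ∧ N.IsMaximal := by
  have hle : extIdeal K L M ≤ N := by
    rw [extIdeal, Ideal.map_le_iff_le_comap]; exact hN.ge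
  have hres : ∀ b : L ⊗[K] A, ∃ l : L, b - algebraMap L (L ⊗[K] A) l ∈ extIdeal K L M := by
    intro b
    induction b using TensorProduct.induction_on with
    | zero => exact ⟨0, by simp⟩
    | tmul l a =>
      obtain ⟨c, hc⟩ := exists_sub_mem_of_isMaximal K A M a
      refine ⟨l * algebraMap K L c, ?_⟩
      have e : l ⊗ₜ[K] a - algebraMap L (L ⊗[K] A) (l * algebraMap K L c) =
          (l ⊗ₜ[K] (1 : A)) * ((1 : L) ⊗ₜ[K] (a - algebraMap K A c)) := by
        rw [Algebra.TensorProduct.tmul_mul_tmul, mul_one, one_mul, TensorProduct.tmul_sub,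
          Algebra.TensorProduct.algebraMap_apply, Algebra.algebraMap_self, RingHom.id_apply,
          Algebra.algebraMap_eq_smul_one (R := K) (A := A), TensorProduct.tmul_smul, TensorProduct.smul_tmul',
          Algebra.smul_def, mul_comm (algebraMap K L c)]
      rw [e]
      exact Ideal.mul_mem_left _ _ (Ideal.mem_map_of_mem
        (Algebra.TensorProduct.includeRight : A →ₐ[K] L ⊗[K] A) hc)
    | add b b' hb hb' =>
      obtain ⟨l, hl⟩ := hb
      obtain ⟨l', hl'⟩ := hb'
      exact ⟨l + l', by convert add_mem hl hl' using 1; rw [map_add]; ring⟩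
  have hmax : (extIdeal K L M).IsMaximal := by
    have hne : extIdeal K L M ≠ ⊤ := fun h => (‹N.IsPrime›).ne_top (top_le_iff.1 (h ▸ hle))
    refine Ideal.isMaximal_iff.2 ⟨(Ideal.ne_top_iff_one _).1 hne, fun J r hJ hrM hrJ => ?_⟩
    obtain ⟨c, hc⟩ := hres r
    have hc0 : c ≠ 0 := by rintro rfl; simp at hc; exact hrM hc
    have h1 : algebraMap L (L ⊗[K] A) c ∈ J := by
      have := sub_mem hrJ (hJ hc)
      rwa [sub_sub_cancel] at this
    have h2 := Ideal.mul_mem_left J (algebraMap L (L ⊗[K] A) c⁻¹) h1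
    rwa [← map_mul, inv_mul_cancel₀ hc0, map_one] at h2
  have he := hmax.eq_of_le (‹N.IsPrime›).ne_top hle
  exact ⟨he, he ▸ hmax⟩

/-- The affine comparison. -/
theorem affine_compare (N : ↥(Spec (CommRingCat.of (L ⊗[K] A)))) (x : ↥(Spec (CommRingCat.of A)))
    [hx : x.asIdeal.IsMaximal]
    (hN : Spec.map (CommRingCat.ofHom
      (Algebra.TensorProduct.includeRight : A →ₐ[K] L ⊗[K] A).toRingHom) N = x) :
    N.asIdeal.IsMaximal ∧ (ODPAt K (Spec.map (CommRingCat.ofHom (algebraMap K A))) x ↔
      ODPAt L (Spec.map (CommRingCat.ofHom (algebraMap L (L ⊗[K] A)))) N) := by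
  obtain ⟨he, hm⟩ := extIdeal_eq K L A x.asIdeal N.asIdeal (by rw [← hN]; rfl)
  haveI := hm
  refine ⟨hm, ?_⟩
  rw [odpAt_spec_iff, odpAt_spec_iff, nodeCrit_ext_iff (L := L), he]

variable {K L A}

/-- Over algebraically closed fields ordinary double points correspond under extension of the base. -/
theorem odpAt_ext_iff {X : Scheme.{u}} (f : X ⟶ Spec (CommRingCat.of K)) [LocallyOfFiniteType f]
    (w : ↥(pullback f (extMap K L))) (hz : IsClosed ({pullback.fst f (extMap K L) w} : Set X)) :
    IsClosed ({w} : Set ↥(pullback f (extMap K L))) ∧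
      (ODPAt K f (pullback.fst f (extMap K L) w) ↔ ODPAt L (pullback.snd f (extMap K L)) w) := by
  obtain ⟨U, hU, hwU, -⟩ := exists_isAffineOpen_mem_and_subset
    (x := pullback.fst f (extMap K L) w) (U := ⊤) trivial
  obtain ⟨z₀, hz₀⟩ : ∃ z₀ : ↥(Spec Γ(X, U)), hU.fromSpec z₀ = pullback.fst f (extMap K L) w :=
    hU.range_fromSpec.ge hwU
  obtain ⟨φ, hφ⟩ : ∃ φ : CommRingCat.of K ⟶ Γ(X, U), Spec.map φ = hU.fromSpec ≫ f :=
    ⟨Spec.preimage _, Spec.map_preimage _⟩
  letI : Algebra K Γ(X, U) := φ.hom.toAlgebra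
  have hφ' : Spec.map (CommRingCat.ofHom (algebraMap K Γ(X, U))) = hU.fromSpec ≫ f := hφ
  haveI : Algebra.FiniteType K Γ(X, U) := by
    have h : LocallyOfFiniteType (Spec.map φ) := by rw [hφ]; infer_instance
    rw [HasRingHomProperty.Spec_iff (P := @LocallyOfFiniteType)] at h
    exact h
  let B := L ⊗[K] Γ(X, U)
  have hpo : IsPullback (Spec.map (CommRingCat.ofHom
        (Algebra.TensorProduct.includeRight : Γ(X, U) →ₐ[K] B).toRingHom))
      (Spec.map (CommRingCat.ofHom (algebraMap L B))) (hU.fromSpec ≫ f) (extMap K L) := by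
    rw [← hφ']
    exact (isPullback_SpecMap_of_isPushout _ _ _ _ (CommRingCat.isPushout_tensorProduct K L Γ(X, U))).flip
  obtain ⟨j, hj1, hj2⟩ : ∃ j : Spec (CommRingCat.of B) ⟶ pullback f (extMap K L),
      j ≫ pullback.fst f (extMap K L) = Spec.map (CommRingCat.ofHom
        (Algebra.TensorProduct.includeRight : Γ(X, U) →ₐ[K] B).toRingHom) ≫ hU.fromSpec ∧
      j ≫ pullback.snd f (extMap K L) = Spec.map (CommRingCat.ofHom (algebraMap L B)) :=
    ⟨pullback.lift _ _ (by rw [Category.assoc, hpo.w]), pullback.lift_fst _ _ _, pullback.lift_snd _ _ _⟩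
  have hsq : IsPullback j (Spec.map (CommRingCat.ofHom
      (Algebra.TensorProduct.includeRight : Γ(X, U) →ₐ[K] B).toRingHom)) (pullback.fst f (extMap K L))
      hU.fromSpec := by
    refine IsPullback.of_right (h₁₁ := j) ?_ hj1 (IsPullback.of_hasPullback f (extMap K L)).flip
    rw [hj2]
    exact hpo.flip
  haveI : IsOpenImmersion j := MorphismProperty.of_isPullback (P := @IsOpenImmersion) hsq.flip inferInstance
  obtain ⟨N, hN1, hN2⟩ := Scheme.exists_preimage_of_isPullback hsq w z₀ hz₀.symm
  haveI hmax : z₀.asIdeal.IsMaximal := by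
    rw [← PrimeSpectrum.isClosed_singleton_iff_isMaximal]
    have h := hz.preimage hU.fromSpec.continuous
    have e : (hU.fromSpec : ↥(Spec Γ(X, U)) → X) ⁻¹' {pullback.fst f (extMap K L) w} = {z₀} := by
      rw [← hz₀, ← Set.image_singleton, hU.fromSpec.isOpenEmbedding.injective.preimage_image]
    exact e ▸ h
  obtain ⟨hNmax, hiff⟩ := affine_compare K L Γ(X, U) N z₀ hN2
  haveI : LocallyOfFiniteType (Spec.map (CommRingCat.ofHom (algebraMap L B))) := by
    rw [← hj2]; infer_instance
  haveI : LocallyOfFiniteType (Spec.map (CommRingCat.ofHom (algebraMap K Γ(X, U)))) := by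
    rw [hφ']; infer_instance
  haveI : JacobsonSpace ↥(pullback f (extMap K L)) := LocallyOfFiniteType.jacobsonSpace (pullback.snd f (extMap K L))
  refine ⟨?_, ?_⟩
  · have hc : IsClosed ({N} : Set ↥(Spec (CommRingCat.of B))) :=
      (PrimeSpectrum.isClosed_singleton_iff_isMaximal N).2 hNmax
    refine isClosed_singleton_of_isLocallyClosed_singleton ?_
    rw [← hN1, ← Set.image_singleton]
    exact hc.isLocallyClosed.image j.isOpenEmbedding.isEmbedding.isInducing
      j.isOpenEmbedding.isOpen_range.isLocallyClosed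
  · have hrefl : ∀ (F : Type u) [Field F], Spec.map (CommRingCat.ofHom (RingEquiv.refl F).toRingHom) = 𝟙 _ := by
      intro F _
      rw [show (RingEquiv.refl F).toRingHom = RingHom.id F from rfl, CommRingCat.ofHom_id, Spec.map_id]
    rw [← hz₀, odpAt_iff_of_stalk_iso hU.fromSpec f (Spec.map (CommRingCat.ofHom (algebraMap K Γ(X, U))))
      (RingEquiv.refl K) (by rw [hrefl, Category.comp_id, hφ']) z₀ (ConcreteCategory.bijective_of_isIso _), hiff,
      ← odpAt_iff_of_stalk_iso j (pullback.snd f (extMap K L)) (Spec.map (CommRingCat.ofHom (algebraMap L B)))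
      (RingEquiv.refl L) (by rw [hrefl, Category.comp_id, hj2]) N (ConcreteCategory.bijective_of_isIso _), hN1]

end Ext

end

end Groth.Agent.NodeFam
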