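import Groth.Agent.NodeFam.CritODP
import Groth.Agent.Adic7.Basic
import Groth.Agent.S7925

/-!
# The completed local ring of a flat family at a split node
-/

set_option autoImplicit false
set_option linter.style.haveILetI false

universe u

open IsLocalRing

namespace Groth.Agent.NodeFam

noncomputable section

variable {A B : Type u} [CommRing A] [IsLocalRing A] [CommRing B] [IsLocalRing B] [Algebra A B]
  [IsLocalHom (algebraMap A B)]

/-- The fibre ring. -/
abbrev FibreRing (A B : Type u) [CommRing A] [IsLocalRing A] [CommRing B] [Algebra A B] : Type u :=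
  B ⧸ (maximalIdeal A).map (algebraMap A B)

instance : IsLocalRing (FibreRing A B) :=
  haveI : Nontrivial (FibreRing A B) := Ideal.Quotient.nontrivial_iff.2 fun h =>
    (maximalIdeal.isMaximal B).ne_top (top_le_iff.1 (h ▸ map_maximalIdeal_le (algebraMap A B)))
  IsLocalRing.of_surjective' (Ideal.Quotient.mk _) Ideal.Quotient.mk_surjective

/-- The fibre ring as an algebra over the residue field of the base. -/
def fibreHom (A B : Type u) [CommRing A] [IsLocalRing A] [CommRing B] [Algebra A B] :
    ResidueField A →+* FibreRing A B :=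
  Ideal.Quotient.lift _ ((Ideal.Quotient.mk _).comp (algebraMap A B)) fun a ha => by
    rw [RingHom.comp_apply, Ideal.Quotient.eq_zero_iff_mem]
    exact Ideal.mem_map_of_mem _ ha

instance : Algebra (ResidueField A) (FibreRing A B) := (fibreHom A B).toAlgebra

/-- **Normal form.** If `B` is flat over `A` and the fibre is an ordinary double point over the residue field
of `A`, the completion of `B` is `Â⟦x, y⟧/(xy - h)`. -/
theorem exists_normalForm [IsNoetherianRing A] [IsNoetherianRing B] [Module.Flat A B]
    (hodp : Curv2.IsOrdDoublePt (ResidueField A) (FibreRing A B)) :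
    ∃ h ∈ maximalIdeal (AdicCompletion (maximalIdeal A) A),
      ∃ e : AdicCompletion (maximalIdeal B) B ≃+*
          (MvPowerSeries (Fin 2) (AdicCompletion (maximalIdeal A) A) ⧸ NodeLib.nodeEq h),
        ∀ a : A, e (algebraMap B (AdicCompletion (maximalIdeal B) B) (algebraMap A B a)) =
          Ideal.Quotient.mk _ (MvPowerSeries.C (algebraMap A (AdicCompletion (maximalIdeal A) A) a)) := by
  haveI : IsNoetherianRing (AdicCompletion (maximalIdeal B) B) := LC.Canon.isNoetherianRing_completion (R := B)
  haveI : IsAdicComplete (maximalIdeal (AdicCompletion (maximalIdeal B) B)) (AdicCompletion (maximalIdeal B) B) :=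
    NodeLib.isAdicComplete_maximalIdeal B
  have hAC : algebraMap A (AdicCompletion (maximalIdeal B) B) =
      (algebraMap B (AdicCompletion (maximalIdeal B) B)).comp (algebraMap A B) :=
    IsScalarTower.algebraMap_eq A B (AdicCompletion (maximalIdeal B) B)
  haveI : IsLocalHom (algebraMap A (AdicCompletion (maximalIdeal B) B)) := by
    rw [hAC]; infer_instance
  haveI : Module.Flat B (AdicCompletion (maximalIdeal B) B) := AdicCompletion.flat_of_isNoetherian _
  haveI : Module.Flat A (AdicCompletion (maximalIdeal B) B) := Module.Flat.trans A B _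
  -- the fibre of the completion
  have hcrit := nodeCrit_of_isOrdDoublePt hodp
  have hI : ((maximalIdeal A).map (algebraMap A B)).map (algebraMap B (AdicCompletion (maximalIdeal B) B)) =
      (maximalIdeal A).map (algebraMap A (AdicCompletion (maximalIdeal B) B)) := by
    rw [Ideal.map_map, hAC]
  let q : FibreRing A B →ₐ[ResidueField A] FibreRing A (AdicCompletion (maximalIdeal B) B) :=
    { Ideal.quotientMap _ (algebraMap B (AdicCompletion (maximalIdeal B) B))
        (Ideal.map_le_iff_le_comap.1 hI.le) with
      commutes' := fun c => by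
        obtain ⟨a, rfl⟩ := IsLocalRing.residue_surjective c
        show Ideal.quotientMap _ _ _ (Ideal.Quotient.mk _ (algebraMap A B a)) =
          Ideal.Quotient.mk _ (algebraMap A (AdicCompletion (maximalIdeal B) B) a)
        rw [Ideal.quotientMap_mk, hAC]
        rfl }
  have hqmk : ∀ b, q (Ideal.Quotient.mk _ b) = Ideal.Quotient.mk _ (algebraMap B _ b) := fun b => rfl
  have hmax1 : maximalIdeal (FibreRing A B) = (maximalIdeal B).map (Ideal.Quotient.mk _) :=
    (map_maximalIdeal_of_surjective _ Ideal.Quotient.mk_surjective).symm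
  have hmax2 : maximalIdeal (FibreRing A (AdicCompletion (maximalIdeal B) B)) =
      (maximalIdeal (AdicCompletion (maximalIdeal B) B)).map (Ideal.Quotient.mk _) :=
    (map_maximalIdeal_of_surjective _ Ideal.Quotient.mk_surjective).symm
  have hcritD : NodeCrit (ResidueField A) (maximalIdeal (FibreRing A (AdicCompletion (maximalIdeal B) B))) := by
    refine (nodeCrit_iff q ?_ (fun n z hz => ?_) fun n z => ?_).1 hcrit
    · rw [hmax1, hmax2, AdicCompletion.maximalIdeal_eq_map, Ideal.map_map, Ideal.map_le_iff_le_comap,
        Ideal.map_le_iff_le_comap]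
      intro b hb
      exact Ideal.mem_map_of_mem _ hb
    · obtain ⟨b, rfl⟩ := Ideal.Quotient.mk_surjective z
      rw [hqmk, hmax2, ← Ideal.map_pow, AdicCompletion.maximalIdeal_eq_map, ← Ideal.map_pow,
        Ideal.mem_map_iff_of_surjective _ Ideal.Quotient.mk_surjective] at hz
      obtain ⟨w, hw, he⟩ := hz
      rw [Ideal.Quotient.eq, ← hI] at he
      let ev := (AdicCompletion.evalₐ (maximalIdeal B) n).toRingHom
      have hev : ev.comp (algebraMap B (AdicCompletion (maximalIdeal B) B)) = Ideal.Quotient.mk _ :=
        RingHom.ext fun b => (AdicCompletion.evalₐ (maximalIdeal B) n).commutes b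
      have h1 : ev w = 0 := by
        have := Ideal.mem_map_of_mem ev hw
        rw [Ideal.map_map, hev, Ideal.map_quotient_self, Ideal.mem_bot] at this
        exact this
      have h2 := Ideal.mem_map_of_mem ev he
      rw [map_sub, h1, zero_sub, neg_mem_iff, ← RingHom.comp_apply, Ideal.map_map, hev,
        ← Ideal.mem_comap, Ideal.comap_map_of_surjective _ Ideal.Quotient.mk_surjective,
        ← RingHom.ker_eq_comap_bot, Ideal.mk_ker] at h2
      rw [hmax1, ← Ideal.map_pow]
      obtain ⟨i, hi, j, hj, hij⟩ := Submodule.mem_sup.1 h2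
      rw [← hij, map_add, Ideal.Quotient.eq_zero_iff_mem.2 hi, zero_add]
      exact Ideal.mem_map_of_mem _ hj
    · obtain ⟨c, rfl⟩ := Ideal.Quotient.mk_surjective z
      obtain ⟨b, hb⟩ := Adic7.exists_sub_algebraMap_mem (maximalIdeal B) (IsNoetherian.noetherian _) c n
      refine ⟨Ideal.Quotient.mk _ b, ?_⟩
      rw [hqmk, ← map_sub, hmax2, AdicCompletion.maximalIdeal_eq_map, ← Ideal.map_pow]
      exact Ideal.mem_map_of_mem _ hb
  obtain ⟨e₁, he₁⟩ := isOrdDoublePt_of_nodeCrit hcritD
  haveI : IsAdicComplete (maximalIdeal (FibreRing A (AdicCompletion (maximalIdeal B) B)))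
      (FibreRing A (AdicCompletion (maximalIdeal B) B)) := by
    haveI : IsAdicComplete (maximalIdeal (AdicCompletion (maximalIdeal B) B))
        (FibreRing A (AdicCompletion (maximalIdeal B) B)) := Adic7.isAdicComplete_of_finite _ _
    rw [hmax2]
    exact (IsAdicComplete.map_algebraMap_iff (S := FibreRing A (AdicCompletion (maximalIdeal B) B)) _ _).mpr ‹_›
  let o := AdicCompletion.ofAlgEquiv (maximalIdeal (FibreRing A (AdicCompletion (maximalIdeal B) B)))
    (S := FibreRing A (AdicCompletion (maximalIdeal B) B))
  let e₂ : FibreRing A (AdicCompletion (maximalIdeal B) B) ≃+* NodeQuot (ResidueField A) :=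
    o.toRingEquiv.trans e₁
  haveI : IsLocalHom (Ideal.Quotient.mk ((maximalIdeal A).map
      (algebraMap A (AdicCompletion (maximalIdeal B) B)))) := IsLocalHom.of_surjective _ Ideal.Quotient.mk_surjective
  -- the branches
  obtain ⟨u, hu⟩ := Ideal.Quotient.mk_surjective (e₂.symm (Ideal.Quotient.mk _ (MvPowerSeries.X 0)))
  obtain ⟨v, hv⟩ := Ideal.Quotient.mk_surjective (e₂.symm (Ideal.Quotient.mk _ (MvPowerSeries.X 1)))
  have horig : (maximalIdeal (FibreRing A (AdicCompletion (maximalIdeal B) B))).map e₂ =
      nodeOrigin (ResidueField A) := by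
    haveI := (nodeCrit_origin (ResidueField A)).isMaximal
    have h2 : (nodeOrigin (ResidueField A)).comap e₂ =
        maximalIdeal (FibreRing A (AdicCompletion (maximalIdeal B) B)) :=
      IsLocalRing.eq_maximalIdeal (Ideal.comap_isMaximal_of_surjective e₂ e₂.surjective)
    rw [← h2]; exact Ideal.map_comap_of_surjective _ e₂.surjective _
  have huv : u * v ∈ (maximalIdeal A).map (algebraMap A (AdicCompletion (maximalIdeal B) B)) := by
    rw [← Ideal.Quotient.eq_zero_iff_mem, map_mul, hu, hv, ← map_mul, ← map_mul,
      Ideal.Quotient.eq_zero_iff_mem.2 (Ideal.mem_span_singleton_self _), map_zero]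
  have hgen : maximalIdeal (AdicCompletion (maximalIdeal B) B) =
      Ideal.span {u, v} ⊔ (maximalIdeal A).map (algebraMap A (AdicCompletion (maximalIdeal B) B)) := by
    have h1 : (Ideal.span {u, v}).map (Ideal.Quotient.mk _) =
        maximalIdeal (FibreRing A (AdicCompletion (maximalIdeal B) B)) := by
      have inj : Function.Injective (Ideal.map e₂) := fun I J h => by
        have := congrArg (Ideal.comap e₂) h
        rwa [Ideal.comap_map_of_bijective _ e₂.bijective, Ideal.comap_map_of_bijective _ e₂.bijective] at this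
      apply inj
      rw [horig, Ideal.map_span, Set.image_pair, hu, hv, Ideal.map_span, Set.image_pair, e₂.apply_symm_apply,
        e₂.apply_symm_apply, nodeOrigin, vars_eq, Ideal.map_span, Set.image_pair]
    have h2 := congrArg (Ideal.comap (Ideal.Quotient.mk ((maximalIdeal A).map
      (algebraMap A (AdicCompletion (maximalIdeal B) B))))) h1
    rw [Ideal.comap_map_of_surjective _ Ideal.Quotient.mk_surjective, ← RingHom.ker_eq_comap_bot, Ideal.mk_ker,
      IsLocalRing.maximalIdeal_comap] at h2
    exact h2.symm
  have hum : u ∈ maximalIdeal (AdicCompletion (maximalIdeal B) B) :=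
    hgen ▸ Ideal.mem_sup_left (Ideal.subset_span (by simp))
  have hvm : v ∈ maximalIdeal (AdicCompletion (maximalIdeal B) B) :=
    hgen ▸ Ideal.mem_sup_left (Ideal.subset_span (by simp))
  have hres : Function.Bijective (IsLocalRing.ResidueField.map (algebraMap A (AdicCompletion (maximalIdeal B) B))) := by
    refine ⟨RingHom.injective _, fun r => ?_⟩
    obtain ⟨c, rfl⟩ := IsLocalRing.residue_surjective r
    obtain ⟨t, ht⟩ := hcritD.exists_sub_mem (Ideal.Quotient.mk _ c)
    obtain ⟨a, rfl⟩ := IsLocalRing.residue_surjective t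
    refine ⟨IsLocalRing.residue A a, ?_⟩
    rw [IsLocalRing.ResidueField.map_residue]
    refine (Ideal.Quotient.eq.2 ?_).symm
    change Ideal.Quotient.mk _ c - Ideal.Quotient.mk _ (algebraMap A _ a) ∈ _ at ht
    rw [← map_sub, ← Ideal.mem_comap, IsLocalRing.maximalIdeal_comap] at ht
    exact ht
  have hK0 := hmax2.symm
  obtain ⟨α, hα, ψ, -, -⟩ := S7925.result A (AdicCompletion (maximalIdeal B) B) hres u v hum hvm huv hgen (by
    rw [hK0]
    refine ⟨e₁, fun a => ?_⟩
    exact he₁ (IsLocalRing.residue A a))
  refine ⟨α, by rw [AdicCompletion.maximalIdeal_eq_map]; exact hα,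
    ((AdicCompletion.ofAlgEquiv (maximalIdeal (AdicCompletion (maximalIdeal B) B))
      (S := AdicCompletion (maximalIdeal B) B)).toRingEquiv).trans ψ.symm.toRingEquiv, fun a => ?_⟩
  show ψ.symm (AdicCompletion.ofAlgEquiv _ (algebraMap B _ (algebraMap A B a))) = _
  rw [← IsScalarTower.algebraMap_apply A B (AdicCompletion (maximalIdeal B) B), AdicCompletion.ofAlgEquiv_apply]
  refine (?_ : ψ.symm (algebraMap A _ a) = _)
  rw [AlgEquiv.commutes, ← Ideal.Quotient.mk_algebraMap, MvPowerSeries.algebraMap_apply]

end

end Groth.Agent.NodeFam
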