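import Groth.Agent.NodeFam.ODP
import Groth.Agent.NodeFam.NormalForm
import Groth.Agent.GeomRedFlat5.Bridge
import Groth.Agent.CIField6.Scheme

/-!
# The local ring of a fibre, with its constants
-/

set_option autoImplicit false
set_option backward.isDefEq.respectTransparency false
set_option backward.isDefEq.respectTransparency.types false
set_option linter.style.haveILetI false

universe u

open CategoryTheory CategoryTheory.Limits AlgebraicGeometry IsLocalRing

namespace Groth.Agent.NodeFam

noncomputable section

variable {X Y : Scheme.{u}}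

/-- The fibre ring at a point is the local ring of the fibre, compatibly with the constants. -/
theorem exists_fibreRing_equiv (f : X ⟶ Y) (x : X) [Algebra (Y.presheaf.stalk (f x)) (X.presheaf.stalk x)]
    (hS : algebraMap (Y.presheaf.stalk (f x)) (X.presheaf.stalk x) = (f.stalkMap x).hom) :
    ∃ φ : FibreRing (Y.presheaf.stalk (f x)) (X.presheaf.stalk x) ≃+*
        (f.fiber (f x)).presheaf.stalk (f.asFiber x),
      ∀ a : Y.presheaf.stalk (f x),
        φ (Ideal.Quotient.mk _ (algebraMap (Y.presheaf.stalk (f x)) (X.presheaf.stalk x) a)) =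
          cst (K := Y.residueField (f x)) (f.fiberToSpecResidueField (f x)) (f.asFiber x)
            (IsLocalRing.residue _ a) := by
  let F := f.fiber (f x)
  let w : F := f.asFiber x
  letI : F.Over (Spec (CommRingCat.of (Y.residueField (f x)))) := ⟨f.fiberToSpecResidueField (f x)⟩
  have e : f.fiberι (f x) w = x := f.fiberι_asFiber x
  let j := X.presheaf.stalkSpecializes (specializes_of_eq e) ≫ (f.fiberι (f x)).stalkMap w
  let σ : Y.residueField (f x) ⟶ F.presheaf.stalk w :=
    CommRingCat.ofHom (cst (K := Y.residueField (f x)) (f.fiberToSpecResidueField (f x)) w)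
  have hσ : F.fromSpecStalk w ≫ f.fiberToSpecResidueField (f x) = Spec.map σ := by
    refine (GeomRedFlat5.fromSpecStalk_comp_eq (k := Y.residueField (f x)) (f.fiberToSpecResidueField (f x)) w).trans ?_
    rfl
  have key : f.stalkMap x ≫ j = Y.residue (f x) ≫ σ := by
    apply Spec.map_injective
    rw [← cancel_mono (Y.fromSpecStalk (f x))]
    have l : (Spec.map j ≫ Spec.map (f.stalkMap x)) ≫ Y.fromSpecStalk (f x) =
        F.fromSpecStalk w ≫ f.fiberι (f x) ≫ f := by
      rw [Category.assoc, Scheme.SpecMap_stalkMap_fromSpecStalk, Spec.map_comp, Category.assoc,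
        Scheme.SpecMap_stalkSpecializes_fromSpecStalk_assoc, Scheme.SpecMap_stalkMap_fromSpecStalk_assoc]
    rw [Spec.map_comp, l]
    refine Eq.trans ?_ ((Category.assoc _ _ _).symm.trans (congrArg (· ≫ _) (Spec.map_comp _ _).symm))
    show F.fromSpecStalk w ≫ f.fiberι (f x) ≫ f = Spec.map σ ≫ Y.fromSpecResidueField (f x)
    refine Eq.trans ?_ (congrArg (· ≫ Y.fromSpecResidueField (f x)) hσ)
    exact (congrArg (F.fromSpecStalk w ≫ ·) (f.fiber_fac (f x))).trans (Category.assoc _ _ _).symm
  have hker : RingHom.ker j.hom = (maximalIdeal (Y.presheaf.stalk (f x))).map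
      (algebraMap (Y.presheaf.stalk (f x)) (X.presheaf.stalk x)) := by
    rw [hS]; exact GeomRedFlat5.ker_specializes f w e
  refine ⟨(Ideal.quotEquivOfEq hker.symm).trans
    (RingHom.quotientKerEquivOfSurjective (GeomRedFlat5.surjective_specializes f w e)), fun a => ?_⟩
  show j.hom (algebraMap (Y.presheaf.stalk (f x)) (X.presheaf.stalk x) a) = _
  rw [hS]
  exact congr($key a)

/-- A split node of a fibre is an ordinary double point of the fibre ring. -/
theorem odp_fibreRing (f : X ⟶ Y) [LocallyOfFiniteType f] (x : X) [Algebra (Y.presheaf.stalk (f x)) (X.presheaf.stalk x)]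
    [IsLocalHom (algebraMap (Y.presheaf.stalk (f x)) (X.presheaf.stalk x))] [IsNoetherianRing (X.presheaf.stalk x)]
    (hS : algebraMap (Y.presheaf.stalk (f x)) (X.presheaf.stalk x) = (f.stalkMap x).hom)
    (h : ODPAt (Y.residueField (f x)) (f.fiberToSpecResidueField (f x)) (f.asFiber x)) :
    Curv2.IsOrdDoublePt (ResidueField (Y.presheaf.stalk (f x)))
      (FibreRing (Y.presheaf.stalk (f x)) (X.presheaf.stalk x)) := by
  obtain ⟨φ, hφ⟩ := exists_fibreRing_equiv f x hS
  haveI := LocallyOfFiniteType.isLocallyNoetherian (f.fiberToSpecResidueField (f x))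
  letI := @Curv2.stalkAlgebra (Y.residueField (f x)) _ (f.fiber (f x)) ⟨f.fiberToSpecResidueField (f x)⟩ (f.asFiber x)
  refine (isOrdDoublePt_iff_of_equiv (K := ResidueField (Y.presheaf.stalk (f x))) (L := Y.residueField (f x))
    (RingEquiv.refl (Y.residueField (f x))) φ.toRingHom φ.bijective fun c => ?_).2 h
  obtain ⟨a, rfl⟩ := IsLocalRing.residue_surjective c
  exact hφ a

end

end Groth.Agent.NodeFam
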