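import Groth.Agent.NodeFam.Crit
import Mathlib.Algebra.MvPolynomial.PDeriv
import Mathlib.RingTheory.TensorProduct.MvPolynomial
import Mathlib.LinearAlgebra.Matrix.Determinant.Basic
import Mathlib.LinearAlgebra.Matrix.NonsingularInverse
import Mathlib.RingTheory.FiniteType

/-!
# The Jacobian ideal at a geometric node

At an ordinary double point of `K ⊗ A` the ideal of the point is generated modulo its square by the ideal
of its image in `Spec A`.
-/

set_option autoImplicit false

universe u

open scoped TensorProduct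
open MvPolynomial

namespace Groth.Agent.NodeFam

noncomputable section

/-- Determinants of rows from spans lie in an ideal containing the determinants of rows of generators. -/
theorem det_mem_of_mem_span {ι : Type*} [Fintype ι] [DecidableEq ι] {R : Type*} [CommRing R] (J : Ideal R)
    (S : ι → Set (ι → R)) (v : ι → ι → R) (hv : ∀ i, v i ∈ Submodule.span R (S i))
    (hS : ∀ w : ι → ι → R, (∀ i, w i ∈ S i) → Matrix.det (Matrix.of w) ∈ J) :
    Matrix.det (Matrix.of v) ∈ J := by
  choose N c g hsum using fun i => Submodule.mem_span_set'.1 (hv i)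
  have hv' : v = fun i => ∑ j, c i j • (g i j : ι → R) := funext fun i => (hsum i).symm
  show Matrix.detRowAlternating v ∈ J
  rw [hv', ← AlternatingMap.coe_multilinearMap, MultilinearMap.map_sum]
  refine Ideal.sum_mem _ fun r _ => ?_
  rw [MultilinearMap.map_smul_univ, smul_eq_mul]
  exact Ideal.mul_mem_left _ _ (hS _ fun i => (g i (r i)).2)

section Taylor

variable {K : Type u} [Field K] {n : ℕ} (a : Fin n → K)

/-- The ideal of a rational point of affine space. -/
abbrev ptIdeal : Ideal (MvPolynomial (Fin n) K) := Ideal.span (Set.range fun i => X i - C (a i))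

theorem sub_eval_mem (p : MvPolynomial (Fin n) K) : p - C (eval a p) ∈ ptIdeal a := by
  induction p using MvPolynomial.induction_on with
  | C r => simp
  | add p q hp hq =>
    rw [map_add, map_add, add_sub_add_comm]
    exact add_mem hp hq
  | mul_X p i hp =>
    rw [map_mul, eval_X, map_mul]
    have e : p * X i - C (eval a p) * C (a i) = (p - C (eval a p)) * X i + C (eval a p) * (X i - C (a i)) := by ring
    rw [e]
    exact add_mem (Ideal.mul_mem_right _ _ hp) (Ideal.mul_mem_left _ _ (Ideal.subset_span ⟨i, rfl⟩))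

theorem taylor_one (p : MvPolynomial (Fin n) K) :
    p - (C (eval a p) + ∑ i, C (eval a (pderiv i p)) * (X i - C (a i))) ∈ ptIdeal a ^ 2 := by
  induction p using MvPolynomial.induction_on with
  | C r => simp
  | add p q hp hq =>
    convert add_mem hp hq using 1
    simp only [map_add, add_mul, Finset.sum_add_distrib]; ring
  | mul_X p i hp =>
    set u := fun j => (X j : MvPolynomial (Fin n) K) - C (a j) with hu
    set d := p - (C (eval a p) + ∑ j, C (eval a (pderiv j p)) * u j) with hd
    have hsum : ∑ j, C (eval a (pderiv j (p * X i))) * u j =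
        (∑ j, C (eval a (pderiv j p)) * u j) * C (a i) + C (eval a p) * u i := by
      rw [Finset.sum_mul]
      have : ∀ j, C (eval a (pderiv j (p * X i))) * u j =
          C (eval a (pderiv j p)) * u j * C (a i) + (if j = i then C (eval a p) * u i else 0) := by
        intro j
        rw [Derivation.leibniz, pderiv_X, map_add, smul_eq_mul, smul_eq_mul, map_mul, map_mul, eval_X]
        by_cases h : j = i
        · subst h; simp [Pi.single_eq_same]; ring
        · simp [Pi.single_eq_of_ne' h, h]; ring
      rw [Finset.sum_congr rfl fun j _ => this j, Finset.sum_add_distrib, Finset.sum_ite_eq' Finset.univ i]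
      simp
    have hmem : (∑ j, C (eval a (pderiv j p)) * u j) * u i ∈ ptIdeal a ^ 2 := by
      rw [sq]
      exact Ideal.mul_mem_mul (Ideal.sum_mem _ fun j _ => Ideal.mul_mem_left _ _ (Ideal.subset_span ⟨j, rfl⟩))
        (Ideal.subset_span ⟨i, rfl⟩)
    have e : p * X i - (C (eval a (p * X i)) + ∑ j, C (eval a (pderiv j (p * X i))) * u j) =
        d * X i + (∑ j, C (eval a (pderiv j p)) * u j) * u i := by
      rw [hsum, map_mul, eval_X, map_mul, hd]; simp only [hu]; ring
    rw [e]
    exact add_mem (Ideal.mul_mem_right _ _ hp) hmem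

theorem pderiv_mem {p : MvPolynomial (Fin n) K} {j : ℕ} (hp : p ∈ ptIdeal a ^ (j + 1)) (i : Fin n) :
    pderiv i p ∈ ptIdeal a ^ j := by
  induction j generalizing p with
  | zero => simp
  | succ j ih =>
    rw [pow_succ] at hp
    refine Submodule.mul_induction_on hp (fun q hq r hr => ?_) fun q r hq hr => by rw [map_add]; exact add_mem hq hr
    rw [Derivation.leibniz, smul_eq_mul, smul_eq_mul]
    refine add_mem (Ideal.mul_mem_right _ _ hq) ?_
    rw [pow_succ']
    exact Ideal.mul_mem_mul hr (ih hq)

end Taylor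

variable {k K : Type u} [Field k] [Field K] [Algebra k K] {A : Type u} [CommRing A] [Algebra k A]

/-- At a geometric node the ideal of the image point generates to first order. -/
theorem nodeCrit_le_sup [Algebra.FiniteType k A] {Mb : Ideal (K ⊗[k] A)} (h : NodeCrit K Mb) :
    Mb ≤ (Mb.comap (Algebra.TensorProduct.includeRight : A →ₐ[k] K ⊗[k] A)).map
      (Algebra.TensorProduct.includeRight : A →ₐ[k] K ⊗[k] A) ⊔ Mb ^ 2 := by
  classical
  let ι : A →ₐ[k] K ⊗[k] A := Algebra.TensorProduct.includeRight
  set 𝔞 := (Mb.comap ι).map ι ⊔ Mb ^ 2 with h𝔞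
  obtain ⟨n, φ, hφ⟩ := Algebra.FiniteType.iff_quotient_mvPolynomial''.1 (inferInstance : Algebra.FiniteType k A)
  -- residue map at the point
  haveI := h.isMaximal
  obtain ⟨θ, hθ⟩ : ∃ θ : K ⊗[k] A →ₐ[K] K, ∀ b, b ∈ Mb ↔ θ b = 0 := by
    have hb : Function.Bijective (Algebra.ofId K ((K ⊗[k] A) ⧸ Mb)) := by
      refine ⟨(Algebra.ofId K ((K ⊗[k] A) ⧸ Mb)).toRingHom.injective, fun q => ?_⟩
      obtain ⟨b, rfl⟩ := Ideal.Quotient.mk_surjective q
      obtain ⟨c, hc⟩ := h.exists_sub_mem b
      exact ⟨c, (Ideal.Quotient.eq.2 hc).symm⟩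
    refine ⟨(AlgEquiv.ofBijective _ hb).symm.toAlgHom.comp (Ideal.Quotient.mkₐ K Mb), fun b => ?_⟩
    show _ ↔ (AlgEquiv.ofBijective _ hb).symm (Ideal.Quotient.mk Mb b) = 0
    rw [map_eq_zero_iff _ (AlgEquiv.injective _), Ideal.Quotient.eq_zero_iff_mem]
  -- the presentation upstairs
  let Φ : MvPolynomial (Fin n) K →ₐ[K] K ⊗[k] A := aeval fun i => ι (φ (X i))
  let a : Fin n → K := fun i => θ (ι (φ (X i)))
  have hΦmap : ∀ p : MvPolynomial (Fin n) k, Φ (map (algebraMap k K) p) = ι (φ p) := by
    intro p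
    have e : (Φ.restrictScalars k).comp (mapAlgHom (Algebra.ofId k K)) = ι.comp φ :=
      algHom_ext fun i => by simp [Φ]
    exact AlgHom.congr_fun e p
  have hΦsurj : Function.Surjective Φ := by
    intro b
    induction b using TensorProduct.induction_on with
    | zero => exact ⟨0, map_zero _⟩
    | tmul l x =>
      obtain ⟨p, rfl⟩ := hφ x
      refine ⟨C l * map (algebraMap k K) p, ?_⟩
      rw [map_mul, hΦmap, algHom_C, Algebra.TensorProduct.algebraMap_apply]
      show (l ⊗ₜ[k] (1 : A)) * ((1 : K) ⊗ₜ[k] φ p) = _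
      rw [Algebra.TensorProduct.tmul_mul_tmul, mul_one, one_mul]
    | add b b' hb hb' =>
      obtain ⟨p, rfl⟩ := hb; obtain ⟨q, rfl⟩ := hb'
      exact ⟨p + q, map_add _ _ _⟩
  have hev : ∀ p, θ (Φ p) = eval a p := by
    intro p
    have e : θ.comp Φ = aeval a := algHom_ext fun i => by simp [Φ, a]
    have := AlgHom.congr_fun e p
    simpa [MvPolynomial.aeval_eq_eval] using this
  have hker : RingHom.ker Φ.toRingHom = (RingHom.ker φ.toRingHom).map (map (algebraMap k K)) := by
    refine le_antisymm (fun p hp => ?_) ?_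
    · let e := (algebraTensorAlgEquiv k K (σ := Fin n))
      have hcomp : (Algebra.TensorProduct.map (AlgHom.id K K) φ).comp e.symm.toAlgHom = Φ := by
        refine algHom_ext fun i => ?_
        simp [Φ, e, ι]
      obtain ⟨t, rfl⟩ := e.surjective p
      have h0 : Algebra.TensorProduct.map (AlgHom.id k K) φ t = 0 := by
        have := AlgHom.congr_fun hcomp (e t)
        change Algebra.TensorProduct.map (AlgHom.id K K) φ (e.symm (e t)) = Φ (e t) at this
        rw [AlgEquiv.symm_apply_apply] at this
        exact this.trans hp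
      have hmem : t ∈ RingHom.ker (Algebra.TensorProduct.map (AlgHom.id k K) φ) := h0
      rw [Algebra.TensorProduct.lTensor_ker φ hφ] at hmem
      suffices hle : (RingHom.ker φ).map (Algebra.TensorProduct.includeRight :
          MvPolynomial (Fin n) k →ₐ[k] K ⊗[k] MvPolynomial (Fin n) k) ≤
          ((RingHom.ker φ.toRingHom).map (map (algebraMap k K))).comap e.toRingEquiv.toRingHom from hle hmem
      rw [Ideal.map_le_iff_le_comap]
      intro q hq
      show e ((1 : K) ⊗ₜ[k] q) ∈ (RingHom.ker φ.toRingHom).map (map (algebraMap k K))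
      simp [e]
      exact Ideal.mem_map_of_mem _ hq
    · rw [Ideal.map_le_iff_le_comap]
      intro p hp
      show Φ (map (algebraMap k K) p) = 0
      rw [hΦmap, show φ p = 0 from hp, map_zero]
  have hΦm : ∀ j : ℕ, (ptIdeal a ^ j).map Φ = Mb ^ j := by
    intro j
    rw [Ideal.map_pow]
    congr 1
    refine le_antisymm ?_ fun b hb => ?_
    · rw [Ideal.map_le_iff_le_comap, Ideal.span_le]
      rintro _ ⟨i, rfl⟩
      show Φ _ ∈ Mb
      rw [hθ, hev]; simp
    · obtain ⟨p, rfl⟩ := hΦsurj b
      refine Ideal.mem_map_of_mem _ ?_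
      have := sub_eval_mem a p
      rwa [← hev, (hθ _).1 hb, map_zero, sub_zero] at this
  -- linear parts
  let L : (Fin n → K) →ₗ[K] (K ⊗[k] A) ⧸ Mb ^ 2 :=
    (Ideal.Quotient.mkₐ K (Mb ^ 2)).toLinearMap ∘ₗ Φ.toLinearMap ∘ₗ
      Fintype.linearCombination K fun i => X i - C (a i)
  have hL : ∀ c, L c = Ideal.Quotient.mk (Mb ^ 2) (Φ (∑ i, C (c i) * (X i - C (a i)))) := by
    intro c; simp [L, Fintype.linearCombination_apply, MvPolynomial.smul_eq_C_mul]
  have hlin : ∀ p, Φ p - (algebraMap K _ (eval a p) +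
      Φ (∑ i, C (eval a (pderiv i p)) * (X i - C (a i)))) ∈ Mb ^ 2 := by
    intro p
    rw [← hΦm, ← algHom_C Φ, ← map_add, ← map_sub]
    exact Ideal.mem_map_of_mem _ (taylor_one a p)
  have hrowker : ∀ g, Φ g = 0 → L (fun i => eval a (pderiv i g)) = 0 := by
    intro g hg
    have h0 : eval a g = 0 := by rw [← hev, hg, map_zero]
    have := hlin g
    rw [hg, h0, map_zero, zero_add, zero_sub, neg_mem_iff] at this
    rw [hL, Ideal.Quotient.eq_zero_iff_mem]
    exact this
  obtain ⟨x, y, hspan, hxy⟩ := h.2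
  have hxM : x ∈ Mb := hspan ▸ Ideal.mem_sup_left (Ideal.subset_span (by simp))
  have hyM : y ∈ Mb := hspan ▸ Ideal.mem_sup_left (Ideal.subset_span (by simp))
  obtain ⟨px, rfl⟩ := hΦsurj x
  obtain ⟨py, rfl⟩ := hΦsurj y
  set lx := fun i => eval a (pderiv i px) with hlx
  set ly := fun i => eval a (pderiv i py) with hly
  have hLx : L lx = Ideal.Quotient.mk _ (Φ px) := by
    have := hlin px
    rw [← hev, (hθ _).1 hxM, map_zero, zero_add] at this
    rw [hL]; exact (Ideal.Quotient.eq.2 this).symm
  have hLy : L ly = Ideal.Quotient.mk _ (Φ py) := by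
    have := hlin py
    rw [← hev, (hθ _).1 hyM, map_zero, zero_add] at this
    rw [hL]; exact (Ideal.Quotient.eq.2 this).symm
  have hindep : ∀ c₁ c₂ : K, L (c₁ • lx + c₂ • ly) = 0 → c₁ = 0 ∧ c₂ = 0 := by
    intro c₁ c₂ h0
    rw [map_add, map_smul, map_smul, hLx, hLy] at h0
    have := coeff_eq_zero h.exists_sub_mem hspan (h.1 1) (c₀ := 0) (c₁ := c₁) (c₂ := c₂) (by
      rw [← Ideal.Quotient.eq_zero_iff_mem, ← h0]
      simp [Algebra.smul_def, map_add, map_mul]
      rfl)
    exact this.2
  have hdim : Module.finrank K (LinearMap.ker L) + 2 = n := by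
    have h1 := L.finrank_range_add_finrank_ker
    rw [Module.finrank_fintype_fun_eq_card, Fintype.card_fin] at h1
    have h2 : Module.finrank K (LinearMap.range L) = 2 := by
      have he : LinearMap.range L = Submodule.span K (Set.range ![L lx, L ly]) := by
        refine le_antisymm ?_ (Submodule.span_le.2 ?_)
        · rintro _ ⟨c, rfl⟩
          have hc : L c ∈ (Mb.map (Ideal.Quotient.mk (Mb ^ 2))) := by
            rw [hL]
            refine Ideal.mem_map_of_mem _ ?_
            rw [← pow_one Mb, ← hΦm, pow_one]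
            exact Ideal.mem_map_of_mem _ (Ideal.sum_mem _ fun i _ => Ideal.mul_mem_left _ _ (Ideal.subset_span ⟨i, rfl⟩))
          obtain ⟨b, hb, hbe⟩ := (Ideal.mem_map_iff_of_surjective _ Ideal.Quotient.mk_surjective).1 hc
          obtain ⟨c₀, c₁, c₂, hcs⟩ := exists_sub_mem_sq h.exists_sub_mem hspan b
          obtain rfl : c₀ = 0 := by
            by_contra hne
            refine h.ne_top (Ideal.eq_top_of_isUnit_mem _ (?_ : algebraMap K _ c₀ ∈ Mb)
              ((isUnit_iff_ne_zero.2 hne).map _))
            have := sub_mem (sub_mem (sub_mem hb (Ideal.pow_le_self two_ne_zero hcs))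
              (Ideal.mul_mem_left Mb (algebraMap K (K ⊗[k] A) c₁) hxM))
              (Ideal.mul_mem_left Mb (algebraMap K (K ⊗[k] A) c₂) hyM)
            convert this using 1; ring
          rw [Submodule.mem_span_range_iff_exists_fun]
          refine ⟨![c₁, c₂], ?_⟩
          rw [← hbe, (Ideal.Quotient.eq.2 hcs), Fin.sum_univ_two]
          simp [hLx, hLy, Algebra.smul_def]
          rfl
        · rintro _ ⟨i, rfl⟩
          fin_cases i <;> simp
      rw [he, finrank_span_eq_card, Fintype.card_fin]
      rw [Fintype.linearIndependent_iff]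
      intro c hc
      simp only [Fin.sum_univ_two, Matrix.cons_val_zero, Matrix.cons_val_one, ← map_smul, ← map_add] at hc
      obtain ⟨e1, e2⟩ := hindep _ _ hc
      intro i; fin_cases i <;> assumption
    omega
  obtain ⟨m, hm⟩ : ∃ m, Module.finrank K (LinearMap.ker L) = m := ⟨_, rfl⟩
  obtain rfl : n = m + 2 := by omega
  let br := Module.finBasisOfFinrankEq K _ hm
  -- equations with prescribed linear parts
  have hlift : ∀ q : MvPolynomial (Fin (m + 2)) K, ∀ j, Φ q ∈ Mb ^ j → ∃ q' ∈ ptIdeal a ^ j, Φ (q - q') = 0 := by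
    intro q j hq
    rw [← hΦm, Ideal.mem_map_iff_of_surjective _ hΦsurj] at hq
    obtain ⟨q', hq', he⟩ := hq
    exact ⟨q', hq', by rw [map_sub, he, sub_self]⟩
  have hg : ∀ j, ∃ g, Φ g = 0 ∧ (fun i => eval a (pderiv i g)) = (br j : Fin (m + 2) → K) := by
    intro j
    have h0 : L (br j : Fin (m + 2) → K) = 0 := (br j).2
    rw [hL, Ideal.Quotient.eq_zero_iff_mem] at h0
    obtain ⟨q, hq, he⟩ := hlift _ 2 h0
    refine ⟨_, he, funext fun i => ?_⟩
    have hq0 : eval a (pderiv i q) = 0 := by
      have := pderiv_mem a hq i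
      rw [pow_one] at this
      rw [← hev, ← hθ, ← pow_one Mb, ← hΦm, pow_one]
      exact Ideal.mem_map_of_mem _ this
    rw [map_sub, map_sub, hq0, sub_zero, map_sum, map_sum, Finset.sum_eq_single i]
    · simp [pderiv_X, Derivation.leibniz]
    · intro l _ hl
      simp [pderiv_X, Derivation.leibniz, Pi.single_eq_of_ne hl]
    · simp
  choose g hg0 hgd using hg
  obtain ⟨q3, hq3, hF⟩ := hlift (px * py) 3 (by rwa [map_mul])
  set F := px * py - q3 with hFdef
  -- Jacobian determinants land in the extended ideal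
  let D : MvPolynomial (Fin (m + 2)) K → Fin (m + 2) → K ⊗[k] A := fun p i => Φ (pderiv i p)
  have hJ : ∀ e : Fin (m + 2) → K ⊗[k] A,
      Matrix.det (Matrix.of (Fin.cons (D F) (Fin.cons e fun j => D (g j)) : Fin (m + 2) → _)) ∈ 𝔞 := by
    intro e
    let S0 : Set (Fin (m + 2) → K ⊗[k] A) :=
      {w | ∃ f, φ f = 0 ∧ w = fun i => ι (φ (pderiv i f))}
    have hD : ∀ p, Φ p = 0 → D p ∈ Submodule.span (K ⊗[k] A) S0 := by
      intro p hp
      have hp' : p ∈ (RingHom.ker φ.toRingHom).map (map (algebraMap k K)) := hker ▸ hp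
      induction hp' using Submodule.span_induction with
      | mem q hq =>
        obtain ⟨f, hf, rfl⟩ := hq
        refine Submodule.subset_span ⟨f, hf, funext fun i => ?_⟩
        show Φ (pderiv i (map (algebraMap k K) f)) = _
        rw [pderiv_map, hΦmap]
      | zero =>
        have : D 0 = 0 := funext fun i => by simp [D]
        rw [this]; exact zero_mem _
      | add q r hq hr ihq ihr =>
        have : D (q + r) = D q + D r := funext fun i => by simp [D]
        rw [this]
        exact add_mem (ihq (show q ∈ RingHom.ker Φ.toRingHom from hker.symm ▸ hq)) (ihr (show r ∈ RingHom.ker Φ.toRingHom from hker.symm ▸ hr))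
      | smul s q hq ih =>
        have hq0 : Φ q = 0 := show q ∈ RingHom.ker Φ.toRingHom from hker.symm ▸ hq
        have : D (s • q) = Φ s • D q := funext fun i => by
          simp [D, Derivation.leibniz, hq0]
        rw [this]; exact Submodule.smul_mem _ _ (ih hq0)
    let S : Fin (m + 2) → Set (Fin (m + 2) → K ⊗[k] A) :=
      Fin.cons S0 (Fin.cons (Set.range fun l => (Pi.single l 1 : Fin (m + 2) → K ⊗[k] A)) fun _ => S0)
    refine det_mem_of_mem_span 𝔞 S _ (fun i => ?_) fun w hw => ?_
    · refine Fin.cases ?_ (fun i => ?_) i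
      · exact hD F hF
      refine Fin.cases ?_ (fun i => ?_) i
      · simp only [S, Fin.cons_succ, Fin.cons_zero]
        exact (Submodule.mem_span_range_iff_exists_fun _).2 ⟨e, (pi_eq_sum_univ' e).symm⟩
      · simp only [S, Fin.cons_succ]
        exact hD _ (hg0 i)
    · have hex : ∀ i, ∃ v : Fin (m + 2) → A, w i = (fun l => ι (v l)) ∧
          (i ≠ 1 → ∃ f, φ f = 0 ∧ v = fun l => φ (pderiv l f)) := by
        intro i
        refine Fin.cases ?_ (fun i => ?_) i
        · obtain ⟨f, hf, he⟩ := hw 0
          exact ⟨_, he, fun _ => ⟨f, hf, rfl⟩⟩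
        refine Fin.cases ?_ (fun i => ?_) i
        · obtain ⟨l, he⟩ := hw (Fin.succ 0)
          refine ⟨Pi.single l 1, ?_, fun h => absurd rfl h⟩
          rw [← he]
          funext l'
          by_cases hl : l' = l <;> simp [hl, Pi.single_eq_of_ne]
        · obtain ⟨f, hf, he⟩ := hw i.succ.succ
          exact ⟨_, he, fun _ => ⟨f, hf, rfl⟩⟩
      choose v hv hvf using hex
      have hdet : Matrix.det (Matrix.of w) = ι (Matrix.det (Matrix.of v)) := by
        rw [AlgHom.map_det]
        congr 1
        ext i l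
        simp [hv]
      rw [hdet]
      refine Ideal.mem_sup_left (Ideal.mem_map_of_mem _ ?_)
      show ι (Matrix.det (Matrix.of v)) ∈ Mb
      rw [hθ]
      show ((θ.restrictScalars k).comp ι) (Matrix.det (Matrix.of v)) = 0
      rw [AlgHom.map_det]
      by_contra hne
      have hli := Matrix.linearIndependent_rows_of_det_ne_zero hne
      have hsub : LinearIndependent K fun i : Fin (m + 1) =>
          (((θ.restrictScalars k).comp ι).mapMatrix (Matrix.of v)) ((1 : Fin (m + 2)).succAbove i) :=
        hli.comp _ Fin.succAbove_right_injective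
      have hmem : ∀ i : Fin (m + 1),
          (((θ.restrictScalars k).comp ι).mapMatrix (Matrix.of v)) ((1 : Fin (m + 2)).succAbove i) ∈
            LinearMap.ker L := by
        intro i
        obtain ⟨f, hf, hvi⟩ := hvf _ (Fin.succAbove_ne 1 i)
        have hrow := hrowker (map (algebraMap k K) f) (by rw [hΦmap, hf, map_zero])
        rw [LinearMap.mem_ker, ← hrow]
        congr 1
        funext l
        rw [pderiv_map, ← hev, hΦmap]
        simp [hvi]
      have hsub' : LinearIndependent K fun i => (⟨_, hmem i⟩ : LinearMap.ker L) :=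
        LinearIndependent.of_comp (LinearMap.ker L).subtype hsub
      have := hsub'.fintype_card_le_finrank
      rw [hm, Fintype.card_fin] at this
      omega
  -- evaluate the determinants modulo the square
  let cK : K →+* K ⊗[k] A := algebraMap K _
  have hcongr : ∀ p c, eval a p = c → Φ p - cK c ∈ Mb := by
    intro p c hpc
    rw [hθ, map_sub, hev, hpc, AlgHom.commutes, Algebra.algebraMap_self, RingHom.id_apply, sub_self]
  have hDF : ∀ i, Φ (pderiv i F) ∈ Mb ∧ Φ (pderiv i F) - (Φ py * cK (lx i) + Φ px * cK (ly i)) ∈ Mb ^ 2 := by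
    intro i
    have h3 : Φ (pderiv i q3) ∈ Mb ^ 2 := by
      rw [← hΦm]; exact Ideal.mem_map_of_mem _ (pderiv_mem a hq3 i)
    have e : Φ (pderiv i F) = Φ px * Φ (pderiv i py) + Φ py * Φ (pderiv i px) - Φ (pderiv i q3) := by
      simp [hFdef, Derivation.leibniz]
    rw [e]
    refine ⟨sub_mem (add_mem (Ideal.mul_mem_right _ _ hxM) (Ideal.mul_mem_right _ _ hyM))
      (Ideal.pow_le_self two_ne_zero h3), ?_⟩
    have e2 : Φ px * Φ (pderiv i py) + Φ py * Φ (pderiv i px) - Φ (pderiv i q3) -
        (Φ py * cK (lx i) + Φ px * cK (ly i)) = Φ px * (Φ (pderiv i py) - cK (ly i)) +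
          Φ py * (Φ (pderiv i px) - cK (lx i)) - Φ (pderiv i q3) := by ring
    rw [e2]
    refine sub_mem (add_mem ?_ ?_) h3 <;> rw [sq]
    · exact Ideal.mul_mem_mul hxM (hcongr _ _ rfl)
    · exact Ideal.mul_mem_mul hyM (hcongr _ _ rfl)
  have hcoord : ∀ l : Fin (m + 2) → K,
      Φ py * cK (Matrix.det (Matrix.of (Fin.cons lx (Fin.cons l fun j => (br j : Fin (m + 2) → K)) : Fin (m + 2) → _))) +
      Φ px * cK (Matrix.det (Matrix.of (Fin.cons ly (Fin.cons l fun j => (br j : Fin (m + 2) → K)) : Fin (m + 2) → _))) ∈ 𝔞 := by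
    intro l
    have hmem := hJ fun i => cK (l i)
    rw [Matrix.det_succ_row_zero] at hmem
    rw [Matrix.det_succ_row_zero, Matrix.det_succ_row_zero, map_sum, map_sum, Finset.mul_sum, Finset.mul_sum,
      ← Finset.sum_add_distrib]
    rw [← sub_sub_cancel (∑ j : Fin (m + 2), _) (∑ j : Fin (m + 2), _)]
    refine sub_mem hmem (Ideal.mem_sup_right ?_)
    rw [← Finset.sum_sub_distrib]
    refine Ideal.sum_mem _ fun j _ => ?_
    simp only [Matrix.of_apply, Fin.cons_zero]
    set P := (Matrix.of (Fin.cons (D F) (Fin.cons (fun i => cK (l i)) fun j => D (g j)) : Fin (m + 2) → _)).submatrix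
      Fin.succ j.succAbove with hP
    set Q : Matrix (Fin (m + 1)) (Fin (m + 1)) K :=
      Matrix.of fun i c => (Fin.cons l (fun j => (br j : Fin (m + 2) → K)) : Fin (m + 1) → Fin (m + 2) → K) i (j.succAbove c) with hQ
    have hQx : ∀ v : Fin (m + 2) → K, (Matrix.of (Fin.cons v (Fin.cons l fun j => (br j : Fin (m + 2) → K)) :
        Fin (m + 2) → _)).submatrix Fin.succ j.succAbove = Q := fun v => by
      ext i c; simp [hQ]
    rw [hQx, hQx]
    simp only [map_mul, map_pow, map_neg, map_one]
    have hdiff : P.det - cK Q.det ∈ Mb := by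
      rw [← Ideal.Quotient.eq, RingHom.map_det, ← RingHom.comp_apply, RingHom.map_det]
      congr 1
      ext i c
      simp only [RingHom.mapMatrix_apply, Matrix.map_apply, hP, hQ, Matrix.submatrix_apply, Matrix.of_apply,
        RingHom.comp_apply, Fin.cons_succ]
      rw [Ideal.Quotient.eq]
      refine Fin.cases ?_ (fun i => ?_) i
      · simp
      · simp only [Fin.cons_succ]
        exact hcongr _ _ (congrFun (hgd i) _)
    have e : (-1) ^ (j : ℕ) * D F j * P.det -
        (Φ py * ((-1) ^ (j : ℕ) * cK (lx j) * cK Q.det) + Φ px * ((-1) ^ (j : ℕ) * cK (ly j) * cK Q.det)) =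
        (-1) ^ (j : ℕ) * (Φ (pderiv j F) * (P.det - cK Q.det) +
          (Φ (pderiv j F) - (Φ py * cK (lx j) + Φ px * cK (ly j))) * cK Q.det) := by
      simp only [D]; ring
    rw [e]
    refine Ideal.mul_mem_left _ _ (add_mem ?_ (Ideal.mul_mem_right _ _ (hDF j).2))
    rw [sq]; exact Ideal.mul_mem_mul (hDF j).1 hdiff
  set Δ := Matrix.det (Matrix.of (Fin.cons lx (Fin.cons ly fun j => (br j : Fin (m + 2) → K)) : Fin (m + 2) → _))
    with hΔdef
  have hΔ : Δ ≠ 0 := by
    have hli : LinearIndependent K (Matrix.of (Fin.cons lx (Fin.cons ly fun j => (br j : Fin (m + 2) → K)) :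
        Fin (m + 2) → _)).row := by
      rw [Fintype.linearIndependent_iff]
      intro c hc
      replace hc : ∑ i, c i • (Fin.cons lx (Fin.cons ly fun j => (br j : Fin (m + 2) → K)) :
          Fin (m + 2) → Fin (m + 2) → K) i = 0 := hc
      rw [Fin.sum_univ_succ, Fin.sum_univ_succ] at hc
      simp only [Fin.cons_zero, Fin.cons_succ] at hc
      have hker' : ∀ j, L (br j : Fin (m + 2) → K) = 0 := fun j => (br j).2
      have := congrArg L hc
      rw [map_add, map_add, map_sum, map_zero] at this
      simp only [map_smul, hker', smul_zero, Finset.sum_const_zero, add_zero] at this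
      rw [← map_smul, ← map_smul, ← map_add] at this
      obtain ⟨e0, e1⟩ := hindep _ _ this
      rw [e0, e1, zero_smul, zero_smul, zero_add, zero_add] at hc
      have hb := Fintype.linearIndependent_iff.1
        (br.linearIndependent.map' (LinearMap.ker L).subtype (Submodule.ker_subtype _))
        (fun j => c j.succ.succ) hc
      intro i
      refine Fin.cases e0 (fun i => ?_) i
      exact Fin.cases e1 hb i
    exact ((Matrix.isUnit_iff_isUnit_det _).1 (Matrix.linearIndependent_rows_iff_isUnit.1 hli)).ne_zero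
  have hu : IsUnit (cK Δ) := (isUnit_iff_ne_zero.2 hΔ).map cK
  have hzero : ∀ l : Fin (m + 2) → K,
      Matrix.det (Matrix.of (Fin.cons l (Fin.cons l fun j => (br j : Fin (m + 2) → K)) : Fin (m + 2) → _)) = 0 := by
    intro l
    exact Matrix.det_zero_of_row_eq (i := 0) (j := Fin.succ 0) (Fin.succ_ne_zero 0).symm (by ext c; rfl)
  have hy𝔞 : Φ py ∈ 𝔞 := by
    have := hcoord ly
    rw [hzero, map_zero, mul_zero, add_zero, ← hΔdef, mul_comm] at this
    exact (Ideal.unit_mul_mem_iff_mem _ hu).1 this
  have hx𝔞 : Φ px ∈ 𝔞 := by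
    have := hcoord lx
    have hsw : Matrix.det (Matrix.of (Fin.cons ly (Fin.cons lx fun j => (br j : Fin (m + 2) → K)) :
        Fin (m + 2) → _)) = -Δ := by
      rw [hΔdef]
      refine Eq.trans ?_ (Matrix.detRowAlternating.map_swap
        (Fin.cons lx (Fin.cons ly fun j => (br j : Fin (m + 2) → K)) : Fin (m + 2) → _) (i := 0) (j := Fin.succ 0)
        (Fin.succ_ne_zero 0).symm)
      show Matrix.detRowAlternating _ = _
      congr 1
      funext i
      refine Fin.cases ?_ (fun i => ?_) i
      · rw [Function.comp_apply, Equiv.swap_apply_left]; rfl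
      refine Fin.cases ?_ (fun i => ?_) i
      · rw [Function.comp_apply, Equiv.swap_apply_right]; rfl
      · rw [Function.comp_apply, Equiv.swap_apply_of_ne_of_ne (Fin.succ_ne_zero _)
          (fun h => Fin.succ_ne_zero _ (Fin.succ_inj.1 h))]
        rfl
    rw [hzero, map_zero, mul_zero, zero_add, hsw, map_neg, mul_neg, neg_mem_iff, mul_comm] at this
    exact (Ideal.unit_mul_mem_iff_mem _ hu).1 this
  refine hspan.ge.trans (sup_le ?_ le_sup_right)
  rw [Ideal.span_le]
  rintro z (rfl | rfl) <;> assumption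

end

end Groth.Agent.NodeFam
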