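import Groth.Agent.NodeFam.NodeMorse
import Mathlib.RingTheory.RingHom.Etale
import Mathlib.Algebra.Category.Ring.Constructions
import Mathlib.CategoryTheory.Limits.Shapes.Pullback.IsPullback.Defs

/-!
# Around a node the family is étale equivalent to the standard node
-/

set_option autoImplicit false
set_option linter.style.haveILetI false

universe u

open scoped TensorProduct
open CategoryTheory CategoryTheory.Limits

namespace Groth.Agent.NodeFam

noncomputable section

/-- Étale maps pass to quotients. -/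
theorem etale_quotient_map_ideal {P E : Type u} [CommRing P] [CommRing E] [Algebra P E] [Algebra.Etale P E]
    (p : Ideal P) :
    Algebra.Etale (P ⧸ p) (E ⧸ p.map (algebraMap P E)) :=
  Algebra.Etale.of_equiv (Algebra.TensorProduct.quotIdealMapEquivQuotTensor E p).symm

/-- A map of quotients of an étale map is étale. -/
theorem etale_of_quotient {P E N G : Type u} [CommRing P] [CommRing E] [CommRing N] [CommRing G] (f : P →+* E)
    (hf : f.Etale) (p : P →+* N) (hp : Function.Surjective p) (qE : E →+* G) (hqE : Function.Surjective qE)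
    (ψ : N →+* G) (hcomm : qE.comp f = ψ.comp p) (hker : RingHom.ker qE = (RingHom.ker p).map f) : ψ.Etale := by
  letI := f.toAlgebra
  haveI : Algebra.Etale P E := hf
  let e1 := RingHom.quotientKerEquivOfSurjective hp
  let e2 := (Ideal.quotEquivOfEq hker).symm.trans (RingHom.quotientKerEquivOfSurjective hqE)
  have het : (algebraMap (P ⧸ RingHom.ker p) (E ⧸ (RingHom.ker p).map (algebraMap P E))).Etale :=
    RingHom.etale_algebraMap.2 (etale_quotient_map_ideal (RingHom.ker p))
  have h : ψ = e2.toRingHom.comp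
      ((algebraMap (P ⧸ RingHom.ker p) (E ⧸ (RingHom.ker p).map (algebraMap P E))).comp e1.symm.toRingHom) := by
    refine RingHom.ext fun n => ?_
    obtain ⟨b, rfl⟩ := hp n
    have e : e1.symm (p b) = Ideal.Quotient.mk _ b := by
      rw [RingEquiv.symm_apply_eq]; rfl
    simp only [RingHom.comp_apply, RingEquiv.toRingHom_eq_coe, RingHom.coe_coe, e]
    exact (congrArg (fun F : P →+* G => F b) hcomm).symm
  rw [h]
  exact RingHom.Etale.respectsIso.1 _ _ (RingHom.Etale.respectsIso.2 _ _ het)

/-- Ring maps out of the lifted integers agree. -/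
theorem uliftInt_hom_ext {T : Type u} [CommRing T] (f g : ULift.{u} ℤ →+* T) : f = g := by
  have h : f.comp (ULift.ringEquiv.{0, u} (R := ℤ)).symm.toRingHom = g.comp (ULift.ringEquiv.{0, u} (R := ℤ)).symm.toRingHom :=
    RingHom.ext_int _ _
  exact RingHom.ext fun x => RingHom.congr_fun h x.down

/-- The standard node over a ring. -/
abbrev nodeRing {R' : Type u} [CommRing R'] (a : R') : Type u :=
  MvPolynomial (Fin 2) R' ⧸ Ideal.span {(MvPolynomial.X 0 * MvPolynomial.X 1 - MvPolynomial.C a : MvPolynomial (Fin 2) R')}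

/-- The universal node. -/
abbrev UnivNode : Type u :=
  MvPolynomial (Fin 3) (ULift.{u} ℤ) ⧸
    Ideal.span {(MvPolynomial.X 0 * MvPolynomial.X 1 - MvPolynomial.X 2 : MvPolynomial (Fin 3) (ULift.{u} ℤ))}

set_option backward.isDefEq.respectTransparency false in
set_option backward.isDefEq.respectTransparency.types false in
/-- The standard node is a base change of the universal one. -/
theorem exists_isPushout_node {R' : Type u} [CommRing R'] (a : R') :
    ∃ (φ : MvPolynomial (Fin 1) (ULift.{u} ℤ) →+* R') (ρ : UnivNode.{u} →+* nodeRing a),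
      IsPushout (CommRingCat.ofHom ((Ideal.Quotient.mk
          (Ideal.span {(MvPolynomial.X 0 * MvPolynomial.X 1 - MvPolynomial.X 2 : MvPolynomial (Fin 3) (ULift.{u} ℤ))})).comp
            (MvPolynomial.aeval (fun _ : Fin 1 => (MvPolynomial.X 2 : MvPolynomial (Fin 3) (ULift.{u} ℤ)))).toRingHom))
        (CommRingCat.ofHom φ) (CommRingCat.ofHom (R := UnivNode.{u}) (S := nodeRing a) ρ)
        (CommRingCat.ofHom (R := R') (S := nodeRing a) (algebraMap R' (nodeRing a))) := by
  let c : ULift.{u} ℤ →+* R' := (Int.castRingHom R').comp (ULift.ringEquiv.{0, u} (R := ℤ)).toRingHom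
  let φ : MvPolynomial (Fin 1) (ULift.{u} ℤ) →+* R' := MvPolynomial.eval₂Hom c fun _ => a
  let mk := Ideal.Quotient.mk
    (Ideal.span {(MvPolynomial.X 0 * MvPolynomial.X 1 - MvPolynomial.C a : MvPolynomial (Fin 2) R')})
  let mkU := Ideal.Quotient.mk
    (Ideal.span {(MvPolynomial.X 0 * MvPolynomial.X 1 - MvPolynomial.X 2 : MvPolynomial (Fin 3) (ULift.{u} ℤ))})
  let ρ₀ : MvPolynomial (Fin 3) (ULift.{u} ℤ) →+* nodeRing a :=
    MvPolynomial.eval₂Hom ((algebraMap R' (nodeRing a)).comp c)
      ![mk (MvPolynomial.X 0), mk (MvPolynomial.X 1), algebraMap R' (nodeRing a) a]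
  have hρ₀ : ρ₀ (MvPolynomial.X 0 * MvPolynomial.X 1 - MvPolynomial.X 2) = 0 := by
    simp only [ρ₀, map_sub, map_mul, MvPolynomial.eval₂Hom_X']
    show mk (MvPolynomial.X 0) * mk (MvPolynomial.X 1) - mk (MvPolynomial.C a) = 0
    rw [← map_mul, ← map_sub]
    exact Ideal.Quotient.eq_zero_iff_mem.2 (Ideal.mem_span_singleton_self _)
  let ρ : UnivNode.{u} →+* nodeRing a := Ideal.Quotient.lift _ ρ₀ (fun z hz => by
    obtain ⟨w, rfl⟩ := Ideal.mem_span_singleton'.1 hz
    rw [map_mul, hρ₀, mul_zero])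
  have hρX : ∀ i, ρ (mkU (MvPolynomial.X i)) =
      ![mk (MvPolynomial.X 0), mk (MvPolynomial.X 1), algebraMap R' (nodeRing a) a] i :=
    fun i => MvPolynomial.eval₂Hom_X' _ _ i
  have w : ρ.comp (mkU.comp (MvPolynomial.aeval
      (fun _ : Fin 1 => (MvPolynomial.X 2 : MvPolynomial (Fin 3) (ULift.{u} ℤ)))).toRingHom) =
        (algebraMap R' (nodeRing a)).comp φ := by
    refine MvPolynomial.ringHom_ext (fun z => RingHom.congr_fun (uliftInt_hom_ext
      ((ρ.comp (mkU.comp (MvPolynomial.aeval
        (fun _ : Fin 1 => (MvPolynomial.X 2 : MvPolynomial (Fin 3) (ULift.{u} ℤ)))).toRingHom)).comp MvPolynomial.C)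
      (((algebraMap R' (nodeRing a)).comp φ).comp MvPolynomial.C)) z) fun i => ?_
    show ρ (mkU (MvPolynomial.aeval _ (MvPolynomial.X i))) = algebraMap R' (nodeRing a) (φ (MvPolynomial.X i))
    rw [MvPolynomial.aeval_X, hρX]
    simp [φ]
  refine ⟨φ, ρ, IsPushout.of_isColimit (c := PushoutCocone.mk (CommRingCat.ofHom ρ)
    (CommRingCat.ofHom (algebraMap R' (nodeRing a))) (CommRingCat.hom_ext w)) (PushoutCocone.IsColimit.mk _
      (fun s => CommRingCat.ofHom (Ideal.Quotient.lift _
        (MvPolynomial.eval₂Hom s.inr.hom ![s.inl.hom (mkU (MvPolynomial.X 0)), s.inl.hom (mkU (MvPolynomial.X 1))])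
        (fun z hz => ?_))) (fun s => ?_) (fun s => ?_) fun s m h1 h2 => ?_)⟩
  · obtain ⟨v, rfl⟩ := Ideal.mem_span_singleton'.1 hz
    have hs : s.inl.hom (mkU (MvPolynomial.X 2)) = s.inr.hom a := by
      have := congrArg (fun F => F.hom (MvPolynomial.X 0)) s.condition
      simpa [φ] using this
    rw [map_mul, map_sub, map_mul]
    simp only [MvPolynomial.eval₂Hom_X', MvPolynomial.eval₂Hom_C, Matrix.cons_val_zero, Matrix.cons_val_one]
    have h0 : mkU (MvPolynomial.X 0) * mkU (MvPolynomial.X 1) = mkU (MvPolynomial.X 2) :=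
      (map_mul mkU _ _).symm.trans (Ideal.Quotient.eq.2 (Ideal.mem_span_singleton_self _))
    rw [← map_mul, h0, hs, sub_self, mul_zero]
  · refine CommRingCat.hom_ext (Ideal.Quotient.ringHom_ext (MvPolynomial.ringHom_ext (fun z => ?_) fun i => ?_))
    · have key : ∀ F G : UnivNode.{u} →+* (s.pt : Type u), F (mkU (MvPolynomial.C z)) = G (mkU (MvPolynomial.C z)) :=
        fun F G => RingHom.congr_fun (uliftInt_hom_ext (F.comp (mkU.comp MvPolynomial.C))
          (G.comp (mkU.comp MvPolynomial.C))) z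
      simp only [RingHom.comp_apply]
      refine (key _ (CommRingCat.Hom.hom s.inl) :)
    · simp only [RingHom.comp_apply, CommRingCat.hom_comp, CommRingCat.hom_ofHom]
      show _ = s.inl.hom (mkU (MvPolynomial.X i))
      erw [hρX]
      fin_cases i
      · exact MvPolynomial.eval₂Hom_X' _ _ 0
      · exact MvPolynomial.eval₂Hom_X' _ _ 1
      · refine (MvPolynomial.eval₂Hom_C _ _ a).trans ?_
        have := congrArg (fun F => F.hom (MvPolynomial.X 0)) s.condition
        simpa [φ] using this.symm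
  · refine CommRingCat.hom_ext (RingHom.ext fun z => ?_)
    exact MvPolynomial.eval₂Hom_C _ _ z
  · refine CommRingCat.hom_ext (Ideal.Quotient.ringHom_ext (MvPolynomial.ringHom_ext (fun z => ?_) fun i => ?_))
    · exact (congrArg (fun F => F.hom z) h2).trans (MvPolynomial.eval₂Hom_C _ _ z).symm
    · refine Eq.trans ?_ (MvPolynomial.eval₂Hom_X' _ _ i).symm
      fin_cases i
      · exact (congrArg (fun t => m.hom t) (hρX 0).symm).trans (congrArg (fun F => F.hom (mkU (MvPolynomial.X 0))) h1)
      · exact (congrArg (fun t => m.hom t) (hρX 1).symm).trans (congrArg (fun F => F.hom (mkU (MvPolynomial.X 1))) h1)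

/-- Around a geometric node the algebra is étale equivalent to a standard node. -/
theorem exists_nodeModel {R A K : Type u} [CommRing R] [CommRing A] [Algebra R A] [Algebra.FinitePresentation R A]
    [Module.Flat R A] [Field K] [Algebra R K] [IsAlgClosed K] (θA : A →ₐ[R] K)
    (hnode : NodeCrit K (RingHom.ker (pointExt θA))) :
    ∃ (R' G : Type u) (_ : CommRing R') (_ : CommRing G) (jR : R →+* R') (a : R') (jA : A →+* G)
      (ψ : nodeRing a →+* G) (θG : G →+* K),
      jR.Etale ∧ jA.Etale ∧ ψ.Etale ∧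
      (ψ.comp (algebraMap R' (nodeRing a))).comp jR = jA.comp (algebraMap R A) ∧
      θG.comp jA = θA.toRingHom := by
  obtain ⟨D⟩ := exists_planeCover θA hnode
  haveI : Algebra.FinitePresentation A (Localization.Away D.d) := IsLocalization.Away.finitePresentation D.d
  haveI : Algebra.FinitePresentation R (Localization.Away D.d) := Algebra.FinitePresentation.trans R A _
  haveI : Module.Flat A (Localization.Away D.d) := IsLocalization.flat _ (Submonoid.powers D.d)
  haveI : Module.Flat R (Localization.Away D.d) := Module.Flat.trans R A (Localization.Away D.d)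
  obtain ⟨θ0, hθ0⟩ := exists_liftPoint (A' := Localization.Away D.d) D.d θA (isUnit_iff_ne_zero.2 D.hd)
  have hnode0 : NodeCrit K (RingHom.ker (pointExt θ0)) := by rw [← nodeCrit_away_iff D.d θ0, hθ0]; exact hnode
  obtain ⟨h0, σ, hh, hσ, hker⟩ := exists_equation D.q D.hq D.hker θ0 hnode0
  obtain ⟨q', hq', hker', hcomp⟩ :=
    exists_cut_away D.q D.hq σ hh (fun z hz => ⟨1, by rw [pow_one]; exact hker z hz⟩)
  let B1 := Localization.Away σ
  let A1 := Localization.Away (D.q σ)
  haveI : Algebra.Etale D.B B1 := Algebra.Etale.of_isLocalizationAway σ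
  haveI : IsScalarTower R (MvPolynomial (Fin 2) R) B1 :=
    IsScalarTower.of_algebraMap_eq fun r =>
      (IsScalarTower.algebraMap_apply R D.B B1 r).trans
        ((congrArg _ (IsScalarTower.algebraMap_apply R (MvPolynomial (Fin 2) R) D.B r)).trans
          (IsScalarTower.algebraMap_apply (MvPolynomial (Fin 2) R) D.B B1 _).symm)
  haveI : Algebra.FormallyEtale (MvPolynomial (Fin 2) R) B1 := Algebra.FormallyEtale.comp _ D.B _
  haveI : Algebra.FinitePresentation R B1 := Algebra.FinitePresentation.trans R D.B B1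
  obtain ⟨δ, hc⟩ := exists_coord_of_etale (R := R) (B := B1)
  set h := algebraMap D.B B1 h0 with hh'
  obtain ⟨θ1, hθ1⟩ := exists_liftPoint (A' := A1) (D.q σ) θ0 (isUnit_iff_ne_zero.2 hσ)
  have hnode1 : NodeCrit K (RingHom.ker (pointExt θ1)) := by
    rw [← nodeCrit_away_iff (D.q σ) θ1, hθ1]; exact hnode0
  have hH := hessian_ne_zero q' hq' hker' hc.dual θ1 hnode1
  have h1 : ∀ i, θ1 (q' (δ i h)) = 0 := by
    intro i
    obtain ⟨ψ, hψ, hcc⟩ := exists_taylor (θ1.comp q')
    have h2 : ψ h ∈ PSLib.vars 2 K ^ 2 :=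
      (exists_series_of_node q' hq' θ1 hnode1 hψ hcc).1
        (Ideal.mem_map_of_mem ψ (hker'.ge (Ideal.mem_span_singleton_self h)))
    show θ1.comp q' (δ i h) = 0
    rw [← hcc, pderiv_taylor hc.dual hψ, ← MvPowerSeries.coeff_zero_eq_constantCoeff_apply, MvPowerSeries.coeff_pderiv]
    rw [PSLib.mem_pow_iff] at h2
    rw [h2 _ (by simp)]
    simp
  obtain ⟨M⟩ := exists_morse hc h (θ1.comp q') h1 hH
  -- the rings
  let I := Ideal.span {algebraMap B1 M.E h}
  let qE := Ideal.Quotient.mk I
  have hI : I = Ideal.span {M.u 0 * M.u 1 - algebraMap M.R' M.E M.a} := M.hspan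
  let ψ : nodeRing M.a →+* M.E ⧸ I := Ideal.quotientMap I (MvPolynomial.aeval (R := M.R') M.u).toRingHom (by
    rw [Ideal.span_le, Set.singleton_subset_iff]
    show MvPolynomial.aeval (R := M.R') M.u (MvPolynomial.X 0 * MvPolynomial.X 1 - MvPolynomial.C M.a) ∈ I
    rw [hI]
    simp only [map_sub, map_mul, MvPolynomial.aeval_X, MvPolynomial.aeval_C]
    exact Ideal.mem_span_singleton_self _)
  have hψ : ψ.Etale := etale_of_quotient _ M.etaleu (Ideal.Quotient.mk _) Ideal.Quotient.mk_surjective qE
    Ideal.Quotient.mk_surjective ψ rfl (by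
      rw [Ideal.mk_ker, Ideal.mk_ker, Ideal.map_span, Set.image_singleton, hI]
      simp)
  let qB : B1 →+* M.E ⧸ I := qE.comp (algebraMap B1 M.E)
  have hqB : ∀ b ∈ RingHom.ker q', qB b = 0 := by
    intro b hb
    obtain ⟨w, rfl⟩ := Ideal.mem_span_singleton'.1 (hker'.le hb)
    refine Ideal.Quotient.eq_zero_iff_mem.2 ?_
    rw [map_mul]
    exact Ideal.mul_mem_left _ _ (Ideal.mem_span_singleton_self _)
  let j1 : A1 →+* M.E ⧸ I := (RingHom.liftOfSurjective q'.toRingHom hq') ⟨qB, hqB⟩
  have hj1 : j1.comp q'.toRingHom = qB := RingHom.liftOfRightInverse_comp _ _ _ _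
  have hj1et : j1.Etale := etale_of_quotient (algebraMap B1 M.E) (RingHom.etale_algebraMap.2 M.etaleBE)
    q'.toRingHom hq' qE Ideal.Quotient.mk_surjective j1 hj1.symm (by
      rw [Ideal.mk_ker, show RingHom.ker q'.toRingHom = Ideal.span {h} from hker', Ideal.map_span,
        Set.image_singleton])
  have hIθ : I ≤ RingHom.ker M.θE := by
    rw [Ideal.span_le, Set.singleton_subset_iff]
    show M.θE (algebraMap B1 M.E h) = 0
    rw [M.hθ]
    show θ1 (q' h) = 0
    rw [show q' h = 0 from hker'.ge (Ideal.mem_span_singleton_self h), map_zero]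
  let θG : M.E ⧸ I →+* K := Ideal.Quotient.lift I M.θE.toRingHom fun z hz => hIθ hz
  haveI : Algebra.Etale A (Localization.Away D.d) := Algebra.Etale.of_isLocalizationAway D.d
  haveI : Algebra.Etale (Localization.Away D.d) A1 := Algebra.Etale.of_isLocalizationAway (D.q σ)
  haveI : Algebra.Etale A A1 := Algebra.Etale.comp A (Localization.Away D.d) A1
  refine ⟨M.R', M.E ⧸ I, inferInstance, inferInstance, algebraMap R M.R', M.a, j1.comp (algebraMap A A1), ψ, θG,
    RingHom.etale_algebraMap.2 M.etaleR',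
    RingHom.Etale.stableUnderComposition _ _ (RingHom.etale_algebraMap.2 inferInstance) hj1et, hψ,
    RingHom.ext fun r => ?_, ?_⟩
  · show qE (MvPolynomial.aeval (R := M.R') M.u (MvPolynomial.C (algebraMap R M.R' r))) =
      j1 (algebraMap A A1 (algebraMap R A r))
    rw [MvPolynomial.aeval_C, ← IsScalarTower.algebraMap_apply R A A1, ← q'.commutes r,
      ← IsScalarTower.algebraMap_apply R M.R' M.E]
    refine Eq.trans ?_ (RingHom.congr_fun hj1 _).symm
    show _ = qE (algebraMap B1 M.E (algebraMap R B1 r))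
    rw [← IsScalarTower.algebraMap_apply R B1 M.E]
  · refine RingHom.ext fun b => ?_
    show θG (j1 (algebraMap A A1 b)) = θA b
    obtain ⟨z, hz⟩ := hq' (algebraMap A A1 b)
    rw [← hz, show j1 (q' z) = qB z from RingHom.congr_fun hj1 z]
    show M.θE (algebraMap B1 M.E z) = θA b
    rw [M.hθ]
    show θ1 (q' z) = θA b
    rw [hz, IsScalarTower.algebraMap_apply A (Localization.Away D.d) A1]
    exact (AlgHom.congr_fun hθ1 _).trans (AlgHom.congr_fun hθ0 b)

end

end Groth.Agent.NodeFam
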