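import Groth.Agent.NodeFam.NodePullback
import Groth.Agent.NodeFam.NodeModel
import Mathlib.RingTheory.AdjoinRoot
import Mathlib.Algebra.MvPolynomial.Equiv

/-!
# The line and the standard node are nodal families
-/

set_option autoImplicit false
set_option backward.isDefEq.respectTransparency false
set_option backward.isDefEq.respectTransparency.types false
set_option linter.style.haveILetI false

universe u

open CategoryTheory CategoryTheory.Limits AlgebraicGeometry
open scoped TensorProduct

namespace Groth.Agent.NodeFam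

noncomputable section

section General

variable {C S : Scheme.{u}} (π : C ⟶ S) [Flat π] [LocallyOfFinitePresentation π]

/-- A flat family, near every point a smooth curve or with a node of the fibre there, is nodal. -/
theorem isNodalFamily_of_smooth_or_node
    (h : ∀ x : C, (∃ (Y : Scheme.{u}) (g : Y ⟶ C), IsOpenImmersion g ∧ x ∈ Set.range g ∧
      SmoothOfRelativeDimension 1 (g ≫ π)) ∨ FibreNode π x) :
    Curv2.IsNodalFamily π := by
  refine (isNodalFamily_iff_forall π).2 fun x => ⟨?_, (dimOne_asFiber_iff π x).2 fun z _ _ hzmax => ?_⟩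
  · refine (fibre_smooth_or_node_iff π x).2 ((h x).imp ?_ id)
    rintro ⟨Y, g, hg, ⟨y, rfl⟩, hsm⟩
    haveI := hg; haveI := hsm
    haveI : Smooth (g ≫ π) := SmoothOfRelativeDimension.smooth 1 _
    have h1 : y ∈ (g ≫ π).smoothLocus := by rw [Scheme.Hom.smoothLocus_eq_top (g ≫ π)]; trivial
    rw [← Scheme.Hom.preimage_smoothLocus_eq] at h1
    exact h1
  · rcases h z with ⟨Y, g, hg, hzg, hsm⟩ | hzn
    · haveI := hg; haveI := hsm
      exact rd_eq_relDim π g hzg hzmax
    · refine absurd ?_ (not_maximal_of_nodeVia (k := S.residueField (π z)) _ hzn)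
      exact (FibDim.fibMax_fiberι_iff π (π.asFiber z)).1 (by rw [π.fiberι_asFiber]; exact hzmax)

end General

section Affine

variable {A N : Type u} [CommRing A] [CommRing N] [Algebra A N]

/-- A point with no residue extension and a node at its geometric points is a node of its fibre. -/
theorem fibreNode_spec [Algebra.FiniteType A N] (x : ↥(Spec (CommRingCat.of N)))
    (hgen : ∀ b : N, ∃ a : A, b - algebraMap A N a ∈ x.asIdeal)
    (hcrit : ∀ (L : Type u) [Field L] [IsAlgClosed L] [Algebra A L] (θ : N →ₐ[A] L),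
      RingHom.ker θ = x.asIdeal → NodeCrit L (RingHom.ker (pointExt θ))) :
    FibreNode (Spec.map (CommRingCat.ofHom (algebraMap A N))) x := by
  haveI : LocallyOfFiniteType (Spec.map (CommRingCat.ofHom (algebraMap A N))) := by
    rw [HasRingHomProperty.Spec_iff (P := @LocallyOfFiniteType)]
    exact RingHom.finiteType_algebraMap.2 inferInstance
  let π := Spec.map (CommRingCat.ofHom (algebraMap A N))
  let κ := (Spec (CommRingCat.of A)).residueField (π x)
  let ψ : CommRingCat.of A ⟶ κ := Spec.preimage ((Spec (CommRingCat.of A)).fromSpecResidueField (π x))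
  letI : Algebra A κ := ψ.hom.toAlgebra
  have hψ : Spec.map (CommRingCat.ofHom (algebraMap A κ)) = (Spec (CommRingCat.of A)).fromSpecResidueField (π x) :=
    Spec.map_preimage _
  let incl : N →ₐ[A] κ ⊗[A] N := Algebra.TensorProduct.includeRight
  have hpo : IsPullback (Spec.map (CommRingCat.ofHom incl.toRingHom))
      (Spec.map (CommRingCat.ofHom (algebraMap κ (κ ⊗[A] N)))) π
      ((Spec (CommRingCat.of A)).fromSpecResidueField (π x)) := by
    rw [← hψ]
    exact (isPullback_SpecMap_of_isPushout _ _ _ _ (CommRingCat.isPushout_tensorProduct A κ N)).flip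
  obtain ⟨e, he1, he2⟩ : ∃ e : Spec (CommRingCat.of (κ ⊗[A] N)) ≅ π.fiber (π x),
      e.hom ≫ π.fiberι (π x) = Spec.map (CommRingCat.ofHom incl.toRingHom) ∧
      e.hom ≫ π.fiberToSpecResidueField (π x) = Spec.map (CommRingCat.ofHom (algebraMap κ (κ ⊗[A] N))) :=
    ⟨hpo.isoPullback, hpo.isoPullback_hom_fst, hpo.isoPullback_hom_snd⟩
  obtain ⟨M, hM⟩ : ∃ M, e.hom M = π.asFiber x :=
    ⟨e.inv (π.asFiber x), by rw [← Scheme.Hom.comp_apply, e.inv_hom_id]; rfl⟩
  have hcomap : M.asIdeal.comap incl = x.asIdeal := by
    have h1 : Spec.map (CommRingCat.ofHom incl.toRingHom) M = x := by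
      rw [← he1, Scheme.Hom.comp_apply, hM, π.fiberι_asFiber]
    exact congrArg PrimeSpectrum.asIdeal h1
  unfold FibreNode
  rw [← hM, nodeVia_iff_of_etale (k := κ) (AlgebraicClosure κ) e.hom (π.fiberToSpecResidueField (π x)) _ he2 M,
    nodeVia_spec_iff]
  have hsurj : ∀ z : κ ⊗[A] N, ∃ c : κ, z - algebraMap κ (κ ⊗[A] N) c ∈ M.asIdeal := by
    intro z
    induction z using TensorProduct.induction_on with
    | zero => exact ⟨0, by simp⟩
    | tmul c b =>
      obtain ⟨a, ha⟩ := hgen b
      refine ⟨c * algebraMap A κ a, ?_⟩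
      have h1 : incl (b - algebraMap A N a) ∈ M.asIdeal := hcomap.ge ha
      have h2 := Ideal.mul_mem_left _ (algebraMap κ (κ ⊗[A] N) c) h1
      convert h2 using 1
      rw [map_sub incl, AlgHom.commutes, IsScalarTower.algebraMap_apply A κ (κ ⊗[A] N), mul_sub, ← map_mul]
      simp [incl, Algebra.TensorProduct.tmul_mul_tmul]
    | add z w hz hw =>
      obtain ⟨c, hc⟩ := hz
      obtain ⟨d, hd⟩ := hw
      exact ⟨c + d, by rw [map_add, add_sub_add_comm]; exact add_mem hc hd⟩
  refine ⟨?_, fun θ hθ => (nodeCrit_baseChange θ).2 (hcrit _ _ ?_)⟩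
  · refine Ideal.isMaximal_iff.2 ⟨(Ideal.ne_top_iff_one _).1 M.isPrime.ne_top, fun J z hle hzM hzJ => ?_⟩
    obtain ⟨c, hc⟩ := hsurj z
    have hc0 : c ≠ 0 := fun h0 => hzM (by simpa [h0] using hc)
    have h1 : algebraMap κ (κ ⊗[A] N) c ∈ J := by simpa using sub_mem hzJ (hle hc)
    exact (Ideal.eq_top_iff_one J).1 (Ideal.eq_top_of_isUnit_mem _ h1 ((IsUnit.mk0 c hc0).map _))
  · rw [← hcomap, ← hθ]
    exact Ideal.ext fun b => Iff.rfl

end Affine

section Line

theorem isStandardSmooth_mvPolynomial (R : Type u) [CommRing R] (ι : Type) [Finite ι] :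
    Algebra.IsStandardSmoothOfRelativeDimension (Nat.card ι) R (MvPolynomial ι R) := by
  classical
  have hid : MvPolynomial.aeval (R := R) (MvPolynomial.X : ι → MvPolynomial ι R) = AlgHom.id R _ :=
    MvPolynomial.algHom_ext fun i => MvPolynomial.aeval_X _ i
  let G : Algebra.Generators R (MvPolynomial ι R) ι :=
    Algebra.Generators.ofSurjective MvPolynomial.X fun x => ⟨x, by rw [hid]; rfl⟩
  let P : Algebra.Presentation R (MvPolynomial ι R) ι PEmpty.{1} :=
    { G with
      relation := PEmpty.elim
      span_range_relation_eq_ker := by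
        simp only [Set.range_eq_empty, Ideal.span_empty]
        symm
        rw [← RingHom.injective_iff_ker_eq_bot]
        show Function.Injective (MvPolynomial.aeval (R := R) (MvPolynomial.X : ι → MvPolynomial ι R))
        rw [hid]
        exact fun a b h => h }
  let Q : Algebra.PreSubmersivePresentation R (MvPolynomial ι R) ι PEmpty.{1} :=
    { P with map := PEmpty.elim, map_inj := fun a => a.elim }
  have hQ : IsUnit Q.jacobian := by
    cases nonempty_fintype PEmpty.{1}
    rw [Q.jacobian_eq_jacobiMatrix_det, Matrix.det_isEmpty, _root_.map_one]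
    exact isUnit_one
  exact Algebra.SubmersivePresentation.isStandardSmoothOfRelativeDimension
    ({ Q with jacobian_isUnit := hQ } : Algebra.SubmersivePresentation R (MvPolynomial ι R) ι PEmpty.{1})
    (by simp [Algebra.Presentation.dimension])

/-- Standard smooth algebras give smooth morphisms. -/
theorem smoothOfRelativeDimension_spec (n : ℕ) (A N : Type u) [CommRing A] [CommRing N] [Algebra A N]
    [Algebra.IsStandardSmoothOfRelativeDimension n A N] :
    SmoothOfRelativeDimension n (Spec.map (CommRingCat.ofHom (algebraMap A N))) := by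
  rw [HasRingHomProperty.Spec_iff (P := @SmoothOfRelativeDimension n)]
  exact RingHom.locally_of RingHom.isStandardSmoothOfRelativeDimension_respectsIso _
    ((RingHom.isStandardSmoothOfRelativeDimension_algebraMap n).2 inferInstance)

instance isStandardSmooth_polynomial (A : Type u) [CommRing A] :
    Algebra.IsStandardSmoothOfRelativeDimension 1 A (Polynomial A) := by
  haveI : Algebra.IsStandardSmoothOfRelativeDimension 1 A (MvPolynomial (Fin 1) A) := by
    simpa using isStandardSmooth_mvPolynomial A (Fin 1)
  exact Algebra.IsStandardSmoothOfRelativeDimension.of_algEquiv (R := A) (S := MvPolynomial (Fin 1) A) 1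
    (MvPolynomial.uniqueAlgEquiv A (Fin 1))

/-- The line is a nodal family. -/
theorem isNodalFamily_line (A : Type u) [CommRing A] :
    Curv2.IsNodalFamily (Spec.map (CommRingCat.ofHom (algebraMap A (Polynomial A)))) := by
  haveI := smoothOfRelativeDimension_spec 1 A (Polynomial A)
  haveI : Smooth (Spec.map (CommRingCat.ofHom (algebraMap A (Polynomial A)))) :=
    SmoothOfRelativeDimension.smooth 1 _
  haveI : LocallyOfFinitePresentation (Spec.map (CommRingCat.ofHom (algebraMap A (Polynomial A)))) := inferInstance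
  exact isNodalFamily_of_smooth_or_node _ fun x => Or.inl ⟨_, 𝟙 _, inferInstance, ⟨x, rfl⟩, by
    rw [Category.id_comp]; infer_instance⟩

end Line

section Node

variable {A : Type u} [CommRing A] (a : A)

theorem node_rel (j : Fin 2) :
    (Ideal.Quotient.mk _ (MvPolynomial.X j) : nodeRing a) * Ideal.Quotient.mk _ (MvPolynomial.X j.rev) =
      algebraMap A (nodeRing a) a := by
  have h : (Ideal.Quotient.mk _ (MvPolynomial.X 0) : nodeRing a) * Ideal.Quotient.mk _ (MvPolynomial.X 1) =
      algebraMap A (nodeRing a) a :=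
    (map_mul _ _ _).symm.trans (Ideal.Quotient.eq.2 (Ideal.mem_span_singleton_self _))
  fin_cases j
  · exact h
  · exact (mul_comm _ _).trans h

/-- The node is free. -/
theorem flat_node : Module.Flat A (nodeRing a) := by
  let f : Polynomial (Polynomial A) :=
    Polynomial.X ^ 2 + (Polynomial.C Polynomial.X * Polynomial.X - Polynomial.C (Polynomial.C a))
  have hf : f.Monic := by
    refine Polynomial.monic_X_pow_add ?_
    refine lt_of_le_of_lt (Polynomial.degree_sub_le _ _) (max_lt ?_ ?_)
    · exact lt_of_le_of_lt (Polynomial.degree_C_mul_X_le _) (by decide)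
    · exact lt_of_le_of_lt Polynomial.degree_C_le (by decide)
  haveI : Module.Free (Polynomial A) (AdjoinRoot f) := hf.free_adjoinRoot
  haveI : Module.Flat (Polynomial A) (AdjoinRoot f) := Module.Flat.of_free
  haveI : Module.Flat A (AdjoinRoot f) := Module.Flat.trans A (Polynomial A) (AdjoinRoot f)
  let P := MvPolynomial (Fin 2) A
  let r : AdjoinRoot f := AdjoinRoot.root f
  let t : AdjoinRoot f := AdjoinRoot.of f Polynomial.X
  have hr : r ^ 2 + (t * r - algebraMap A (AdjoinRoot f) a) = 0 := by
    have h := AdjoinRoot.eval₂_root f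
    simp only [f, Polynomial.eval₂_add, Polynomial.eval₂_sub, Polynomial.eval₂_pow, Polynomial.eval₂_X,
      Polynomial.eval₂_mul, Polynomial.eval₂_C] at h
    exact h
  let φ : nodeRing a →ₐ[A] AdjoinRoot f := Ideal.Quotient.liftₐ _ (MvPolynomial.aeval ![r + t, r]) fun z hz => by
    obtain ⟨w, rfl⟩ := Ideal.mem_span_singleton'.1 hz
    rw [map_mul, map_sub, map_mul, MvPolynomial.aeval_X, MvPolynomial.aeval_X, MvPolynomial.aeval_C]
    simp only [Matrix.cons_val_zero, Matrix.cons_val_one]
    rw [show (r + t) * r - algebraMap A (AdjoinRoot f) a = 0 by rw [← hr]; ring, mul_zero]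
  let U : nodeRing a := Ideal.Quotient.mk _ (MvPolynomial.X 0)
  let V : nodeRing a := Ideal.Quotient.mk _ (MvPolynomial.X 1)
  have hUV : U * V = algebraMap A (nodeRing a) a := node_rel a 0
  let ψ : AdjoinRoot f →ₐ[A] nodeRing a :=
    AdjoinRoot.liftAlgHom f (Polynomial.aeval (U - V)) V (by
      simp only [f, Polynomial.eval₂_add, Polynomial.eval₂_sub, Polynomial.eval₂_pow, Polynomial.eval₂_X,
        Polynomial.eval₂_mul, Polynomial.eval₂_C]
      show V ^ 2 + ((Polynomial.aeval (U - V)) Polynomial.X * V - (Polynomial.aeval (U - V)) (Polynomial.C a)) = 0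
      rw [Polynomial.aeval_X, Polynomial.aeval_C, ← hUV]
      ring)
  have hφX : ∀ i, φ (Ideal.Quotient.mk _ (MvPolynomial.X i)) = ![r + t, r] i := fun i => MvPolynomial.aeval_X _ i
  have hψr : ψ r = V := AdjoinRoot.liftAlgHom_root _ _ _ _
  have hψt : ψ t = U - V := (AdjoinRoot.liftAlgHom_of _ _ _ _ _).trans (Polynomial.aeval_X _)
  have h1 : ψ.comp φ = AlgHom.id A _ := Ideal.Quotient.algHom_ext _ (MvPolynomial.algHom_ext fun i => by
    show ψ (φ (Ideal.Quotient.mk _ (MvPolynomial.X i))) = Ideal.Quotient.mk _ (MvPolynomial.X i)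
    rw [hφX]
    fin_cases i
    · show ψ (r + t) = U
      rw [map_add, hψr, hψt]; ring
    · exact hψr)
  have hinj : Function.Injective φ := fun z w h => by
    rw [← AlgHom.id_apply (R := A) z, ← AlgHom.id_apply (R := A) w, ← h1, AlgHom.comp_apply, AlgHom.comp_apply, h]
  exact Module.Flat.of_retract φ.toLinearMap ψ.toLinearMap (LinearMap.ext fun z => AlgHom.congr_fun h1 z)

/-- An algebra generated by an invertible element is a punctured line. -/
theorem nonempty_punctured {A N Nu : Type u} [CommRing A] [CommRing N] [Algebra A N] [CommRing Nu]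
    [Algebra A Nu] [Algebra N Nu] [IsScalarTower A N Nu] (u v : N) (a : A) (huv : u * v = algebraMap A N a)
    [IsLocalization.Away u Nu]
    (hlift : ∀ {T : Type u} [CommRing T] [Algebra A T] (x y : T), x * y = algebraMap A T a →
      ∃ f : N →ₐ[A] T, f u = x ∧ f v = y)
    (hext : ∀ {T : Type u} [CommRing T] [Algebra A T] (f g : N →ₐ[A] T), f u = g u → f v = g v → f = g) :
    Nonempty (Localization.Away (Polynomial.X : Polynomial A) ≃ₐ[A] Nu) := by
  let L := Localization.Away (Polynomial.X : Polynomial A)
  let x : L := algebraMap (Polynomial A) L Polynomial.X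
  let x' : L := IsLocalization.Away.invSelf (Polynomial.X : Polynomial A)
  have hxx : x * x' = 1 := IsLocalization.Away.mul_invSelf _
  obtain ⟨φ, hφu, hφv⟩ := hlift x (algebraMap A L a * x') (by rw [mul_left_comm, hxx, mul_one])
  let φ' : Nu →ₐ[A] L := IsLocalization.liftAlgHom (M := Submonoid.powers u) (f := φ) (fun y => by
    obtain ⟨m, hm⟩ := y.2
    show IsUnit (φ y.1)
    rw [← hm, map_pow, hφu]
    exact (IsUnit.of_mul_eq_one _ hxx).pow m)
  have hφ' : ∀ b, φ' (algebraMap N Nu b) = φ b := fun b => IsLocalization.lift_eq _ b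
  let g : Polynomial A →ₐ[A] Nu := Polynomial.aeval (algebraMap N Nu u)
  let ψ : L →ₐ[A] Nu := IsLocalization.liftAlgHom (M := Submonoid.powers (Polynomial.X : Polynomial A)) (f := g)
    (fun y => by
      obtain ⟨m, hm⟩ := y.2
      show IsUnit (g y.1)
      rw [← hm, map_pow, Polynomial.aeval_X]
      exact (IsLocalization.Away.algebraMap_isUnit u).pow m)
  have hψx : ψ x = algebraMap N Nu u := (IsLocalization.lift_eq _ _).trans (Polynomial.aeval_X _)
  have h1 : φ'.comp ψ = AlgHom.id A L :=
    IsLocalization.algHom_ext (Submonoid.powers (Polynomial.X : Polynomial A)) (Polynomial.algHom_ext (by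
      show φ' (ψ x) = x
      rw [hψx, hφ', hφu]))
  have hψa : algebraMap A Nu a = algebraMap N Nu u * algebraMap N Nu v := by
    rw [← map_mul, huv, ← IsScalarTower.algebraMap_apply]
  have hinv : algebraMap N Nu u * ψ x' = 1 := by rw [← hψx, ← map_mul, hxx, map_one]
  have h2 : ψ.comp φ' = AlgHom.id A Nu := by
    refine IsLocalization.algHom_ext (Submonoid.powers u) (hext _ _ ?_ ?_)
    · show ψ (φ' (algebraMap N Nu u)) = algebraMap N Nu u
      rw [hφ', hφu, hψx]
    · show ψ (φ' (algebraMap N Nu v)) = algebraMap N Nu v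
      rw [hφ', hφv, map_mul, AlgHom.commutes, hψa, mul_right_comm, hinv, one_mul]
  exact ⟨AlgEquiv.ofAlgHom ψ φ' h2 h1⟩

/-- Off an axis the node is a punctured line. -/
theorem nonempty_node_away (i : Fin 2) :
    Nonempty (Localization.Away (Polynomial.X : Polynomial A) ≃ₐ[A]
      Localization.Away (Ideal.Quotient.mk _ (MvPolynomial.X i) : nodeRing a)) := by
  refine nonempty_punctured _ (Ideal.Quotient.mk _ (MvPolynomial.X i.rev)) a (node_rel a i)
    (fun {T} _ _ x y hxy => ?_) (fun {T} _ _ f g hu hv => ?_)
  · let w : Fin 2 → T := fun j => if j = i then x else y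
    have hw : w 0 * w 1 = algebraMap A T a := by
      fin_cases i <;> simp [w] <;> first | exact hxy | exact (mul_comm _ _).trans hxy
    refine ⟨Ideal.Quotient.liftₐ _ (MvPolynomial.aeval w) fun z hz => ?_, ?_, ?_⟩
    · obtain ⟨c, rfl⟩ := Ideal.mem_span_singleton'.1 hz
      rw [map_mul, map_sub, map_mul, MvPolynomial.aeval_X, MvPolynomial.aeval_X, MvPolynomial.aeval_C, hw, sub_self,
        mul_zero]
    · exact (MvPolynomial.aeval_X w i).trans (if_pos rfl)
    · exact (MvPolynomial.aeval_X w i.rev).trans (if_neg (by fin_cases i <;> decide))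
  · refine Ideal.Quotient.algHom_ext _ (MvPolynomial.algHom_ext fun j => ?_)
    have hj : j = i ∨ j = i.rev := by fin_cases i <;> fin_cases j <;> decide
    rcases hj with rfl | rfl
    · exact hu
    · exact hv

/-- Away from an axis the node is standard smooth. -/
theorem isStandardSmooth_node_away (i : Fin 2) :
    Algebra.IsStandardSmoothOfRelativeDimension 1 A
      (Localization.Away (Ideal.Quotient.mk _ (MvPolynomial.X i) : nodeRing a)) := by
  obtain ⟨e⟩ := nonempty_node_away a i
  haveI : Algebra.IsStandardSmoothOfRelativeDimension 0 (Polynomial A) (Localization.Away (Polynomial.X : Polynomial A)) :=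
    Algebra.IsStandardSmoothOfRelativeDimension.localization_away (Polynomial.X : Polynomial A)
  haveI : Algebra.IsStandardSmoothOfRelativeDimension 1 A (Localization.Away (Polynomial.X : Polynomial A)) :=
    Algebra.IsStandardSmoothOfRelativeDimension.trans 1 0 A (Polynomial A) _
  exact Algebra.IsStandardSmoothOfRelativeDimension.of_algEquiv 1 e

/-- The standard node is a nodal family. -/
theorem isNodalFamily_node :
    Curv2.IsNodalFamily (Spec.map (CommRingCat.ofHom (R := A) (S := nodeRing a) (algebraMap A (nodeRing a)))) := by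
  set π := Spec.map (CommRingCat.ofHom (R := A) (S := nodeRing a) (algebraMap A (nodeRing a))) with hπ
  haveI : Algebra.FinitePresentation A (nodeRing a) :=
    Algebra.FinitePresentation.quotient (Submodule.fg_span_singleton _)
  haveI : Flat π := by
    rw [hπ, HasRingHomProperty.Spec_iff (P := @Flat)]
    exact RingHom.flat_algebraMap_iff.2 (flat_node a)
  haveI : LocallyOfFinitePresentation π := by
    rw [hπ, HasRingHomProperty.Spec_iff (P := @LocallyOfFinitePresentation)]
    exact RingHom.finitePresentation_algebraMap.2 inferInstance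
  refine isNodalFamily_of_smooth_or_node π fun x => ?_
  by_cases h : ∃ i, (Ideal.Quotient.mk _ (MvPolynomial.X i) : nodeRing a) ∉ x.asIdeal
  · obtain ⟨i, hi⟩ := h
    let u : nodeRing a := Ideal.Quotient.mk _ (MvPolynomial.X i)
    let g := Spec.map (CommRingCat.ofHom (algebraMap (nodeRing a) (Localization.Away u)))
    haveI : IsOpenImmersion g := IsOpenImmersion.of_isLocalization u
    refine Or.inl ⟨_, g, inferInstance, ?_, ?_⟩
    · show x ∈ Set.range (PrimeSpectrum.comap (algebraMap (nodeRing a) (Localization.Away u)))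
      rw [PrimeSpectrum.localization_away_comap_range (Localization.Away u) u]
      exact hi
    · rw [hπ, ← Spec.map_comp, ← CommRingCat.ofHom_comp, ← IsScalarTower.algebraMap_eq]
      haveI := isStandardSmooth_node_away a i
      exact smoothOfRelativeDimension_spec 1 A _
  · refine Or.inr (fibreNode_spec x ?_ fun L _ _ _ θ hθ => ?_)
    · intro b
      obtain ⟨b, rfl⟩ := Ideal.Quotient.mk_surjective b
      induction b using MvPolynomial.induction_on with
      | C c => exact ⟨c, by rw [show (algebraMap A (nodeRing a) c) = Ideal.Quotient.mk _ (MvPolynomial.C c) from rfl, sub_self]; exact zero_mem _⟩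
      | add p q hp hq =>
        obtain ⟨c, hc⟩ := hp
        obtain ⟨d, hd⟩ := hq
        exact ⟨c + d, by rw [map_add, map_add, add_sub_add_comm]; exact add_mem hc hd⟩
      | mul_X p j _ =>
        refine ⟨0, ?_⟩
        rw [map_zero, sub_zero, map_mul]
        exact Ideal.mul_mem_left _ _ (not_not.1 fun hj => h ⟨j, hj⟩)
    · haveI : Algebra.FormallyEtale (MvPolynomial (Fin 2) A) (MvPolynomial (Fin 2) A) := inferInstance
      have hu : ∀ i, θ (Ideal.Quotient.mk _ (MvPolynomial.X i)) = 0 := fun i =>
        hθ.ge (not_not.1 fun hi => h ⟨i, hi⟩)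
      refine nodeCrit_cut (Ideal.Quotient.mkₐ A (Ideal.span
          {(MvPolynomial.X 0 * MvPolynomial.X 1 - MvPolynomial.C a : MvPolynomial (Fin 2) A)}))
        Ideal.Quotient.mk_surjective Ideal.mk_ker (δ := fun i => MvPolynomial.pderiv i) (fun i j => ?_) θ (fun i => ?_) ?_
      · show MvPolynomial.pderiv i (MvPolynomial.X j) = _
        rw [MvPolynomial.pderiv_X]
        simp [Pi.single_apply, eq_comm]
      · fin_cases i
        · simpa [MvPolynomial.pderiv_X, Pi.single_apply] using hu 1
        · simpa [MvPolynomial.pderiv_X, Pi.single_apply] using hu 0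
      · simp [hessian, MvPolynomial.pderiv_X, Pi.single_apply, map_sub, map_mul, map_pow]

end Node

end

end Groth.Agent.NodeFam
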