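import Groth.Agent.NodeFam.Structure
import Groth.Agent.NodeFam.EtaleTaylor

/-!
# Nodes of an affine fibre through geometric points
-/

set_option autoImplicit false
set_option backward.isDefEq.respectTransparency false
set_option backward.isDefEq.respectTransparency.types false
set_option linter.style.haveILetI false

universe u

open CategoryTheory CategoryTheory.Limits AlgebraicGeometry
open scoped TensorProduct

namespace Groth.Agent.NodeFam

noncomputable section

variable {k : Type u} [Field k]

theorem nodeCrit_iff_of_algEquiv {R S : Type u} [CommRing R] [CommRing S] [Algebra k R] [Algebra k S] {M : Ideal R}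
    {N : Ideal S} (φ : R ≃ₐ[k] S) (h : M.map φ.toAlgHom = N) : NodeCrit k M ↔ NodeCrit k N := by
  refine nodeCrit_iff φ.toAlgHom h.le (fun n z hz => ?_) fun n z => ?_
  · rw [← h, ← Ideal.map_pow, Ideal.mem_map_iff_of_surjective φ.toAlgHom φ.surjective] at hz
    obtain ⟨w, hw, he⟩ := hz
    rwa [← φ.injective he]
  · obtain ⟨w, rfl⟩ := φ.surjective z
    exact ⟨w, by simp⟩

/-- A geometric point of a base change. -/
theorem nodeCrit_baseChange {R A L : Type u} [CommRing R] [Algebra R k] [CommRing A] [Algebra R A] [Field L]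
    [Algebra k L] [Algebra R L] [IsScalarTower R k L] (θk : k ⊗[R] A →ₐ[k] L) :
    NodeCrit L (RingHom.ker (pointExt θk)) ↔
      NodeCrit L (RingHom.ker (pointExt ((θk.restrictScalars R).comp Algebra.TensorProduct.includeRight))) := by
  set θ := (θk.restrictScalars R).comp (Algebra.TensorProduct.includeRight : A →ₐ[R] k ⊗[R] A) with hθ
  let e := Algebra.TensorProduct.cancelBaseChange R k L L A
  have he : ∀ z, pointExt θ (e z) = pointExt θk z := by
    intro z
    induction z using TensorProduct.induction_on with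
    | zero => simp
    | tmul l w =>
      induction w using TensorProduct.induction_on with
      | zero => simp
      | tmul c a =>
        rw [Algebra.TensorProduct.cancelBaseChange_tmul, Algebra.TensorProduct.lift_tmul,
          Algebra.TensorProduct.lift_tmul]
        show (c • l) * θk ((1 : k) ⊗ₜ a) = l * θk (c ⊗ₜ a)
        rw [show c ⊗ₜ[R] a = c • ((1 : k) ⊗ₜ[R] a) by rw [TensorProduct.smul_tmul', smul_eq_mul, mul_one],
          map_smul, smul_mul_assoc, mul_smul_comm]
      | add w w' hw hw' => rw [TensorProduct.tmul_add, map_add, map_add, map_add, hw, hw']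
    | add z z' hz hz' => rw [map_add, map_add, map_add, hz, hz']
  refine nodeCrit_iff_of_algEquiv e (le_antisymm (Ideal.map_le_iff_le_comap.2 fun z hz => ?_) fun z hz => ?_)
  · show pointExt θ (e z) = 0
    rw [he]; exact hz
  · obtain ⟨w, rfl⟩ := e.surjective z
    exact Ideal.mem_map_of_mem e.toAlgHom (show pointExt θk w = 0 by rw [← he]; exact hz)

variable {A : Type u} [CommRing A] [Algebra k A] [Algebra.FiniteType k A]

/-- A maximal ideal has a point over the algebraic closure. -/
theorem exists_point_of_isMaximal (N : Ideal A) [N.IsMaximal] :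
    ∃ θ : A →ₐ[k] AlgebraicClosure k, RingHom.ker θ = N := by
  letI : Field (A ⧸ N) := Ideal.Quotient.field N
  haveI : Module.Finite k (A ⧸ N) := finite_of_finite_type_of_isJacobsonRing k (A ⧸ N)
  let i : A ⧸ N →ₐ[k] AlgebraicClosure k := IsAlgClosed.lift
  refine ⟨i.comp (Ideal.Quotient.mkₐ k N), Ideal.ext fun a => ?_⟩
  show i (Ideal.Quotient.mk N a) = 0 ↔ a ∈ N
  rw [map_eq_zero, Ideal.Quotient.eq_zero_iff_mem]

/-- Nodes of an affine curve through geometric points. -/
theorem nodeVia_spec_iff (N : ↥(Spec (CommRingCat.of A))) :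
    NodeVia (AlgebraicClosure k) (Spec.map (CommRingCat.ofHom (algebraMap k A))) N ↔
      N.asIdeal.IsMaximal ∧ ∀ θ : A →ₐ[k] AlgebraicClosure k, RingHom.ker θ = N.asIdeal →
        NodeCrit (AlgebraicClosure k) (RingHom.ker (pointExt θ)) := by
  haveI : LocallyOfFiniteType (Spec.map (CommRingCat.ofHom (algebraMap k A))) := by
    rw [HasRingHomProperty.Spec_iff (P := @LocallyOfFiniteType)]
    exact RingHom.finiteType_algebraMap.2 inferInstance
  have hpo : IsPullback (Spec.map (CommRingCat.ofHom
        (Algebra.TensorProduct.includeRight : A →ₐ[k] AlgebraicClosure k ⊗[k] A).toRingHom))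
      (Spec.map (CommRingCat.ofHom (algebraMap (AlgebraicClosure k) (AlgebraicClosure k ⊗[k] A))))
      (Spec.map (CommRingCat.ofHom (algebraMap k A))) (extMap k (AlgebraicClosure k)) :=
    (isPullback_SpecMap_of_isPushout _ _ _ _
      (CommRingCat.isPushout_tensorProduct k (AlgebraicClosure k) A)).flip
  haveI : LocallyOfFiniteType (Spec.map (CommRingCat.ofHom
      (algebraMap (AlgebraicClosure k) (AlgebraicClosure k ⊗[k] A)))) := by
    rw [← hpo.isoPullback_hom_snd]; infer_instance
  have hmax : ∀ θ : A →ₐ[k] AlgebraicClosure k, (RingHom.ker (pointExt θ)).IsMaximal := fun θ =>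
    RingHom.ker_isMaximal_of_surjective (pointExt θ) fun l => ⟨l ⊗ₜ 1, by simp⟩
  have key : ∀ (θ : A →ₐ[k] AlgebraicClosure k), RingHom.ker θ = N.asIdeal →
      ∃ z, pullback.fst (Spec.map (CommRingCat.ofHom (algebraMap k A))) (extMap k (AlgebraicClosure k)) z = N ∧
        (ODPAt (AlgebraicClosure k) (pullback.snd (Spec.map (CommRingCat.ofHom (algebraMap k A)))
            (extMap k (AlgebraicClosure k))) z ↔ NodeCrit (AlgebraicClosure k) (RingHom.ker (pointExt θ))) := by
    intro θ hθ
    haveI := hmax θ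
    let M : ↥(Spec (CommRingCat.of (AlgebraicClosure k ⊗[k] A))) := ⟨RingHom.ker (pointExt θ), (hmax θ).isPrime⟩
    haveI : M.asIdeal.IsMaximal := hmax θ
    refine ⟨hpo.isoPullback.hom M, ?_, ?_⟩
    · rw [← Scheme.Hom.comp_apply, hpo.isoPullback_hom_fst]
      refine PrimeSpectrum.ext (Ideal.ext fun a => ?_)
      show pointExt θ ((1 : AlgebraicClosure k) ⊗ₜ a) = 0 ↔ a ∈ N.asIdeal
      rw [← hθ, Algebra.TensorProduct.lift_tmul, map_one, one_mul]
      rfl
    · rw [odpAt_iff_of_stalk_iso hpo.isoPullback.hom _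
        (Spec.map (CommRingCat.ofHom (algebraMap (AlgebraicClosure k) (AlgebraicClosure k ⊗[k] A))))
        (RingEquiv.refl (AlgebraicClosure k)) (by
          rw [hpo.isoPullback_hom_snd, show (RingEquiv.refl (AlgebraicClosure k)).toRingHom = RingHom.id _ from rfl,
            CommRingCat.ofHom_id, Spec.map_id, Category.comp_id]) M (ConcreteCategory.bijective_of_isIso _),
        odpAt_spec_iff]
  refine ⟨fun h => ⟨(PrimeSpectrum.isClosed_singleton_iff_isMaximal _).1 h.1, fun θ hθ => ?_⟩, fun ⟨hN, h⟩ => ?_⟩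
  · obtain ⟨z, hz, hiff⟩ := key θ hθ
    exact hiff.1 (h.odpAt z hz)
  · haveI := hN
    obtain ⟨θ, hθ⟩ := exists_point_of_isMaximal (k := k) (A := A) N.asIdeal
    obtain ⟨z, hz, hiff⟩ := key θ hθ
    exact ⟨(PrimeSpectrum.isClosed_singleton_iff_isMaximal N).2 hN, z, hz, hiff.2 (h θ hθ)⟩

end

end Groth.Agent.NodeFam
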