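import Groth.Agent.NodeFam.PlaneCut
import Mathlib.RingTheory.Localization.Away.Basic
import Mathlib.RingTheory.Ideal.Quotient.Operations

/-!
# Open restriction of the criterion, uniqueness of coordinate derivations
-/

set_option autoImplicit false
set_option linter.style.haveILetI false

universe u

open scoped TensorProduct
open KaehlerDifferential

namespace Groth.Agent.NodeFam

noncomputable section

section Away

variable {R A K : Type u} [CommRing R] [CommRing A] [Algebra R A] [Field K] [Algebra R K]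
  {A' : Type u} [CommRing A'] [Algebra R A'] [Algebra A A'] [IsScalarTower R A A']

/-- Passing to a principal open containing the point does not change the criterion. -/
theorem nodeCrit_away_iff (a : A) [IsLocalization.Away a A'] (θ' : A' →ₐ[R] K) :
    NodeCrit K (RingHom.ker (pointExt (θ'.comp (IsScalarTower.toAlgHom R A A')))) ↔
      NodeCrit K (RingHom.ker (pointExt θ')) := by
  set θ := θ'.comp (IsScalarTower.toAlgHom R A A') with hθ
  set M := RingHom.ker (pointExt θ) with hM
  set M' := RingHom.ker (pointExt θ') with hM'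
  let φ : K ⊗[R] A →ₐ[K] K ⊗[R] A' := Algebra.TensorProduct.map (AlgHom.id K K) (IsScalarTower.toAlgHom R A A')
  have hcomp : ∀ z, pointExt θ' (φ z) = pointExt θ z := by
    intro z
    induction z using TensorProduct.induction_on with
    | zero => simp
    | tmul l b => simp [φ, hθ]
    | add z z' hz hz' => rw [map_add, map_add, map_add, hz, hz']
  have hle : M.map φ ≤ M' := by
    rw [Ideal.map_le_iff_le_comap]
    intro z hz
    show pointExt θ' (φ z) = 0
    rw [hcomp]; exact hz
  -- a one-sided inverse modulo a power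
  have key : ∀ n, ∃ ω : K ⊗[R] A' →ₐ[K] (K ⊗[R] A) ⧸ M ^ n, (∀ z, ω (φ z) = Ideal.Quotient.mk (M ^ n) z) ∧
      M'.map ω ≤ M.map (Ideal.Quotient.mk (M ^ n)) ∧
      ∀ w, ∀ z, ω w = Ideal.Quotient.mk (M ^ n) z → w - φ z ∈ M' ^ n := by
    intro n
    let j : A →ₐ[R] (K ⊗[R] A) ⧸ M ^ n := (Ideal.Quotient.mkₐ R (M ^ n)).comp Algebra.TensorProduct.includeRight
    have hu : IsUnit (j a) := by
      have ha : θ' (algebraMap A A' a) ≠ 0 :=
        ((IsLocalization.Away.algebraMap_isUnit (S := A') a).map θ').ne_zero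
      rw [isUnit_iff_exists_inv]
      obtain ⟨e, he⟩ : ∃ e : K ⊗[R] A, e * ((1 : K) ⊗ₜ a) - 1 ∈ M :=
        ⟨algebraMap K _ (θ' (algebraMap A A' a))⁻¹, by
          show pointExt θ _ = 0
          rw [map_sub, map_mul, map_one, AlgHom.commutes, Algebra.algebraMap_self, RingHom.id_apply,
            Algebra.TensorProduct.lift_tmul, map_one, one_mul]
          show (θ' (algebraMap A A' a))⁻¹ * θ' (algebraMap A A' a) - 1 = 0
          rw [inv_mul_cancel₀ ha, sub_self]⟩
      have hnil : IsNilpotent (Ideal.Quotient.mk (M ^ n) (e * ((1 : K) ⊗ₜ a) - 1)) :=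
        ⟨n, by rw [← map_pow, Ideal.Quotient.eq_zero_iff_mem]; exact Ideal.pow_mem_pow he n⟩
      obtain ⟨v, hv⟩ := isUnit_iff_exists_inv.1 hnil.isUnit_add_one
      refine ⟨Ideal.Quotient.mk (M ^ n) e * v, ?_⟩
      rw [← hv, map_sub, map_one, sub_add_cancel, map_mul]
      show Ideal.Quotient.mk (M ^ n) ((1 : K) ⊗ₜ a) * _ = _
      ring
    let ω₀ : A' →ₐ[R] (K ⊗[R] A) ⧸ M ^ n :=
      IsLocalization.liftAlgHom (M := Submonoid.powers a) (f := j) (fun y => by
        obtain ⟨m, hm⟩ := y.2
        show IsUnit (j y.1)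
        rw [← hm, map_pow]; exact hu.pow m)
    let ω : K ⊗[R] A' →ₐ[K] (K ⊗[R] A) ⧸ M ^ n :=
      Algebra.TensorProduct.lift (Algebra.ofId K _) ω₀ fun _ _ => Commute.all _ _
    have hω₀ : ∀ b : A, ω₀ (algebraMap A A' b) = j b := fun b => by
      simp [ω₀, IsLocalization.lift_eq]
    have hωφ : ∀ z, ω (φ z) = Ideal.Quotient.mk (M ^ n) z := by
      have e : ω.comp φ = Ideal.Quotient.mkₐ K (M ^ n) :=
        Algebra.TensorProduct.ext (Subsingleton.elim _ _) (AlgHom.ext fun b => by
          show ω (φ ((1 : K) ⊗ₜ b)) = Ideal.Quotient.mk (M ^ n) ((1 : K) ⊗ₜ b)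
          simp only [φ, ω, Algebra.TensorProduct.map_tmul, Algebra.TensorProduct.lift_tmul, AlgHom.coe_id, id_eq,
            map_one, one_mul, IsScalarTower.coe_toAlgHom', hω₀]
          rfl)
      exact fun z => AlgHom.congr_fun e z
    obtain ⟨φn, hφn⟩ : ∃ φn : ((K ⊗[R] A) ⧸ M ^ n) →ₐ[K] (K ⊗[R] A') ⧸ M' ^ n,
        ∀ z, φn (Ideal.Quotient.mk (M ^ n) z) = Ideal.Quotient.mk (M' ^ n) (φ z) :=
      ⟨Ideal.quotientMapₐ (M' ^ n) φ (by
        rw [← Ideal.map_le_iff_le_comap, Ideal.map_pow]
        exact Ideal.pow_right_mono hle n), fun z => rfl⟩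
    have hback : ∀ w, φn (ω w) = Ideal.Quotient.mk (M' ^ n) w := by
      have e : φn.comp ω = Ideal.Quotient.mkₐ K (M' ^ n) := by
        refine Algebra.TensorProduct.ext (Subsingleton.elim _ _) ?_
        have e1 : ((φn.comp ω).restrictScalars R).comp Algebra.TensorProduct.includeRight =
            ((Ideal.Quotient.mkₐ K (M' ^ n)).restrictScalars R).comp Algebra.TensorProduct.includeRight := by
          refine AlgHom.coe_ringHom_injective (IsLocalization.ringHom_ext (Submonoid.powers a) (RingHom.ext fun b => ?_))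
          show φn (ω ((1 : K) ⊗ₜ algebraMap A A' b)) = Ideal.Quotient.mk (M' ^ n) ((1 : K) ⊗ₜ algebraMap A A' b)
          have e2 : φ ((1 : K) ⊗ₜ b) = (1 : K) ⊗ₜ algebraMap A A' b := rfl
          rw [← e2, hωφ, hφn]
        exact e1
      exact fun w => AlgHom.congr_fun e w
    refine ⟨ω, hωφ, ?_, fun w z hwz => ?_⟩
    · rw [Ideal.map_le_iff_le_comap]
      intro w hw
      obtain ⟨z, hz⟩ := Ideal.Quotient.mk_surjective (ω w)
      show ω w ∈ M.map (Ideal.Quotient.mk (M ^ n))
      rcases Nat.eq_zero_or_pos n with rfl | hn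
      · haveI : Subsingleton ((K ⊗[R] A) ⧸ M ^ 0) := Ideal.Quotient.subsingleton_iff.2 (by simp)
        rw [Subsingleton.elim (ω w) 0]; exact zero_mem _
      rw [← hz]
      refine Ideal.mem_map_of_mem _ ?_
      have h2 : Ideal.Quotient.mk (M' ^ n) w = Ideal.Quotient.mk (M' ^ n) (φ z) := by rw [← hback, ← hz, hφn]
      have h3 : w - φ z ∈ M' := Ideal.pow_le_self hn.ne' (Ideal.Quotient.eq.1 h2)
      have h4 : φ z ∈ M' := by
        rw [← sub_sub_cancel w (φ z)]
        exact sub_mem hw h3
      show pointExt θ z = 0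
      rw [← hcomp]; exact h4
    · exact Ideal.Quotient.eq.1 (by rw [← hback, hwz, hφn])
  refine nodeCrit_iff φ hle (fun n z hz => ?_) fun n w => ?_
  · obtain ⟨ω, hωφ, hωM, -⟩ := key n
    rw [← Ideal.Quotient.eq_zero_iff_mem, ← hωφ]
    have h0 := Ideal.mem_map_of_mem ω hz
    rw [Ideal.map_pow] at h0
    have := Ideal.pow_right_mono hωM n h0
    rwa [← Ideal.map_pow, Ideal.map_quotient_self, Ideal.mem_bot] at this
  · obtain ⟨ω, -, -, hsur⟩ := key n
    obtain ⟨z, hz⟩ := Ideal.Quotient.mk_surjective (ω w)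
    exact ⟨z, hsur w z hz.symm⟩

end Away

section Ext

variable {R B : Type u} [CommRing R] [CommRing B] [Algebra R B]
  [Algebra (MvPolynomial (Fin 2) R) B] [IsScalarTower R (MvPolynomial (Fin 2) R) B]
  [Algebra.FormallyEtale (MvPolynomial (Fin 2) R) B]

/-- Derivations agreeing on étale coordinates agree. -/
theorem derivation_eq_of_coord {T : Type u} [CommRing T] [Algebra R T] [Algebra B T] [IsScalarTower R B T]
    (D1 D2 : Derivation R B T) (h : ∀ j, D1 (coordFun (R := R) j) = D2 (coordFun (R := R) j)) : D1 = D2 := by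
  let e := tensorKaehlerEquivOfFormallyEtale R (MvPolynomial (Fin 2) R) B
  have hz : (D1 - D2).liftKaehlerDifferential ∘ₗ e.toLinearMap = 0 := by
    refine ((mvPolynomialBasis R (Fin 2)).baseChange B).ext fun j => ?_
    rw [Module.Basis.baseChange_apply, mvPolynomialBasis_apply, LinearMap.comp_apply, LinearMap.zero_apply]
    show (D1 - D2).liftKaehlerDifferential (e (1 ⊗ₜ D R (MvPolynomial (Fin 2) R) (MvPolynomial.X j))) = 0
    rw [tensorKaehlerEquivOfFormallyEtale_apply, mapBaseChange_tmul, one_smul, map_D,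
      Derivation.liftKaehlerDifferential_comp_D, Derivation.sub_apply, sub_eq_zero]
    exact h j
  refine Derivation.ext fun b => ?_
  have h0 : (D1 - D2).liftKaehlerDifferential = 0 := by
    refine LinearMap.ext fun w => ?_
    obtain ⟨w, rfl⟩ := e.surjective w
    exact LinearMap.congr_fun hz w
  have := Derivation.liftKaehlerDifferential_comp_D (D1 - D2) b
  rw [h0, LinearMap.zero_apply, Derivation.sub_apply, eq_comm, sub_eq_zero] at this
  exact this

end Ext

end

end Groth.Agent.NodeFam
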