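import Groth.Agent.NodeFam.PlaneCut
import Mathlib.Algebra.DualNumber
import Mathlib.LinearAlgebra.Matrix.NonsingularInverse
import Mathlib.LinearAlgebra.Dual.Lemmas
import Mathlib.RingTheory.FinitePresentation

/-!
# Coordinates and equations at a geometric node
-/

set_option autoImplicit false
set_option linter.style.haveILetI false

universe u

open scoped TensorProduct
open MvPolynomial

namespace Groth.Agent.NodeFam

noncomputable section

variable {R A K : Type u} [CommRing R] [CommRing A] [Algebra R A] [Field K] [Algebra R K]

/-- At a geometric node there are two coordinates and `n - 2` equations with independent differentials. -/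
theorem exists_frame {n : ℕ} (φ : MvPolynomial (Fin n) R →ₐ[R] A) (hφ : Function.Surjective φ) (θ : A →ₐ[R] K)
    (h : NodeCrit K (RingHom.ker (pointExt θ))) :
    ∃ (m : ℕ) (u : Fin 2 → Fin n) (g : Fin m → MvPolynomial (Fin n) R) (e : Fin 2 ⊕ Fin m ≃ Fin n),
      (∀ j, φ (g j) = 0) ∧
      θ (φ (Matrix.det (Matrix.of fun i c : Fin n =>
        pderiv i (Sum.elim (fun l => X (u l)) g (e.symm c))))) ≠ 0 := by
  classical
  set M := RingHom.ker (pointExt θ) with hM
  let ι : A →ₐ[R] K ⊗[R] A := Algebra.TensorProduct.includeRight
  let c : K →+* K ⊗[R] A := algebraMap K (K ⊗[R] A)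
  have hcR : ∀ r, c (algebraMap R K r) = algebraMap R (K ⊗[R] A) r := fun r =>
    (IsScalarTower.algebraMap_apply R K (K ⊗[R] A) r).symm
  have hPE : ∀ b, pointExt θ (ι b) = θ b := fun b => by simp [ι]
  let a : Fin n → K := fun i => θ (φ (X i))
  let U : Fin n → K ⊗[R] A := fun i => ι (φ (X i)) - c (a i)
  let grad : MvPolynomial (Fin n) R → Fin n → K := fun f i => θ (φ (pderiv i f))
  have hUM : ∀ i, U i ∈ M := fun i => by
    show pointExt θ (U i) = 0
    simp only [U, map_sub, hPE, c, AlgHom.commutes, Algebra.algebraMap_self, RingHom.id_apply, a, sub_self]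
  -- first order expansion
  have htaylor : ∀ f, ι (φ f) - (c (θ (φ f)) + ∑ i, c (grad f i) * U i) ∈ M ^ 2 := by
    intro f
    induction f using MvPolynomial.induction_on with
    | C r =>
      simp only [grad, ← MvPolynomial.algebraMap_eq, AlgHom.commutes, Derivation.map_algebraMap, map_zero, zero_mul,
        Finset.sum_const_zero, add_zero, hcR]
      simp
    | add p q hp hq =>
      convert add_mem hp hq using 1
      simp only [grad, map_add, add_mul, Finset.sum_add_distrib]; ring
    | mul_X p i hp =>
      have hg : ∀ j, c (grad (p * X i) j) * U j = c (grad p j) * c (a i) * U j +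
          (if j = i then c (θ (φ p)) * U i else 0) := by
        intro j
        by_cases hji : j = i
        · subst hji
          simp [grad, a, Derivation.leibniz]; ring
        · simp [grad, a, Derivation.leibniz, Pi.single_eq_of_ne' hji, hji]; ring
      rw [Finset.sum_congr rfl fun j _ => hg j, Finset.sum_add_distrib, Finset.sum_ite_eq' Finset.univ i,
        if_pos (Finset.mem_univ i)]
      set S := ∑ j, c (grad p j) * U j with hS
      have hsum : ∑ j, c (grad p j) * c (a i) * U j = S * c (a i) := by
        rw [hS, Finset.sum_mul]; exact Finset.sum_congr rfl fun j _ => by ring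
      have e : ι (φ (p * X i)) - (c (θ (φ (p * X i))) + (S * c (a i) + c (θ (φ p)) * U i)) =
          (ι (φ p) - (c (θ (φ p)) + S)) * ι (φ (X i)) + S * U i := by
        simp only [map_mul, a, U]; ring
      rw [hsum, e]
      refine add_mem (Ideal.mul_mem_right _ _ hp) ?_
      rw [sq]
      exact Ideal.mul_mem_mul (Ideal.sum_mem _ fun j _ => Ideal.mul_mem_left _ _ (hUM j)) (hUM i)
  have hspanU : ∀ z : K ⊗[R] A, z - c (pointExt θ z) ∈ Ideal.span (Set.range U) := by
    intro z
    induction z using TensorProduct.induction_on with
    | zero => simp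
    | tmul l b =>
      obtain ⟨p, rfl⟩ := hφ b
      have hp : ι (φ p) - c (θ (φ p)) ∈ Ideal.span (Set.range U) := by
        induction p using MvPolynomial.induction_on with
        | C r => simp [← MvPolynomial.algebraMap_eq, hcR]
        | add p q hp hq => simp only [map_add, add_sub_add_comm]; exact add_mem hp hq
        | mul_X p i hp =>
          have e : ι (φ (p * X i)) - c (θ (φ (p * X i))) =
              (ι (φ p) - c (θ (φ p))) * ι (φ (X i)) + c (θ (φ p)) * U i := by
            simp only [map_mul, a, U]; ring
          rw [e]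
          exact add_mem (Ideal.mul_mem_right _ _ hp) (Ideal.mul_mem_left _ _ (Ideal.subset_span ⟨i, rfl⟩))
      have e : l ⊗ₜ[R] φ p - c (pointExt θ (l ⊗ₜ φ p)) = c l * (ι (φ p) - c (θ (φ p))) := by
        simp only [Algebra.TensorProduct.lift_tmul]
        rw [mul_sub, ← map_mul]
        congr 1
        simp [c, ι, Algebra.TensorProduct.algebraMap_apply]
      rw [e]
      exact Ideal.mul_mem_left _ _ hp
    | add z z' hz hz' => rw [map_add, map_add, add_sub_add_comm]; exact add_mem hz hz'
  -- the linear map to the cotangent space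
  let L : (Fin n → K) →ₗ[K] (K ⊗[R] A) ⧸ M ^ 2 :=
    (Ideal.Quotient.mkₐ K (M ^ 2)).toLinearMap ∘ₗ Fintype.linearCombination K U
  have hL : ∀ v, L v = Ideal.Quotient.mk (M ^ 2) (∑ i, c (v i) * U i) := fun v => by
    simp [L, Fintype.linearCombination_apply, Algebra.smul_def, c]
  have hgrad : ∀ f, φ f = 0 → L (grad f) = 0 := by
    intro f hf
    have := htaylor f
    rw [hf, map_zero, map_zero, map_zero, zero_add, zero_sub, neg_mem_iff] at this
    rw [hL, Ideal.Quotient.eq_zero_iff_mem]
    exact this
  obtain ⟨x, y, hspan, -⟩ := h.2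
  have hrangeL : LinearMap.range L = Submodule.span K (Set.range ![Ideal.Quotient.mk (M ^ 2) x, Ideal.Quotient.mk (M ^ 2) y]) := by
    have hin : ∀ z ∈ M, Ideal.Quotient.mk (M ^ 2) z ∈ LinearMap.range L := by
      intro z hz
      have h1 := hspanU z
      rw [show pointExt θ z = 0 from hz, map_zero, sub_zero] at h1
      obtain ⟨r, hr⟩ := (Ideal.mem_span_range_iff_exists_fun).1 h1
      refine ⟨fun i => pointExt θ (r i), ?_⟩
      rw [hL, ← hr, Ideal.Quotient.eq, ← Finset.sum_sub_distrib]
      refine Ideal.sum_mem _ fun i _ => ?_
      rw [← sub_mul, sq]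
      refine Ideal.mul_mem_mul ?_ (hUM i)
      show pointExt θ _ = 0
      simp [c]
    have hxM : x ∈ M := hspan ▸ Ideal.mem_sup_left (Ideal.subset_span (by simp))
    have hyM : y ∈ M := hspan ▸ Ideal.mem_sup_left (Ideal.subset_span (by simp))
    refine le_antisymm ?_ (Submodule.span_le.2 ?_)
    · rintro _ ⟨v, rfl⟩
      have hv : ∑ i, c (v i) * U i ∈ M := Ideal.sum_mem _ fun i _ => Ideal.mul_mem_left _ _ (hUM i)
      obtain ⟨c₀, c₁, c₂, hcs⟩ := exists_sub_mem_sq h.exists_sub_mem hspan (∑ i, c (v i) * U i)
      have h0 : pointExt θ (∑ i, c (v i) * U i - (algebraMap K _ c₀ + algebraMap K _ c₁ * x + algebraMap K _ c₂ * y)) = 0 :=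
        Ideal.pow_le_self two_ne_zero hcs
      simp only [map_sub, map_add, map_mul, show pointExt θ x = 0 from hxM, show pointExt θ y = 0 from hyM,
        show pointExt θ (∑ i, c (v i) * U i) = 0 from hv, AlgHom.commutes, Algebra.algebraMap_self, RingHom.id_apply,
        mul_zero, add_zero, zero_sub, neg_eq_zero] at h0
      rw [Submodule.mem_span_range_iff_exists_fun]
      refine ⟨![c₁, c₂], ?_⟩
      rw [hL, Ideal.Quotient.eq.2 hcs, h0, Fin.sum_univ_two]
      simp [Algebra.smul_def]
      rfl
    · rintro _ ⟨i, rfl⟩
      fin_cases i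
      exacts [hin x hxM, hin y hyM]
  have hrank : Module.finrank K (LinearMap.range L) = 2 := by
    rw [hrangeL, finrank_span_eq_card, Fintype.card_fin]
    rw [Fintype.linearIndependent_iff]
    intro w hw
    simp only [Fin.sum_univ_two, Matrix.cons_val_zero, Matrix.cons_val_one] at hw
    have := coeff_eq_zero h.exists_sub_mem hspan (h.1 1) (c₀ := 0) (c₁ := w 0) (c₂ := w 1) (by
      rw [← Ideal.Quotient.eq_zero_iff_mem, ← hw]
      simp [Algebra.smul_def]
      rfl)
    intro i; fin_cases i
    exacts [this.2.1, this.2.2]
  -- coordinates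
  obtain ⟨u, hu⟩ : ∃ u : Fin 2 → Fin n, LinearIndependent K fun l => L (Pi.single (u l) 1) := by
    obtain ⟨b, hb, hspanb, hind⟩ := exists_linearIndependent K (Set.range fun i : Fin n => L (Pi.single i (1 : K)))
    have htop : Submodule.span K b = LinearMap.range L := by
      rw [hspanb, ← Set.image_univ (f := fun i : Fin n => L (Pi.single i (1 : K))),
        show (fun i : Fin n => L (Pi.single i (1 : K))) = L ∘ (fun i => Pi.single i 1) from rfl, Set.image_comp,
        Submodule.span_image, Set.image_univ]
      have : Submodule.span K (Set.range fun i : Fin n => (Pi.single i 1 : Fin n → K)) = ⊤ := by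
        rw [eq_top_iff]; rintro v -
        rw [pi_eq_sum_univ' v]
        exact Submodule.sum_mem _ fun i _ => Submodule.smul_mem _ _ (Submodule.subset_span ⟨i, rfl⟩)
      rw [this, Submodule.map_top]
    haveI : Finite b := Finite.Set.subset _ hb
    haveI : Fintype b := Fintype.ofFinite _
    have hcard : Fintype.card b = 2 := by
      have h2 := hrank
      rw [← htop, finrank_span_set_eq_card hind, Set.toFinset_card] at h2
      exact h2
    let e := (Fintype.equivFinOfCardEq hcard).symm
    choose u hu using fun l : Fin 2 => hb (e l).2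
    refine ⟨u, ?_⟩
    have : (fun l => L (Pi.single (u l) 1)) = (fun i : b => (i : (K ⊗[R] A) ⧸ M ^ 2)) ∘ e := funext fun l => hu l
    rw [this]
    exact hind.comp e e.injective
  -- the gradients of the equations span the kernel
  let G := Submodule.span K (grad '' {f | φ f = 0})
  have hker : LinearMap.ker L = G := by
    refine le_antisymm (fun v hv => ?_) (Submodule.span_le.2 ?_)
    · rw [← Subspace.dualAnnihilator_dualCoannihilator_eq (W := G), Submodule.mem_dualCoannihilator]
      intro ξ hξ
      let w : Fin n → K := fun i => ξ (Pi.single i 1)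
      have hw : ∀ v, ξ v = ∑ i, v i * w i := fun v => by
        conv_lhs => rw [pi_eq_sum_univ' v]
        simp [w, map_sum]
      let D : MvPolynomial (Fin n) R →ₐ[R] DualNumber K :=
        MvPolynomial.aeval fun i => TrivSqZeroExt.inl (a i) + TrivSqZeroExt.inr (w i)
      have hD : ∀ f, D f = TrivSqZeroExt.inl (θ (φ f)) + TrivSqZeroExt.inr (∑ i, grad f i * w i) := by
        intro f
        induction f using MvPolynomial.induction_on with
        | C r =>
          simp only [D, ← MvPolynomial.algebraMap_eq, AlgHom.commutes, grad, Derivation.map_algebraMap, map_zero,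
            zero_mul, Finset.sum_const_zero]
          simp [TrivSqZeroExt.algebraMap_eq_inl']
        | add p q hp hq =>
          rw [map_add, hp, hq]
          ext <;> simp [grad, add_mul, Finset.sum_add_distrib]
        | mul_X p i hp =>
          have hX : D (X i) = TrivSqZeroExt.inl (a i) + TrivSqZeroExt.inr (w i) := MvPolynomial.aeval_X _ i
          have hg : ∀ j, grad (p * X i) j * w j = grad p j * w j * a i + (if j = i then θ (φ p) * w i else 0) := by
            intro j
            by_cases hji : j = i
            · subst hji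
              simp [grad, a, Derivation.leibniz]; ring
            · simp [grad, a, Derivation.leibniz, Pi.single_eq_of_ne' hji, hji]; ring
          rw [map_mul, hp, hX, Finset.sum_congr rfl fun j _ => hg j, Finset.sum_add_distrib,
            Finset.sum_ite_eq' Finset.univ i, if_pos (Finset.mem_univ i), ← Finset.sum_mul]
          ext
          · simp [a]
          · simp [a]; ring
      have hDker : ∀ f, φ f = 0 → D f = 0 := by
        intro f hf
        rw [hD, hf, map_zero]
        have : ξ (grad f) = 0 :=
          (Submodule.mem_dualAnnihilator ξ).1 hξ _ (Submodule.subset_span ⟨f, hf, rfl⟩)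
        rw [hw] at this
        rw [this]; simp
      let DA : A →ₐ[R] DualNumber K :=
        (Ideal.Quotient.liftₐ (RingHom.ker φ) D fun f hf => hDker f hf).comp
          (Ideal.quotientKerAlgEquivOfSurjective (f := φ) hφ).symm.toAlgHom
      have hDA : ∀ f, DA (φ f) = D f := fun f => by
        have e : (Ideal.quotientKerAlgEquivOfSurjective (f := φ) hφ).symm (φ f) = Ideal.Quotient.mk (RingHom.ker φ) f :=
          (AlgEquiv.symm_apply_eq _).2 rfl
        simp only [DA, AlgHom.comp_apply]
        erw [e]
        rfl
      let DK : K ⊗[R] A →ₐ[K] DualNumber K :=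
        Algebra.TensorProduct.lift (Algebra.ofId K _) DA fun _ _ => Commute.all _ _
      have hfst : ∀ z, TrivSqZeroExt.fst (DK z) = pointExt θ z := by
        intro z
        induction z using TensorProduct.induction_on with
        | zero => simp
        | tmul l b =>
          obtain ⟨p, rfl⟩ := hφ b
          simp [DK, hDA, hD, TrivSqZeroExt.algebraMap_eq_inl', Algebra.ofId_apply]
        | add z z' hz hz' => simp [hz, hz']
      have hsq : ∀ z ∈ M ^ 2, DK z = 0 := by
        intro z hz
        rw [sq] at hz
        refine Submodule.mul_induction_on hz (fun p hp q hq => ?_) fun p q hp hq => by rw [map_add, hp, hq, add_zero]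
        have hp' := (hfst p).trans hp
        have hq' := (hfst q).trans hq
        rw [map_mul]
        ext <;> simp [hp', hq']
      have hv' : DK (∑ i, c (v i) * U i) = 0 := hsq _ (Ideal.Quotient.eq_zero_iff_mem.1 (by rw [← hL]; exact hv))
      have hDU : ∀ i, DK (U i) = TrivSqZeroExt.inr (w i) := by
        intro i
        simp only [U, map_sub, c, AlgHom.commutes]
        show DK ((1 : K) ⊗ₜ φ (X i)) - _ = _
        simp [DK, hDA, D, TrivSqZeroExt.algebraMap_eq_inl']
      rw [hw]
      have h2 := congrArg TrivSqZeroExt.snd hv'
      rw [map_sum, TrivSqZeroExt.snd_sum, TrivSqZeroExt.snd_zero] at h2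
      rw [← h2]
      refine Finset.sum_congr rfl fun i _ => ?_
      simp only [map_mul, hDU, c, AlgHom.commutes]
      simp [TrivSqZeroExt.algebraMap_eq_inl', mul_comm]
    · rintro _ ⟨f, hf, rfl⟩
      exact hgrad f hf
  obtain ⟨b, hb, hspanb, hind⟩ := exists_linearIndependent K (grad '' {f | φ f = 0})
  haveI : Finite b := hind.finite
  haveI : Fintype b := Fintype.ofFinite _
  have hdim : Fintype.card b + 2 = n := by
    have h1 := L.finrank_range_add_finrank_ker
    rw [hrank, hker, Module.finrank_fintype_fun_eq_card, Fintype.card_fin] at h1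
    have h2 : Module.finrank K G = Fintype.card b := by
      rw [show G = Submodule.span K b from hspanb.symm, finrank_span_set_eq_card hind, Set.toFinset_card]
    omega
  choose gb hgb hgbe using fun i : b => hb i.2
  let e₀ := (Fintype.equivFin b).symm
  refine ⟨Fintype.card b, u, fun j => gb (e₀ j),
    finSumFinEquiv.trans (finCongr (by omega)), fun j => hgb _, ?_⟩
  set e := (finSumFinEquiv.trans (finCongr (by omega) : Fin (2 + Fintype.card b) ≃ Fin n)) with he
  let rows : Fin 2 ⊕ Fin (Fintype.card b) → Fin n → K :=
    Sum.elim (fun l => Pi.single (u l) 1) (fun j => grad (gb (e₀ j)))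
  have hrows : LinearIndependent K rows := by
    rw [Fintype.linearIndependent_iff]
    intro w hw
    rw [Fintype.sum_sum_type] at hw
    simp only [rows, Sum.elim_inl, Sum.elim_inr] at hw
    have h1 := congrArg L hw
    rw [map_add, map_sum, map_sum, map_zero] at h1
    simp only [map_smul, hgrad _ (hgb _), smul_zero, Finset.sum_const_zero, add_zero] at h1
    have h2 := Fintype.linearIndependent_iff.1 hu _ h1
    simp only [h2, zero_smul, Finset.sum_const_zero, zero_add] at hw
    have hind' : LinearIndependent K fun j => grad (gb (e₀ j)) := by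
      have : (fun j => grad (gb (e₀ j))) = (fun i : b => (i : Fin n → K)) ∘ e₀ := funext fun j => hgbe _
      rw [this]; exact hind.comp e₀ e₀.injective
    have h3 := Fintype.linearIndependent_iff.1 hind' _ hw
    rintro (l | j)
    exacts [h2 l, h3 j]
  show θ (φ (Matrix.det _)) ≠ 0
  rw [← AlgHom.comp_apply, AlgHom.map_det]
  have hmat : ((θ.comp φ).mapMatrix (Matrix.of fun i c : Fin n =>
      pderiv i (Sum.elim (fun l => X (u l)) (fun j => gb (e₀ j)) (e.symm c)))) =
      (Matrix.of fun c i : Fin n => rows (e.symm c) i).transpose := by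
    ext i j
    rcases hes : e.symm j with l | l
    · simp [rows, hes, Pi.single_apply, MvPolynomial.pderiv_X, eq_comm, apply_ite]
    · simp [rows, grad, hes]
  rw [hmat, Matrix.det_transpose]
  exact ((Matrix.isUnit_iff_isUnit_det _).1
    (Matrix.linearIndependent_rows_iff_isUnit.1 (hrows.comp _ e.symm.injective))).ne_zero

end

end Groth.Agent.NodeFam
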