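import Groth.Agent.NodeFam.CutAway
import Groth.Agent.NodeFam.NodeFrame
import Groth.Agent.NodeFam.EtalePres
import Mathlib.RingTheory.Localization.Away.AdjoinRoot
import Mathlib.RingTheory.Smooth.Basic
import Mathlib.Algebra.DualNumber

/-!
# Around a node of a flat algebra every point is smooth or a node
-/

set_option autoImplicit false
set_option linter.style.haveILetI false

universe u

open scoped TensorProduct

namespace Groth.Agent.NodeFam

noncomputable section

variable {R : Type u} [CommRing R]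

/-- Smooth near the prime, or a node at every geometric point over it. -/
def Good (R : Type u) [CommRing R] {A : Type u} [CommRing A] [Algebra R A] (𝔮 : Ideal A) : Prop :=
  (∃ e : A, e ∉ 𝔮 ∧ Algebra.Smooth R (Localization.Away e)) ∨
    ∀ (L : Type u) [Field L] [IsAlgClosed L] [Algebra R L] (θ : A →ₐ[R] L),
      RingHom.ker θ = 𝔮 → NodeCrit L (RingHom.ker (pointExt θ))

/-- A nonzero tangent vector at a geometric point. -/
def HasTangent {A L : Type u} [CommRing A] [Algebra R A] [Field L] [Algebra R L] (θ : A →ₐ[R] L) : Prop :=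
  ∃ D : A →ₐ[R] DualNumber L, (∀ a, TrivSqZeroExt.fst (D a) = θ a) ∧ ∃ a, TrivSqZeroExt.snd (D a) ≠ 0

/-- A tangent vector of a principal open is one of the whole. -/
theorem hasTangent_of_away {A A' L : Type u} [CommRing A] [Algebra R A] [CommRing A'] [Algebra R A'] [Algebra A A']
    [IsScalarTower R A A'] (d : A) [IsLocalization.Away d A'] [Field L] [Algebra R L] {θ' : A' →ₐ[R] L}
    (h : HasTangent θ') : HasTangent (θ'.comp (IsScalarTower.toAlgHom R A A')) := by
  obtain ⟨D, hD, a', ha'⟩ := h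
  refine ⟨D.comp (IsScalarTower.toAlgHom R A A'), fun a => hD _, ?_⟩
  by_contra hall
  push Not at hall
  have h0 : ∀ a, TrivSqZeroExt.snd (D (algebraMap A A' a)) = 0 := hall
  obtain ⟨k, a, hka⟩ := IsLocalization.Away.surj d a'
  have h1 := congrArg (fun x => TrivSqZeroExt.snd (D x)) hka
  simp only [map_mul, map_pow, TrivSqZeroExt.snd_mul, h0] at h1
  rw [← map_pow, ← map_pow, h0, hD, hD, smul_zero, zero_add, MulOpposite.smul_eq_mul_unop,
    MulOpposite.unop_op] at h1
  exact (mul_eq_zero.1 h1).elim ha'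
    ((((IsLocalization.Away.algebraMap_isUnit (S := A') d).map θ').ne_zero) ∘ fun h2 => by
      rw [map_pow] at h2; exact eq_zero_of_pow_eq_zero (by simpa using h2))

section Transfer

variable {A A' : Type u} [CommRing A] [Algebra R A] [CommRing A'] [Algebra R A'] [Algebra A A']
  [IsScalarTower R A A']

theorem exists_liftPoint {L : Type u} [CommRing L] [Algebra R L] (d : A) [IsLocalization.Away d A']
    (θ : A →ₐ[R] L) (hd : IsUnit (θ d)) :
    ∃ θ' : A' →ₐ[R] L, θ'.comp (IsScalarTower.toAlgHom R A A') = θ := by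
  refine ⟨IsLocalization.liftAlgHom (M := Submonoid.powers d) (f := θ) (fun y => ?_), AlgHom.ext fun b => ?_⟩
  · obtain ⟨m, hm⟩ := y.2
    show IsUnit (θ y.1)
    rw [← hm, map_pow]; exact hd.pow m
  · simp [IsLocalization.lift_eq]

/-- A principal open of a principal open is a principal open. -/
theorem smooth_away_mul [Algebra.FinitePresentation R A] (d a : A) [IsLocalization.Away d A'] (e : A') (k : ℕ)
    (he : e * algebraMap A A' d ^ k = algebraMap A A' a) [Algebra.FormallySmooth R (Localization.Away e)] :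
    Algebra.Smooth R (Localization.Away (d * a)) := by
  have hass : Associated (algebraMap A A' a) e :=
    Associated.symm ⟨(IsLocalization.Away.algebraMap_pow_isUnit d k).unit, he⟩
  haveI : IsLocalization.Away (d * a) (Localization.Away e) :=
    IsLocalization.Away.mul_of_associated d a e hass
  have eq := (Localization.algEquiv (Submonoid.powers (d * a)) (Localization.Away e)).symm
  haveI : Algebra.FinitePresentation A (Localization.Away (d * a)) :=
    IsLocalization.Away.finitePresentation (d * a)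
  exact ⟨Algebra.FormallySmooth.of_equiv (eq.restrictScalars R), Algebra.FinitePresentation.trans R A _⟩

end Transfer

/-- Near a node of a plane cut every prime is good. -/
theorem exists_good_of_cut {B A K : Type u} [CommRing B] [Algebra R B] [CommRing A] [Algebra R A] [Field K]
    [Algebra R K] [IsAlgClosed K] [Algebra (MvPolynomial (Fin 2) R) B] [IsScalarTower R (MvPolynomial (Fin 2) R) B]
    [Algebra.FormallyEtale (MvPolynomial (Fin 2) R) B] [Algebra.FiniteType R B] [Algebra.FinitePresentation R A]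
    [Module.Flat R A] (q : B →ₐ[R] A) (hq : Function.Surjective q) (hfg : (RingHom.ker q).FG)
    (θA : A →ₐ[R] K) (hnode : NodeCrit K (RingHom.ker (pointExt θA))) :
    ∃ s : A, θA s ≠ 0 ∧ ∀ 𝔮 : Ideal A, 𝔮.IsPrime → s ∉ 𝔮 → Good R 𝔮 ∧
      ∀ (L : Type u) [Field L] [Algebra R L] (θ : A →ₐ[R] L), RingHom.ker θ = 𝔮 → HasTangent θ := by
  obtain ⟨h, σ, hh, hσ, hker⟩ := exists_equation q hq hfg θA hnode
  obtain ⟨q', hq', hker', hcomp⟩ :=
    exists_cut_away q hq σ hh (fun z hz => ⟨1, by rw [pow_one]; exact hker z hz⟩)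
  haveI : IsScalarTower R (MvPolynomial (Fin 2) R) (Localization.Away σ) :=
    IsScalarTower.of_algebraMap_eq fun r =>
      (IsScalarTower.algebraMap_apply R B (Localization.Away σ) r).trans
        ((congrArg _ (IsScalarTower.algebraMap_apply R (MvPolynomial (Fin 2) R) B r)).trans
          (IsScalarTower.algebraMap_apply (MvPolynomial (Fin 2) R) B (Localization.Away σ) _).symm)
  haveI : Algebra.FormallyEtale B (Localization.Away σ) :=
    Algebra.FormallyEtale.of_isLocalization (Submonoid.powers σ)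
  haveI : Algebra.FormallyEtale (MvPolynomial (Fin 2) R) (Localization.Away σ) :=
    Algebra.FormallyEtale.comp _ B _
  obtain ⟨δ, hδ⟩ := exists_coordDer (R := R) (Localization.Away σ)
  set h' := algebraMap B (Localization.Away σ) h with hh'
  obtain ⟨θ', hθ'⟩ := exists_liftPoint (A' := Localization.Away (q σ)) (q σ) θA (isUnit_iff_ne_zero.2 hσ)
  have hnode' : NodeCrit K (RingHom.ker (pointExt θ')) := by
    rw [← nodeCrit_away_iff (q σ) θ', hθ']; exact hnode
  have hH := hessian_ne_zero q' hq' hker' hδ θ' hnode'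
  have hθe : ∀ b, θ' (algebraMap A (Localization.Away (q σ)) b) = θA b := fun b => AlgHom.congr_fun hθ' b
  obtain ⟨k, c, hc⟩ := IsLocalization.Away.surj (q σ) (q' (hessian δ h'))
  choose ki ai hai using fun i => IsLocalization.Away.surj (q σ) (q' (δ i h'))
  have hc0 : θA c ≠ 0 := by
    rw [← hθe, ← hc, map_mul, map_pow, hθe]
    exact mul_ne_zero hH (pow_ne_zero _ hσ)
  refine ⟨q σ * c, by rw [map_mul]; exact mul_ne_zero hσ hc0, fun 𝔮 h𝔮 hs => ?_⟩
  have hσ𝔮 : q σ ∉ 𝔮 := fun hm => hs (Ideal.mul_mem_right _ _ hm)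
  have hc𝔮 : c ∉ 𝔮 := fun hm => hs (Ideal.mul_mem_left _ _ hm)
  refine ⟨?_, fun L _ _ θ hθ => ?_⟩
  swap
  · obtain ⟨θL, hθL⟩ := exists_liftPoint (A' := Localization.Away (q σ)) (q σ) θ
      (isUnit_iff_ne_zero.2 fun h0 => hσ𝔮 (hθ ▸ h0))
    rw [← hθL]
    refine hasTangent_of_away (q σ) ?_
    obtain ⟨w, hw, j, hwj⟩ : ∃ w : Fin 2 → L, (∑ i, w i * θL (q' (δ i h')) = 0) ∧ ∃ j, w j ≠ 0 := by
      by_cases hc0' : θL (q' (δ 0 h')) = 0
      · exact ⟨![1, 0], by simp [hc0'], 0, by simp⟩
      · exact ⟨![θL (q' (δ 1 h')), -θL (q' (δ 0 h'))], by simp; ring, 1, by simpa using hc0'⟩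
    let T : Localization.Away σ →ₐ[R] DualNumber L :=
      AlgHom.ofLinearMap
        { toFun := fun b => TrivSqZeroExt.inl (θL (q' b)) + TrivSqZeroExt.inr (∑ i, w i * θL (q' (δ i b)))
          map_add' := fun b b' => by ext <;> simp [mul_add, Finset.sum_add_distrib, add_comm, add_left_comm]
          map_smul' := fun r b => by
            ext <;> simp [Fin.sum_univ_two, mul_smul_comm, smul_add] }
        (by ext <;> simp)
        (fun b b' => by
          ext
          · simp
          · simp [Derivation.leibniz, Fin.sum_univ_two]; ring)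
    have hT : ∀ b, T b = TrivSqZeroExt.inl (θL (q' b)) + TrivSqZeroExt.inr (∑ i, w i * θL (q' (δ i b))) :=
      fun b => rfl
    have hTker : ∀ b ∈ RingHom.ker q', T b = 0 := by
      intro b hb
      obtain ⟨r, rfl⟩ := Ideal.mem_span_singleton'.1 (hker'.le hb)
      have hh0 : T h' = 0 := by
        rw [hT, hw, show q' h' = 0 from hker'.ge (Ideal.mem_span_singleton_self h')]
        simp
      rw [map_mul, hh0, mul_zero]
    let DA : Localization.Away (q σ) →ₐ[R] DualNumber L :=
      (Ideal.Quotient.liftₐ (RingHom.ker q') T hTker).comp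
        (Ideal.quotientKerAlgEquivOfSurjective (f := q') hq').symm.toAlgHom
    have hDA : ∀ b, DA (q' b) = T b := fun b => by
      have e : (Ideal.quotientKerAlgEquivOfSurjective (f := q') hq').symm (q' b) =
          Ideal.Quotient.mk (RingHom.ker q') b := (AlgEquiv.symm_apply_eq _).2 rfl
      simp only [DA, AlgHom.comp_apply]
      erw [e]
      rfl
    refine ⟨DA, fun a => ?_, q' (coordFun (R := R) j), ?_⟩
    · obtain ⟨b, rfl⟩ := hq' a
      rw [hDA, hT]; simp
    · rw [hDA, hT]
      simpa [hδ, apply_ite] using hwj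
  by_cases hcase : ∀ i, ai i ∈ 𝔮
  · refine Or.inr fun L _ _ _ θ hθ => ?_
    have hne : ∀ {b}, b ∉ 𝔮 → θ b ≠ 0 := fun {b} hb h0 => hb (hθ ▸ h0)
    obtain ⟨θL, hθL⟩ := exists_liftPoint (A' := Localization.Away (q σ)) (q σ) θ (isUnit_iff_ne_zero.2 (hne hσ𝔮))
    have hθLe : ∀ b, θL (algebraMap A (Localization.Away (q σ)) b) = θ b := fun b => AlgHom.congr_fun hθL b
    rw [← hθL, nodeCrit_away_iff (q σ) θL]
    refine nodeCrit_cut q' hq' hker' hδ θL (fun i => ?_) ?_
    · have h1 := congrArg θL (hai i)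
      rw [map_mul, map_pow, hθLe, hθLe, show θ (ai i) = 0 from hθ.ge (hcase i)] at h1
      exact (mul_eq_zero.1 h1).resolve_right (pow_ne_zero _ (hne hσ𝔮))
    · intro h0
      have h1 := congrArg θL hc
      rw [map_mul, map_pow, h0, zero_mul, hθLe] at h1
      exact hne hc𝔮 h1.symm
  · obtain ⟨i, hi⟩ := not_forall.1 hcase
    have hh0 : q' h' = 0 := by rw [hcomp, hh, map_zero]
    set τ := δ i h' with hτ
    obtain ⟨q3, hq3, hker3, hcomp3⟩ := exists_cut_away q' hq' τ hh0 (fun z hz => ⟨0, by
      rw [pow_zero, one_mul, ← hker']; exact hz⟩)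
    haveI : IsScalarTower R (MvPolynomial (Fin 2) R) (Localization.Away τ) :=
      IsScalarTower.of_algebraMap_eq fun r =>
        (IsScalarTower.algebraMap_apply R (Localization.Away σ) (Localization.Away τ) r).trans
          ((congrArg _ (IsScalarTower.algebraMap_apply R (MvPolynomial (Fin 2) R) (Localization.Away σ) r)).trans
            (IsScalarTower.algebraMap_apply (MvPolynomial (Fin 2) R) (Localization.Away σ) (Localization.Away τ) _).symm)
    haveI : Algebra.FormallyEtale (Localization.Away σ) (Localization.Away τ) :=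
      Algebra.FormallyEtale.of_isLocalization (Submonoid.powers τ)
    haveI : Algebra.FormallyEtale (MvPolynomial (Fin 2) R) (Localization.Away τ) :=
      Algebra.FormallyEtale.comp _ (Localization.Away σ) _
    obtain ⟨δ3, hδ3⟩ := exists_coordDer (R := R) (Localization.Away τ)
    have hD : (Algebra.linearMap (Localization.Away σ) (Localization.Away τ)).compDer (δ i) =
        (δ3 i).compAlgebraMap (Localization.Away σ) := by
      refine derivation_eq_of_coord _ _ fun j => ?_
      show algebraMap (Localization.Away σ) (Localization.Away τ) (δ i (coordFun (R := R) j)) =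
        δ3 i (algebraMap (Localization.Away σ) (Localization.Away τ) (coordFun (R := R) j))
      rw [hδ, ← IsScalarTower.algebraMap_apply (MvPolynomial (Fin 2) R) (Localization.Away σ) (Localization.Away τ), hδ3]
      split <;> simp
    have hτ3 : δ3 i (algebraMap _ (Localization.Away τ) h') = algebraMap _ (Localization.Away τ) τ :=
      (congrArg (fun D : Derivation R (Localization.Away σ) (Localization.Away τ) => D h') hD).symm
    haveI : Algebra.FormallySmooth R (Localization.Away (q' τ)) :=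
      formallySmooth_cut q3 hq3 hker3 (δ3 i) (by
        rw [hτ3, hcomp3]; exact IsLocalization.Away.algebraMap_isUnit (q' τ))
    exact Or.inl ⟨q σ * ai i, fun hm => (h𝔮.mem_or_mem hm).elim hσ𝔮 hi,
      smooth_away_mul (q σ) (ai i) (q' τ) (ki i) (hai i)⟩

/-- A principal open around the point, presented as a closed subscheme of an étale plane. -/
structure PlaneCover (R A : Type u) [CommRing R] [CommRing A] [Algebra R A] {K : Type u} [Field K] [Algebra R K]
    (θA : A →ₐ[R] K) where
  B : Type u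
  [instRing : CommRing B]
  [instAlg : Algebra R B]
  [instP : Algebra (MvPolynomial (Fin 2) R) B]
  [instTower : IsScalarTower R (MvPolynomial (Fin 2) R) B]
  [instEtale : Algebra.FormallyEtale (MvPolynomial (Fin 2) R) B]
  [instFP : Algebra.FinitePresentation R B]
  d : A
  hd : θA d ≠ 0
  q : B →ₐ[R] Localization.Away d
  hq : Function.Surjective q
  hker : (RingHom.ker q).FG

attribute [instance] PlaneCover.instRing PlaneCover.instAlg PlaneCover.instP PlaneCover.instTower
  PlaneCover.instEtale PlaneCover.instFP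

/-- Around a geometric node there is a presentation in an étale plane. -/
theorem exists_planeCover {A K : Type u} [CommRing A] [Algebra R A] [Algebra.FinitePresentation R A]
    [Field K] [Algebra R K] (θA : A →ₐ[R] K) (hnode : NodeCrit K (RingHom.ker (pointExt θA))) :
    Nonempty (PlaneCover R A θA) := by
  classical
  obtain ⟨n, φ, hφ, -⟩ := Algebra.FinitePresentation.out (R := R) (A := A)
  obtain ⟨m, u, g, e, hg, hΔ⟩ := exists_frame φ hφ θA hnode
  set M0 : Matrix (Fin n) (Fin n) (MvPolynomial (Fin n) R) := Matrix.of fun i c : Fin n =>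
    MvPolynomial.pderiv i (Sum.elim (fun l => MvPolynomial.X (u l)) g (e.symm c)) with hM0
  set Δ := M0.det with hΔdef
  let A0 := Localization.Away (φ Δ)
  let P := MvPolynomial (Fin 2) R
  let ρ : MvPolynomial (Fin n) R →ₐ[R] MvPolynomial (Fin n ⊕ Unit) P :=
    MvPolynomial.aeval fun i => MvPolynomial.X (Sum.inl i)
  let v : Fin n ⊕ Unit → MvPolynomial (Fin n ⊕ Unit) P :=
    Sum.elim (fun c => Sum.elim (fun l => MvPolynomial.X (Sum.inl (u l)) - MvPolynomial.C (MvPolynomial.X l))
      (fun j => ρ (g j)) (e.symm c)) (fun _ => MvPolynomial.X (Sum.inr ()) * ρ Δ - 1)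
  have hρd : ∀ (i : Fin n) F, MvPolynomial.pderiv (Sum.inl i) (ρ F) = ρ (MvPolynomial.pderiv i F) := by
    intro i F
    induction F using MvPolynomial.induction_on with
    | C r => simp [ρ, MvPolynomial.algebraMap_eq, IsScalarTower.algebraMap_apply R P (MvPolynomial (Fin n ⊕ Unit) P)]
    | add F G hF hG => simp [hF, hG]
    | mul_X F j hF =>
      have hX : ρ (MvPolynomial.X j) = MvPolynomial.X (Sum.inl j) := MvPolynomial.aeval_X _ j
      simp only [Derivation.leibniz, map_mul, hX, hF, map_add, smul_eq_mul]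
      by_cases hji : j = i
      · subst hji; simp
      · rw [MvPolynomial.pderiv_X_of_ne hji, MvPolynomial.pderiv_X_of_ne (fun h => hji (Sum.inl_injective h))]
        simp
  have hρd' : ∀ F, MvPolynomial.pderiv (Sum.inr ()) (ρ F) = 0 := by
    intro F
    induction F using MvPolynomial.induction_on with
    | C r => simp [ρ, MvPolynomial.algebraMap_eq, IsScalarTower.algebraMap_apply R P (MvPolynomial (Fin n ⊕ Unit) P)]
    | add F G hF hG => simp [hF, hG]
    | mul_X F j hF =>
      have hX : ρ (MvPolynomial.X j) = MvPolynomial.X (Sum.inl j) := MvPolynomial.aeval_X _ j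
      simp [hX, hF, Derivation.leibniz, MvPolynomial.pderiv_X_of_ne (Sum.inl_ne_inr (a := j) (b := ()))]
  have hJ : (Matrix.of fun i j => MvPolynomial.pderiv i (v j)) =
      Matrix.fromBlocks (ρ.mapMatrix M0)
        (Matrix.of fun i _ => MvPolynomial.pderiv (Sum.inl i) (v (Sum.inr ()))) 0
        (Matrix.of fun (_ _ : Unit) => ρ Δ) := by
    ext (i | i) (c | c) : 1
    · show MvPolynomial.pderiv (Sum.inl i) (v (Sum.inl c)) = ρ (M0 i c)
      simp only [v, Sum.elim_inl, hM0, Matrix.of_apply]
      rcases e.symm c with l | j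
      · simp only [Sum.elim_inl, map_sub, MvPolynomial.pderiv_C, sub_zero]
        rw [← hρd, show ρ (MvPolynomial.X (u l)) = MvPolynomial.X (Sum.inl (u l)) from MvPolynomial.aeval_X _ _]
      · exact hρd _ _
    · rfl
    · show MvPolynomial.pderiv (Sum.inr i) (v (Sum.inl c)) = 0
      simp only [v, Sum.elim_inl]
      rcases e.symm c with l | j
      · simp [MvPolynomial.pderiv_X_of_ne (Sum.inl_ne_inr (a := u l) (b := i))]
      · exact hρd' _
    · show MvPolynomial.pderiv (Sum.inr i) (MvPolynomial.X (Sum.inr ()) * ρ Δ - 1) = ρ Δ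
      simp [Derivation.leibniz, hρd']
  let I := Ideal.span (Set.range v)
  have hinv : IsUnit (Ideal.Quotient.mk I (ρ Δ)) := by
    have h0 : MvPolynomial.X (Sum.inr ()) * ρ Δ - 1 ∈ I := Ideal.subset_span ⟨Sum.inr (), rfl⟩
    have h1 : Ideal.Quotient.mk I (MvPolynomial.X (Sum.inr ()) * ρ Δ) = 1 :=
      (Ideal.Quotient.eq.2 h0).trans (map_one (Ideal.Quotient.mk I))
    exact isUnit_iff_exists.2 ⟨Ideal.Quotient.mk I (MvPolynomial.X (Sum.inr ())),
      (map_mul (Ideal.Quotient.mk I) _ _).symm.trans ((congrArg _ (mul_comm _ _)).trans h1),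
      (map_mul (Ideal.Quotient.mk I) _ _).symm.trans h1⟩
  haveI : Algebra.Etale P (MvPolynomial (Fin n ⊕ Unit) P ⧸ I) := etale_squareQuot v (by
    rw [hJ, Matrix.det_fromBlocks_zero₂₁, ← AlgHom.map_det, Matrix.det_unique (Matrix.of fun (_ _ : Unit) => ρ Δ), Matrix.of_apply, map_mul]
    exact hinv.mul hinv)
  haveI : Algebra.FinitePresentation R (MvPolynomial (Fin n ⊕ Unit) P) :=
    Algebra.FinitePresentation.trans R P (MvPolynomial (Fin n ⊕ Unit) P)
  haveI : Algebra.FinitePresentation R (MvPolynomial (Fin n ⊕ Unit) P ⧸ I) :=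
    Algebra.FinitePresentation.quotient (Submodule.fg_span (Set.finite_range v))
  -- the map to the principal open
  let α : MvPolynomial (Fin n) R →ₐ[R] A0 := (IsScalarTower.toAlgHom R A A0).comp φ
  let π : MvPolynomial (Fin n ⊕ Unit) P →ₐ[R] A0 :=
    MvPolynomial.aevalTower (MvPolynomial.aeval fun l => α (MvPolynomial.X (u l)))
      (Sum.elim (fun i => α (MvPolynomial.X i)) fun _ => IsLocalization.Away.invSelf (φ Δ))
  have hπρ : ∀ F, π (ρ F) = α F := fun F => by
    have : π.comp ρ = α := MvPolynomial.algHom_ext fun i => by simp [π, ρ]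
    exact AlgHom.congr_fun this F
  have hπv : I ≤ RingHom.ker π := by
    rw [Ideal.span_le]
    rintro _ ⟨(c | c), rfl⟩ <;> show π _ = 0
    · simp only [v, Sum.elim_inl]
      rcases e.symm c with l | j
      · simp only [Sum.elim_inl, map_sub, π, MvPolynomial.aevalTower_X, MvPolynomial.aevalTower_C,
          MvPolynomial.aeval_X]
        erw [MvPolynomial.aeval_X]
        exact sub_self _
      · rw [Sum.elim_inr, hπρ]
        show algebraMap A A0 (φ (g j)) = 0
        rw [hg, map_zero]
    · simp only [v, Sum.elim_inr, map_sub, map_mul, hπρ, map_one]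
      simp only [π, MvPolynomial.aevalTower_X, Sum.elim_inr]
      rw [mul_comm, sub_eq_zero]
      exact IsLocalization.Away.mul_invSelf (φ Δ)
  let q0 : (MvPolynomial (Fin n ⊕ Unit) P ⧸ I) →ₐ[R] A0 := Ideal.Quotient.liftₐ I π fun z hz => hπv hz
  have hq0 : Function.Surjective q0 := by
    intro w
    obtain ⟨k, a, hka⟩ := IsLocalization.Away.surj (φ Δ) w
    obtain ⟨F, rfl⟩ := hφ a
    refine ⟨Ideal.Quotient.mk I (ρ F * MvPolynomial.X (Sum.inr ()) ^ k), ?_⟩
    show π _ = w
    rw [map_mul, map_pow, hπρ]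
    simp only [π, MvPolynomial.aevalTower_X, Sum.elim_inr]
    show algebraMap A A0 (φ F) * _ = w
    rw [← hka, mul_assoc, ← mul_pow, IsLocalization.Away.mul_invSelf, one_pow, mul_one]
  haveI : Algebra.FinitePresentation A A0 := IsLocalization.Away.finitePresentation (φ Δ)
  haveI : Algebra.FinitePresentation R A0 := Algebra.FinitePresentation.trans R A _
  exact ⟨{ B := MvPolynomial (Fin n ⊕ Unit) P ⧸ I, d := φ Δ, hd := hΔ, q := q0, hq := hq0,
           hker := @Algebra.FinitePresentation.ker_fG_of_surjective R (MvPolynomial (Fin n ⊕ Unit) P ⧸ I) A0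
             _ _ _ _ _ q0 hq0 ‹_› ‹_› }⟩

/-- Around a geometric node every prime is good. -/
theorem exists_chart {A K : Type u} [CommRing A] [Algebra R A] [Algebra.FinitePresentation R A] [Module.Flat R A]
    [Field K] [Algebra R K] [IsAlgClosed K] (θA : A →ₐ[R] K) (hnode : NodeCrit K (RingHom.ker (pointExt θA))) :
    ∃ s : A, θA s ≠ 0 ∧ ∀ 𝔮 : Ideal A, 𝔮.IsPrime → s ∉ 𝔮 → Good R 𝔮 ∧
      ∀ (L : Type u) [Field L] [Algebra R L] (θ : A →ₐ[R] L), RingHom.ker θ = 𝔮 → HasTangent θ := by
  obtain ⟨D⟩ := exists_planeCover θA hnode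
  haveI : Algebra.FinitePresentation A (Localization.Away D.d) := IsLocalization.Away.finitePresentation D.d
  haveI : Algebra.FinitePresentation R (Localization.Away D.d) := Algebra.FinitePresentation.trans R A _
  haveI : Module.Flat A (Localization.Away D.d) := IsLocalization.flat _ (Submonoid.powers D.d)
  haveI : Module.Flat R (Localization.Away D.d) := Module.Flat.trans R A (Localization.Away D.d)
  have hΔ := D.hd
  obtain ⟨θ0, hθ0⟩ := exists_liftPoint (A' := Localization.Away D.d) D.d θA (isUnit_iff_ne_zero.2 hΔ)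
  have hθ0e : ∀ b, θ0 (algebraMap A (Localization.Away D.d) b) = θA b := fun b => AlgHom.congr_fun hθ0 b
  obtain ⟨s0, hs0, hgood⟩ := exists_good_of_cut D.q D.hq D.hker θ0
    (by rw [← nodeCrit_away_iff D.d θ0, hθ0]; exact hnode)
  obtain ⟨k, c, hc⟩ := IsLocalization.Away.surj (D.d) s0
  have hc0 : θA c ≠ 0 := by
    rw [← hθ0e, ← hc, map_mul, map_pow, hθ0e]
    exact mul_ne_zero hs0 (pow_ne_zero _ hΔ)
  refine ⟨D.d * c, by rw [map_mul]; exact mul_ne_zero hΔ hc0, fun 𝔮 h𝔮 hs => ?_⟩
  have hd𝔮 : D.d ∉ 𝔮 := fun hm => hs (Ideal.mul_mem_right _ _ hm)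
  have hc𝔮 : c ∉ 𝔮 := fun hm => hs (Ideal.mul_mem_left _ _ hm)
  have hdisj : Disjoint (Submonoid.powers (D.d) : Set A) 𝔮 := by
    rw [Set.disjoint_left]
    rintro _ ⟨l, rfl⟩ hl
    exact hd𝔮 (h𝔮.mem_of_pow_mem l hl)
  set 𝔮0 := 𝔮.map (algebraMap A (Localization.Away D.d)) with h𝔮0def
  have h𝔮0 : 𝔮0.IsPrime := IsLocalization.isPrime_of_isPrime_disjoint _ _ 𝔮 h𝔮 hdisj
  have hcomap : 𝔮0.comap (algebraMap A (Localization.Away D.d)) = 𝔮 :=
    IsLocalization.under_map_of_isPrime_disjoint (Submonoid.powers (D.d)) (Localization.Away D.d) h𝔮 hdisj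
  have hkerL : ∀ (L : Type u) [Field L] [Algebra R L] (θ : A →ₐ[R] L), RingHom.ker θ = 𝔮 →
      ∃ θL : (Localization.Away D.d) →ₐ[R] L, θL.comp (IsScalarTower.toAlgHom R A (Localization.Away D.d)) = θ ∧ RingHom.ker θL = 𝔮0 := by
    intro L _ _ θ hθ
    obtain ⟨θL, hθL⟩ := exists_liftPoint (A' := (Localization.Away D.d)) (D.d) θ (isUnit_iff_ne_zero.2 fun h0 => hd𝔮 (hθ ▸ h0))
    refine ⟨θL, hθL, ?_⟩
    rw [← IsLocalization.map_under (Submonoid.powers (D.d)) (Localization.Away D.d) (RingHom.ker θL), h𝔮0def, ← hθ]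
    refine congrArg (Ideal.map _) (Ideal.ext fun b => ?_)
    show θL (algebraMap A (Localization.Away D.d) b) = 0 ↔ θ b = 0
    rw [← hθL]; rfl
  obtain ⟨hgood', htan⟩ := hgood 𝔮0 h𝔮0 (fun hm => hc𝔮 (hcomap.le
    (show algebraMap A (Localization.Away D.d) c ∈ 𝔮0 from hc ▸ Ideal.mul_mem_right _ _ hm)))
  refine ⟨?_, fun L _ _ θ hθ => ?_⟩
  swap
  · obtain ⟨θL, hθL, hk⟩ := hkerL L θ hθ
    rw [← hθL]
    exact hasTangent_of_away (D.d) (htan L θL hk)
  rcases hgood' with ⟨e0, he0, hsm⟩ | hnd
  · obtain ⟨k', a, ha⟩ := IsLocalization.Away.surj (D.d) e0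
    refine Or.inl ⟨D.d * a, fun hm => ?_, smooth_away_mul (D.d) a e0 k' ha⟩
    rcases h𝔮.mem_or_mem hm with h1 | h1
    · exact hd𝔮 h1
    · have h2 : e0 * algebraMap A (Localization.Away D.d) (D.d) ^ k' ∈ 𝔮0 := ha ▸ Ideal.mem_map_of_mem _ h1
      rcases h𝔮0.mem_or_mem h2 with h3 | h3
      · exact he0 h3
      · exact hd𝔮 (hcomap.le (h𝔮0.mem_of_pow_mem k' h3))
  · refine Or.inr fun L _ _ _ θ hθ => ?_
    obtain ⟨θL, hθL, hk⟩ := hkerL L θ hθ
    rw [← hθL, nodeCrit_away_iff (D.d) θL]
    exact hnd L θL hk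

end

end Groth.Agent.NodeFam
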