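import Groth.Agent.NodeFam.NodeModel
import Mathlib.RingTheory.Unramified.LocalRing
import Mathlib.RingTheory.Etale.QuasiFinite
import Mathlib.RingTheory.QuasiFinite.Basic
import Mathlib.RingTheory.Filtration
import Mathlib.RingTheory.DiscreteValuationRing.Basic

/-!
# Étale neighbourhoods over a discrete valuation ring and localised nodes
-/

set_option autoImplicit false
set_option linter.style.haveILetI false

universe u

namespace Groth.Agent.NodeFam

noncomputable section

theorem finite_primeSpectrum_dvr (R : Type u) [CommRing R] [IsDomain R] [IsDiscreteValuationRing R] :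
    Finite (PrimeSpectrum R) := by
  classical
  refine Finite.of_injective (fun p : PrimeSpectrum R => decide (p.asIdeal = ⊥)) fun p q h => PrimeSpectrum.ext ?_
  have h' : p.asIdeal = ⊥ ↔ q.asIdeal = ⊥ := decide_eq_decide.1 h
  by_cases hp : p.asIdeal = ⊥
  · rw [hp, h'.1 hp]
  · rw [IsLocalRing.eq_maximalIdeal (p.isPrime.isMaximal hp),
      IsLocalRing.eq_maximalIdeal (q.isPrime.isMaximal (fun hq => hp (h'.2 hq)))]

/-- A Noetherian local ring with maximal ideal generated by a nonzerodivisor is a discrete valuation ring. -/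
theorem exists_isDomain_dvr {R : Type u} [CommRing R] [IsNoetherianRing R] [IsLocalRing R] {π : R}
    (hmax : IsLocalRing.maximalIdeal R = Ideal.span {π}) (hreg : ∀ x : R, π * x = 0 → x = 0) :
    ∃ (_ : IsDomain R), IsDiscreteValuationRing R ∧ Irreducible π := by
  classical
  have hπ : ¬ IsUnit π := fun h => (IsLocalRing.maximalIdeal.isMaximal R).ne_top
    (hmax.trans (Ideal.span_singleton_eq_top.2 h))
  have hfac : ∀ x : R, x ≠ 0 → ∃ (n : ℕ) (v : Rˣ), x = v * π ^ n := by
    intro x hx
    have h1 : ∃ n, ¬ π ^ n ∣ x := by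
      by_contra h
      push Not at h
      refine hx ?_
      have h2 : x ∈ ⨅ i : ℕ, Ideal.span {π} ^ i := (Submodule.mem_iInf _).2 fun i => by
        rw [Ideal.span_singleton_pow, Ideal.mem_span_singleton]; exact h i
      rwa [Ideal.iInf_pow_eq_bot_of_isLocalRing _ (fun h => hπ (Ideal.span_singleton_eq_top.1 h)),
        Submodule.mem_bot] at h2
    have hn := Nat.find_spec h1
    obtain ⟨n, hn0⟩ : ∃ n, Nat.find h1 = n + 1 := ⟨Nat.find h1 - 1, by
      have : Nat.find h1 ≠ 0 := fun h0 => hn (by rw [h0, pow_zero]; exact one_dvd x)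
      omega⟩
    obtain ⟨c, rfl⟩ : π ^ n ∣ x := not_not.1 (Nat.find_min h1 (by omega))
    have hc : IsUnit c := by
      by_contra hc
      have hc' : c ∈ IsLocalRing.maximalIdeal R := hc
      rw [hmax, Ideal.mem_span_singleton] at hc'
      refine hn ?_
      rw [hn0, pow_succ]
      exact mul_dvd_mul_left _ hc'
    exact ⟨n, hc.unit, mul_comm _ _⟩
  have hpow : ∀ (n : ℕ) (x : R), π ^ n * x = 0 → x = 0 := by
    intro n
    induction n with
    | zero => intro x hx; simpa using hx
    | succ n ih => intro x hx; exact hreg x (ih _ (by rwa [← mul_assoc, ← pow_succ]))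
  haveI : NoZeroDivisors R := ⟨fun {x y} hxy => by
    by_contra h
    rw [not_or] at h
    obtain ⟨n, v, rfl⟩ := hfac x h.1
    obtain ⟨m, w, rfl⟩ := hfac y h.2
    have h1 : π ^ (n + m) * ((v : R) * w) = 0 := by rw [← hxy]; ring
    exact (v * w).isUnit.ne_zero (by simpa using hpow _ _ h1)⟩
  haveI hdom : IsDomain R := NoZeroDivisors.to_isDomain R
  have hπ0 : π ≠ 0 := fun h => one_ne_zero (hreg 1 (by rw [h, zero_mul]))
  have hirr : Irreducible π := by
    refine ⟨hπ, fun b c hbc => ?_⟩
    by_contra hh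
    rw [not_or] at hh
    have hb : b ∈ IsLocalRing.maximalIdeal R := hh.1
    have hc : c ∈ IsLocalRing.maximalIdeal R := hh.2
    rw [hmax, Ideal.mem_span_singleton] at hb hc
    obtain ⟨b', rfl⟩ := hb
    obtain ⟨c', rfl⟩ := hc
    exact hπ (IsUnit.of_mul_eq_one (b' * c') (mul_left_cancel₀ hπ0 (by linear_combination -hbc)))
  exact ⟨hdom, IsDiscreteValuationRing.ofHasUnitMulPowIrreducibleFactorization ⟨π, hirr, fun {x} hx => by
    obtain ⟨n, v, rfl⟩ := hfac x hx
    exact ⟨n, ⟨v, mul_comm _ _⟩⟩⟩, hirr⟩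

/-- An étale algebra over a discrete valuation ring is one near a point over the closed point. -/
theorem exists_away_dvr {R R' : Type u} [CommRing R] [IsDomain R] [IsDiscreteValuationRing R] [CommRing R']
    [Algebra R R'] [Algebra.Etale R R'] (ϖ : R) (hϖ : Irreducible ϖ) (m : Ideal R') [m.IsPrime]
    (hm : algebraMap R R' ϖ ∈ m) :
    ∃ g : R', g ∉ m ∧ ∃ (_ : IsDomain (Localization.Away g)), IsDiscreteValuationRing (Localization.Away g) ∧
      Irreducible (algebraMap R (Localization.Away g) ϖ) ∧ Algebra.Etale R (Localization.Away g) := by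
  classical
  haveI := finite_primeSpectrum_dvr R
  haveI : Algebra.QuasiFinite R R' := inferInstance
  haveI : Finite (PrimeSpectrum R') := Algebra.QuasiFinite.finite_primeSpectrum R R'
  haveI := Fintype.ofFinite (PrimeSpectrum R')
  have hsel : ∀ p : PrimeSpectrum R', ∃ e, e ∉ m ∧ (¬ p.asIdeal ≤ m → e ∈ p.asIdeal) := fun p => by
    by_cases hp : p.asIdeal ≤ m
    · exact ⟨1, (Ideal.ne_top_iff_one m).1 ‹m.IsPrime›.ne_top, fun h => absurd hp h⟩
    · obtain ⟨e, he, hem⟩ := SetLike.not_le_iff_exists.1 hp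
      exact ⟨e, hem, fun _ => he⟩
  choose sel hsel1 hsel2 using hsel
  set g := ∏ p : PrimeSpectrum R', sel p with hg
  have hgm : g ∉ m := fun h => by
    obtain ⟨p, -, hp⟩ := Ideal.IsPrime.prod_mem_iff.1 h
    exact hsel1 p hp
  refine ⟨g, hgm, ?_⟩
  let L := Localization.Away g
  have hle : ∀ (P : Ideal L), P.IsPrime → P.comap (algebraMap R' L) ≤ m := by
    intro P hP
    by_contra h
    have h1 : sel ⟨P.comap (algebraMap R' L), Ideal.IsPrime.comap _⟩ ∈ P.comap (algebraMap R' L) :=
      hsel2 ⟨P.comap (algebraMap R' L), Ideal.IsPrime.comap _⟩ h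
    have h2 : g ∈ P.comap (algebraMap R' L) := by
      exact Ideal.prod_mem (f := sel) (I := P.comap (algebraMap R' L))
        (Finset.mem_univ (⟨P.comap (algebraMap R' L), Ideal.IsPrime.comap _⟩ : PrimeSpectrum R')) h1
    exact hP.ne_top (Ideal.eq_top_of_isUnit_mem _ h2 (IsLocalization.Away.algebraMap_isUnit g))
  have hdisj : Disjoint (Submonoid.powers g : Set R') m := by
    rw [Set.disjoint_left]
    rintro _ ⟨l, rfl⟩ hl
    exact hgm (‹m.IsPrime›.mem_of_pow_mem l hl)
  set M := m.map (algebraMap R' L) with hM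
  haveI hMp : M.IsPrime := IsLocalization.isPrime_of_isPrime_disjoint _ _ m ‹_› hdisj
  have htop : ∀ (P : Ideal L), P.IsPrime → P ≤ M := fun P hP => by
    rw [← IsLocalization.map_under (Submonoid.powers g) L P]
    exact Ideal.map_mono (hle P hP)
  haveI hMmax : M.IsMaximal := by
    obtain ⟨N, hN, hMN⟩ := Ideal.exists_le_maximal M hMp.ne_top
    rwa [le_antisymm hMN (htop N hN.isPrime)]
  haveI : IsLocalRing L := IsLocalRing.of_unique_max_ideal
    ⟨M, hMmax, fun N hN => hN.eq_of_le hMp.ne_top (htop N hN.isPrime)⟩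
  haveI : Algebra.Etale R' L := inferInstance
  haveI hEt : Algebra.Etale R L := Algebra.Etale.comp R R' L
  have hmem : algebraMap R L ϖ ∈ IsLocalRing.maximalIdeal L := by
    rw [← IsLocalRing.eq_maximalIdeal hMmax, IsScalarTower.algebraMap_apply R R' L]
    exact Ideal.mem_map_of_mem _ hm
  haveI : IsLocalHom (algebraMap R L) := by
    refine ((IsLocalRing.local_hom_TFAE (algebraMap R L)).out 0 2 rfl rfl).2 ?_
    rw [hϖ.maximalIdeal_eq, Ideal.map_span, Set.image_singleton, Ideal.span_singleton_le_iff_mem]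
    exact hmem
  have hmax : IsLocalRing.maximalIdeal L = Ideal.span {algebraMap R L ϖ} := by
    rw [← Algebra.FormallyUnramified.map_maximalIdeal (R := R) (S := L), hϖ.maximalIdeal_eq, Ideal.map_span,
      Set.image_singleton]
  haveI : IsNoetherianRing L := Algebra.FiniteType.isNoetherianRing R L
  have hreg : ∀ x : L, algebraMap R L ϖ * x = 0 → x = 0 := fun x hx => by
    haveI : Module.Flat R L := inferInstance
    have h0 : IsSMulRegular L (algebraMap R L ϖ) := (IsSMulRegular.of_ne_zero hϖ.ne_zero : IsSMulRegular R ϖ).of_flat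
    exact h0.right_eq_zero_of_smul hx
  obtain ⟨hd, hdvr, hirr⟩ := exists_isDomain_dvr hmax hreg
  exact ⟨hd, hdvr, hirr, hEt⟩

/-- Recognising a principal localisation by an inverse. -/
theorem isLocalization_of_inverse {N N' : Type u} [CommRing N] [CommRing N'] [Algebra N N'] (g : N)
    (hg : IsUnit (algebraMap N N' g)) (j : N' →+* Localization.Away g)
    (hj : ∀ n, j (algebraMap N N' n) = algebraMap N (Localization.Away g) n)
    (hext : (IsLocalization.Away.lift g hg : Localization.Away g →+* N').comp j = RingHom.id N') :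
    IsLocalization.Away g N' := by
  have hl : ∀ n, (IsLocalization.Away.lift g hg : Localization.Away g →+* N') (algebraMap N _ n) = algebraMap N N' n :=
    IsLocalization.Away.lift_eq g hg
  let e : Localization.Away g ≃ₐ[N] N' := AlgEquiv.ofAlgHom
    ⟨IsLocalization.Away.lift g hg, hl⟩ ⟨j, hj⟩ (AlgHom.ext fun x => RingHom.congr_fun hext x)
    (IsLocalization.algHom_ext (Submonoid.powers g) (AlgHom.ext fun n => by
      show j ((IsLocalization.Away.lift g hg : Localization.Away g →+* N') (algebraMap N _ n)) = algebraMap N _ n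
      rw [hl, hj]))
  exact IsLocalization.isLocalization_of_algEquiv (Submonoid.powers g) e

section Scaled

variable {R' R'' : Type u} [CommRing R'] [CommRing R''] [Algebra R' R'']

/-- The node over a localised ring, with a rescaled parameter, is a localisation of the node. -/
theorem exists_node_away (g : R') [IsLocalization.Away g R''] (a : R') (b : R'') (ε : R''ˣ)
    (hab : algebraMap R' R'' a = ε * b) :
    ∃ i : nodeRing a →+* nodeRing b,
      i.comp (algebraMap R' (nodeRing a)) = (algebraMap R'' (nodeRing b)).comp (algebraMap R' R'') ∧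
      @IsLocalization.Away (nodeRing a) _ (algebraMap R' (nodeRing a) g) (nodeRing b) _ i.toAlgebra := by
  let U : nodeRing b := Ideal.Quotient.mk _ (MvPolynomial.X 0)
  let V : nodeRing b := Ideal.Quotient.mk _ (MvPolynomial.X 1)
  have hUV : U * V = algebraMap R'' (nodeRing b) b :=
    (map_mul _ _ _).symm.trans (Ideal.Quotient.eq.2 (Ideal.mem_span_singleton_self _))
  let c : R' →+* nodeRing b := (algebraMap R'' (nodeRing b)).comp (algebraMap R' R'')
  let w : Fin 2 → nodeRing b := ![algebraMap R'' (nodeRing b) ε * U, V]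
  let i : nodeRing a →+* nodeRing b := Ideal.Quotient.lift _ (MvPolynomial.eval₂Hom c w) fun z hz => by
    obtain ⟨r, rfl⟩ := Ideal.mem_span_singleton'.1 hz
    rw [map_mul, map_sub, map_mul, MvPolynomial.eval₂Hom_X', MvPolynomial.eval₂Hom_X', MvPolynomial.eval₂Hom_C]
    simp only [w, c, Matrix.cons_val_zero, Matrix.cons_val_one, RingHom.comp_apply, hab, map_mul]
    rw [mul_assoc _ U V, hUV, sub_self, mul_zero]
  have hiC : ∀ r, i (algebraMap R' (nodeRing a) r) = c r := fun r => MvPolynomial.eval₂Hom_C _ _ r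
  have hiX : ∀ k, i (Ideal.Quotient.mk _ (MvPolynomial.X k)) = w k := fun k => MvPolynomial.eval₂Hom_X' _ _ k
  refine ⟨i, RingHom.ext hiC, ?_⟩
  letI := i.toAlgebra
  set gN : nodeRing a := algebraMap R' (nodeRing a) g
  let L := Localization.Away gN
  have hgL : IsUnit (((algebraMap (nodeRing a) L).comp (algebraMap R' (nodeRing a))) g) :=
    IsLocalization.Away.algebraMap_isUnit gN
  let jR : R'' →+* L := IsLocalization.Away.lift g hgL
  have hjR : ∀ r, jR (algebraMap R' R'' r) = algebraMap (nodeRing a) L (algebraMap R' (nodeRing a) r) :=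
    IsLocalization.Away.lift_eq g hgL
  let U' : L := algebraMap (nodeRing a) L (Ideal.Quotient.mk _ (MvPolynomial.X 0))
  let V' : L := algebraMap (nodeRing a) L (Ideal.Quotient.mk _ (MvPolynomial.X 1))
  have hUV' : U' * V' = jR (algebraMap R' R'' a) := by
    rw [hjR, ← map_mul]
    exact congrArg _ ((map_mul _ _ _).symm.trans (Ideal.Quotient.eq.2 (Ideal.mem_span_singleton_self _)))
  have hinv : jR ((ε⁻¹ : R''ˣ) : R'') * jR (ε : R'') = 1 := by rw [← map_mul, Units.inv_mul, map_one]
  let w' : Fin 2 → L := ![jR ((ε⁻¹ : R''ˣ) : R'') * U', V']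
  let j : nodeRing b →+* L := Ideal.Quotient.lift _ (MvPolynomial.eval₂Hom jR w') fun z hz => by
    obtain ⟨r, rfl⟩ := Ideal.mem_span_singleton'.1 hz
    rw [map_mul, map_sub, map_mul, MvPolynomial.eval₂Hom_X', MvPolynomial.eval₂Hom_X', MvPolynomial.eval₂Hom_C]
    simp only [w', Matrix.cons_val_zero, Matrix.cons_val_one]
    rw [mul_assoc _ U' V', hUV', hab, map_mul, ← mul_assoc, hinv, one_mul, sub_self, mul_zero]
  have hjC : ∀ r, j (algebraMap R'' (nodeRing b) r) = jR r := fun r => MvPolynomial.eval₂Hom_C _ _ r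
  have hjX : ∀ k, j (Ideal.Quotient.mk _ (MvPolynomial.X k)) = w' k := fun k => MvPolynomial.eval₂Hom_X' _ _ k
  have hgu : IsUnit (algebraMap (nodeRing a) (nodeRing b) gN) := by
    show IsUnit (i gN)
    rw [hiC]
    exact (IsLocalization.Away.algebraMap_isUnit g).map (algebraMap R'' (nodeRing b))
  have hj : ∀ n, j (i n) = algebraMap (nodeRing a) L n := by
    have : j.comp i = algebraMap (nodeRing a) L := by
      refine Ideal.Quotient.ringHom_ext (MvPolynomial.ringHom_ext (fun r => ?_) fun k => ?_)
      · show j (i (algebraMap R' (nodeRing a) r)) = algebraMap (nodeRing a) L (algebraMap R' (nodeRing a) r)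
        rw [hiC]
        exact (hjC _).trans (hjR r)
      · show j (i (Ideal.Quotient.mk _ (MvPolynomial.X k))) = algebraMap (nodeRing a) L (Ideal.Quotient.mk _ (MvPolynomial.X k))
        rw [hiX]
        fin_cases k
        · show j (algebraMap R'' (nodeRing b) ε * U) = U'
          rw [map_mul, hjC, show j U = jR ((ε⁻¹ : R''ˣ) : R'') * U' from hjX 0, ← mul_assoc, mul_comm (jR _), hinv,
            one_mul]
        · exact hjX 1
    exact RingHom.congr_fun this
  refine isLocalization_of_inverse gN hgu j hj ?_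
  set l : L →+* nodeRing b := IsLocalization.Away.lift gN hgu with hldef
  have hl : ∀ n, l (algebraMap (nodeRing a) L n) = i n := IsLocalization.Away.lift_eq gN hgu
  have hlR : l.comp jR = algebraMap R'' (nodeRing b) :=
    IsLocalization.ringHom_ext (Submonoid.powers g) (RingHom.ext fun r => by
      show l (jR (algebraMap R' R'' r)) = algebraMap R'' (nodeRing b) (algebraMap R' R'' r)
      rw [hjR, hl, hiC]; rfl)
  refine Ideal.Quotient.ringHom_ext (MvPolynomial.ringHom_ext (fun r => ?_) fun k => ?_)
  · show l (j (algebraMap R'' (nodeRing b) r)) = algebraMap R'' (nodeRing b) r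
    rw [hjC]
    exact RingHom.congr_fun hlR r
  · show l (j (Ideal.Quotient.mk _ (MvPolynomial.X k))) = Ideal.Quotient.mk _ (MvPolynomial.X k)
    rw [hjX]
    fin_cases k
    · show l (jR ((ε⁻¹ : R''ˣ) : R'') * U') = U
      rw [map_mul, show l (jR ((ε⁻¹ : R''ˣ) : R'')) = algebraMap R'' (nodeRing b) ((ε⁻¹ : R''ˣ) : R'') from
        RingHom.congr_fun hlR _, show l U' = algebraMap R'' (nodeRing b) ε * U from (hl _).trans (hiX 0),
        ← mul_assoc, ← map_mul, Units.inv_mul, map_one, one_mul]
    · exact (hl _).trans (hiX 1)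

end Scaled

/-- The punctured line as a node. -/
theorem exists_node_punctured (R : Type u) [CommRing R] (T : MvPolynomial (Fin 1) R) (c : R)
    (hT : T = MvPolynomial.X 0 + MvPolynomial.C c) :
    ∃ i : MvPolynomial (Fin 1) R →+* nodeRing (1 : R),
      i.comp MvPolynomial.C = algebraMap R (nodeRing (1 : R)) ∧
      @IsLocalization.Away (MvPolynomial (Fin 1) R) _ T (nodeRing (1 : R)) _ i.toAlgebra := by
  let U : nodeRing (1 : R) := Ideal.Quotient.mk _ (MvPolynomial.X 0)
  let V : nodeRing (1 : R) := Ideal.Quotient.mk _ (MvPolynomial.X 1)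
  have hUV : U * V = 1 :=
    (map_mul _ _ _).symm.trans ((Ideal.Quotient.eq.2 (Ideal.mem_span_singleton_self _)).trans (map_one _))
  let i : MvPolynomial (Fin 1) R →+* nodeRing (1 : R) :=
    MvPolynomial.eval₂Hom (algebraMap R (nodeRing (1 : R))) fun _ => U - algebraMap R _ c
  have hiC : ∀ r, i (MvPolynomial.C r) = algebraMap R (nodeRing (1 : R)) r := fun r => MvPolynomial.eval₂Hom_C _ _ r
  have hiT : i T = U := by
    rw [hT, map_add, hiC, show i (MvPolynomial.X 0) = U - algebraMap R _ c from MvPolynomial.eval₂Hom_X' _ _ _,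
      sub_add_cancel]
  refine ⟨i, RingHom.ext hiC, ?_⟩
  letI := i.toAlgebra
  let L := Localization.Away T
  let t : L := algebraMap (MvPolynomial (Fin 1) R) L T
  let t' : L := IsLocalization.Away.invSelf T
  have htt : t * t' = 1 := IsLocalization.Away.mul_invSelf _
  let j : nodeRing (1 : R) →+* L := Ideal.Quotient.lift _
    (MvPolynomial.eval₂Hom ((algebraMap (MvPolynomial (Fin 1) R) L).comp MvPolynomial.C) ![t, t']) fun z hz => by
    obtain ⟨r, rfl⟩ := Ideal.mem_span_singleton'.1 hz
    rw [map_mul, map_sub, map_mul, MvPolynomial.eval₂Hom_X', MvPolynomial.eval₂Hom_X', MvPolynomial.eval₂Hom_C]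
    simp only [Matrix.cons_val_zero, Matrix.cons_val_one, map_one, htt, sub_self, mul_zero]
  have hjC : ∀ r, j (algebraMap R (nodeRing (1 : R)) r) = algebraMap (MvPolynomial (Fin 1) R) L (MvPolynomial.C r) :=
    fun r => MvPolynomial.eval₂Hom_C _ _ r
  have hjX : ∀ k, j (Ideal.Quotient.mk _ (MvPolynomial.X k)) = ![t, t'] k := fun k => MvPolynomial.eval₂Hom_X' _ _ k
  have hgu : IsUnit (algebraMap (MvPolynomial (Fin 1) R) (nodeRing (1 : R)) T) := by
    show IsUnit (i T)
    rw [hiT]
    exact IsUnit.of_mul_eq_one _ hUV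
  have hj : ∀ n, j (i n) = algebraMap (MvPolynomial (Fin 1) R) L n := by
    have : j.comp i = algebraMap (MvPolynomial (Fin 1) R) L := by
      refine MvPolynomial.ringHom_ext (fun r => ?_) fun k => ?_
      · show j (i (MvPolynomial.C r)) = _
        rw [hiC, hjC]
      · obtain rfl : k = 0 := Subsingleton.elim _ _
        show j (i (MvPolynomial.X 0)) = _
        rw [show i (MvPolynomial.X 0) = U - algebraMap R _ c from MvPolynomial.eval₂Hom_X' _ _ _, map_sub, hjC,
          show j U = t from hjX 0, ← map_sub]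
        exact congrArg _ (by rw [sub_eq_iff_eq_add]; exact hT)
    exact RingHom.congr_fun this
  refine isLocalization_of_inverse T hgu j hj ?_
  set l : L →+* nodeRing (1 : R) := IsLocalization.Away.lift T hgu with hldef
  have hl : ∀ n, l (algebraMap (MvPolynomial (Fin 1) R) L n) = i n := IsLocalization.Away.lift_eq T hgu
  refine Ideal.Quotient.ringHom_ext (MvPolynomial.ringHom_ext (fun r => ?_) fun k => ?_)
  · show l (j (algebraMap R (nodeRing (1 : R)) r)) = algebraMap R (nodeRing (1 : R)) r
    rw [hjC, hl, hiC]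
  · show l (j (Ideal.Quotient.mk _ (MvPolynomial.X k))) = Ideal.Quotient.mk _ (MvPolynomial.X k)
    rw [hjX]
    fin_cases k
    · exact (hl _).trans hiT
    · show l t' = V
      have h1 : U * l t' = 1 := by rw [← hiT, ← hl, ← map_mul]; exact (congrArg l htt).trans (map_one l)
      calc l t' = (U * V) * l t' := by rw [hUV, one_mul]
        _ = (U * l t') * V := by ring
        _ = V := by rw [h1, one_mul]

end

end Groth.Agent.NodeFam
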