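import Groth.Agent.NodeFam.NodeAway
import Mathlib.RingTheory.Filtration
import Mathlib.RingTheory.Flat.Equalizer
import Mathlib.RingTheory.LocalRing.Module
import Mathlib.RingTheory.Support

/-!
# Near a node the curve is cut out by one equation in an étale plane
-/

set_option autoImplicit false
set_option linter.style.haveILetI false

universe u

open scoped TensorProduct
open MvPowerSeries

namespace Groth.Agent.NodeFam

noncomputable section

variable {R B A K : Type u} [CommRing R] [CommRing B] [Algebra R B] [CommRing A] [Algebra R A] [Field K] [Algebra R K]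
  [Algebra (MvPolynomial (Fin 2) R) B] [IsScalarTower R (MvPolynomial (Fin 2) R) B]
  [Algebra.FormallyEtale (MvPolynomial (Fin 2) R) B]

/-- Nested ideals of equal finite codimension agree. -/
theorem eq_of_le_of_finrank_quotient {I I' : Ideal (PS2 K)} (h : I ≤ I') [Module.Finite K (PS2 K ⧸ I)]
    (hd : Module.finrank K (PS2 K ⧸ I) = Module.finrank K (PS2 K ⧸ I')) : I' = I := by
  let π := (Ideal.Quotient.factorₐ K h).toLinearMap
  have hπ : Function.Surjective π := Ideal.Quotient.factor_surjective h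
  haveI : Module.Finite K (PS2 K ⧸ I') := Module.Finite.of_surjective π hπ
  have hinj : Function.Injective π :=
    (LinearMap.injective_iff_surjective_of_finrank_eq_finrank hd).2 hπ
  refine le_antisymm (fun z hz => ?_) h
  refine Ideal.Quotient.eq_zero_iff_mem.1 (hinj ?_)
  rw [map_zero]
  exact Ideal.Quotient.eq_zero_iff_mem.2 hz

/-- The expanded ideal of a node is generated by a series of order two. -/
theorem exists_series_of_node (q : B →ₐ[R] A) (hq : Function.Surjective q) (θA : A →ₐ[R] K)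
    (h : NodeCrit K (RingHom.ker (pointExt θA))) {ψ : B →ₐ[R] PS2 K}
    (hψ : ∀ l, ψ (coordFun (R := R) l) = MvPowerSeries.C (θA (q (coordFun (R := R) l))) + MvPowerSeries.X l)
    (hcc : ∀ b, constantCoeff (ψ b) = θA (q b)) :
    (RingHom.ker q).map ψ ≤ PSLib.vars 2 K ^ 2 ∧
      ∃ z, q z = 0 ∧ (RingHom.ker q).map ψ = Ideal.span {ψ z} := by
  set J := (RingHom.ker q).map ψ with hJ
  obtain ⟨Φ, -, hle, hinj, hsurj⟩ := exists_taylorQuot q hq θA hψ hcc J hJ.symm
  have hO := (nodeCrit_iff Φ hle hinj hsurj).1 h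
  have hd : ∀ n : ℕ, Module.finrank K (PS2 K ⧸ (J ⊔ PSLib.vars 2 K ^ (n + 1))) = 2 * n + 1 := fun n => by
    rw [← hO.1 n, ← Ideal.map_pow]
    exact (LinearEquiv.finrank_eq
      (DoubleQuot.quotQuotEquivQuotSupₐ K J (PSLib.vars 2 K ^ (n + 1))).toLinearEquiv).symm
  haveI hfin : ∀ n, Module.Finite K (PS2 K ⧸ PSLib.vars 2 K ^ n) := fun n => (finrank_vars_pow (K := K) n).2
  have hJ2 : J ≤ PSLib.vars 2 K ^ 2 := by
    have e := eq_of_le_of_finrank_quotient (le_sup_right : PSLib.vars 2 K ^ (1 + 1) ≤ J ⊔ _) (by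
      have h1 := (finrank_vars_pow (K := K) (1 + 1)).1
      rw [hd 1]
      norm_num at h1 ⊢
      omega)
    exact le_sup_left.trans e.le
  refine ⟨hJ2, ?_⟩
  obtain ⟨z, hz, hz3⟩ : ∃ z, q z = 0 ∧ ψ z ∉ PSLib.vars 2 K ^ 3 := by
    by_contra hall
    push Not at hall
    have hle3 : J ≤ PSLib.vars 2 K ^ (2 + 1) := by
      rw [hJ, Ideal.map_le_iff_le_comap]; exact fun z hz => hall z hz
    have h1 := hd 2
    rw [sup_eq_right.2 hle3] at h1
    have h2 := (finrank_vars_pow (K := K) (2 + 1)).1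
    rw [h1] at h2
    norm_num at h2
  refine ⟨z, hz, le_antisymm (fun g hg => ?_) ((Ideal.span_singleton_le_iff_mem _).2 (Ideal.mem_map_of_mem ψ hz))⟩
  have hzmem : ψ z ∈ PSLib.vars 2 K ^ 2 := hJ2 (Ideal.mem_map_of_mem ψ hz)
  have hord : (ψ z).order ≤ 2 := by
    rw [← le_order_iff] at hz3
    revert hz3
    generalize (ψ z).order = o
    intro hz3
    induction o using ENat.recTopCoe with
    | top => exact absurd le_top hz3
    | coe m =>
      have : ¬ (3 ≤ m) := fun h => hz3 (by exact_mod_cast h)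
      exact_mod_cast (by omega : m ≤ 2)
  refine mem_of_forall_mem_sup_pow ((Ideal.span_singleton_le_iff_mem _).2
    (Ideal.pow_le_self two_ne_zero hzmem)) fun n => ?_
  have hle' : Ideal.span {ψ z} ⊔ PSLib.vars 2 K ^ (n + 1) ≤ J ⊔ PSLib.vars 2 K ^ (n + 1) :=
    sup_le_sup_right ((Ideal.span_singleton_le_iff_mem _).2 (Ideal.mem_map_of_mem ψ hz)) _
  haveI : Module.Finite K (PS2 K ⧸ (Ideal.span {ψ z} ⊔ PSLib.vars 2 K ^ (n + 1))) :=
    FiniteDimensional.of_finrank_pos (by rw [finrank_series_trunc hzmem hord]; omega)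
  have e := eq_of_le_of_finrank_quotient hle' (by rw [hd, finrank_series_trunc hzmem hord])
  exact e.le (Ideal.mem_sup_left hg)

/-- At a node of a plane cut the Hessian of the equation does not vanish. -/
theorem hessian_ne_zero [IsAlgClosed K] (q : B →ₐ[R] A) (hq : Function.Surjective q) {h : B}
    (hker : RingHom.ker q = Ideal.span {h}) {δ : Fin 2 → Derivation R B B}
    (hδ : ∀ i j, δ i (coordFun (R := R) j) = if i = j then 1 else 0) (θA : A →ₐ[R] K)
    (hnode : NodeCrit K (RingHom.ker (pointExt θA))) : θA (q (hessian δ h)) ≠ 0 := by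
  obtain ⟨ψ, hψ, hcc⟩ := exists_taylor (θA.comp q)
  have hJ : (RingHom.ker q).map ψ = Ideal.span {ψ h} := by rw [hker, Ideal.map_span, Set.image_singleton]
  have h2 := (exists_series_of_node q hq θA hnode hψ hcc).1
  rw [hJ, Ideal.span_singleton_le_iff_mem] at h2
  obtain ⟨Φ, -, hle, hinj, hsurj⟩ := exists_taylorQuot q hq θA hψ hcc (Ideal.span {ψ h}) hJ
  have := disc_ne_zero_of_nodeCrit h2 ((nodeCrit_iff Φ hle hinj hsurj).1 hnode)
  rwa [constantCoeff_hessian hδ hψ hcc] at this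

/-- A finite module killed by tensoring with a point is killed by an element not vanishing there. -/
theorem exists_smul_eq_zero_of_tensor {Q : Type u} [AddCommGroup Q] [Module B Q] [Module.Finite B Q] [Algebra B K]
    (h : Subsingleton (K ⊗[B] Q)) : ∃ σ : B, algebraMap B K σ ≠ 0 ∧ ∀ x : Q, σ • x = 0 := by
  obtain ⟨p, hpdef⟩ : ∃ p : PrimeSpectrum B, p.asIdeal = RingHom.ker (algebraMap B K) :=
    ⟨⟨RingHom.ker (algebraMap B K), RingHom.ker_isPrime _⟩, rfl⟩
  haveI : p.asIdeal.IsPrime := p.isPrime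
  have hns : p ∉ Module.support B Q := by
    intro hp
    rw [Module.mem_support_iff_nontrivial_residueField_tensorProduct] at hp
    let i : p.asIdeal.ResidueField →ₐ[B] K :=
      Ideal.ResidueField.liftₐ p.asIdeal (Algebra.ofId B K) (le_of_eq hpdef) (fun b hb => by
        have h0 : algebraMap B K b ≠ 0 := fun h0 => hb (by rw [hpdef]; exact h0)
        exact isUnit_iff_ne_zero.2 h0)
    letI : Algebra p.asIdeal.ResidueField K := i.toRingHom.toAlgebra
    haveI : IsScalarTower B p.asIdeal.ResidueField K := IsScalarTower.of_algebraMap_eq fun b => (i.commutes b).symm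
    haveI : Module.FaithfullyFlat p.asIdeal.ResidueField K := inferInstance
    haveI : Nontrivial (K ⊗[p.asIdeal.ResidueField] (p.asIdeal.ResidueField ⊗[B] Q)) :=
      Module.FaithfullyFlat.lTensor_nontrivial _ K _
    haveI : Nontrivial (K ⊗[B] Q) :=
      (TensorProduct.AlgebraTensorModule.cancelBaseChange B p.asIdeal.ResidueField K K Q).symm.toEquiv.nontrivial
    exact not_subsingleton _ h
  rw [Module.notMem_support_iff] at hns
  obtain ⟨s, hs⟩ : ∃ s : p.asIdeal.primeCompl, ∀ x : Q, (s : B) • x = 0 := by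
    obtain ⟨G, hG⟩ := (Module.Finite.fg_top : (⊤ : Submodule B Q).FG)
    have hx : ∀ x : Q, ∃ s : p.asIdeal.primeCompl, (s : B) • x = 0 := fun x => by
      obtain ⟨s, hs, hsx⟩ := (LocalizedModule.subsingleton_iff).1 hns x
      exact ⟨⟨s, hs⟩, hsx⟩
    choose s hs using hx
    classical
    refine ⟨∏ x ∈ G, s x, fun x => ?_⟩
    have hle : (⊤ : Submodule B Q) ≤ LinearMap.ker (LinearMap.lsmul B Q ((∏ y ∈ G, s y : p.asIdeal.primeCompl) : B)) := by
      rw [← hG, Submodule.span_le]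
      intro y hy
      show ((∏ z ∈ G, s z : p.asIdeal.primeCompl) : B) • y = 0
      rw [← Finset.mul_prod_erase G s hy, Submonoid.coe_mul, mul_comm, mul_smul, hs, smul_zero]
    exact hle Submodule.mem_top
  exact ⟨s, fun h0 => s.2 (show (s : B) ∈ p.asIdeal from (SetLike.ext_iff.1 hpdef (s : B)).2 h0), hs⟩

/-- Near a node a plane cut is given by one equation. -/
theorem exists_equation [IsAlgClosed K] [Algebra.FiniteType R B] [Module.Flat R A] (q : B →ₐ[R] A)
    (hq : Function.Surjective q) (hfg : (RingHom.ker q).FG) (θA : A →ₐ[R] K)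
    (hnode : NodeCrit K (RingHom.ker (pointExt θA))) :
    ∃ h σ : B, q h = 0 ∧ θA (q σ) ≠ 0 ∧ ∀ z, q z = 0 → σ * z ∈ Ideal.span {h} := by
  obtain ⟨ψ, hψ, hcc⟩ := exists_taylor (θA.comp q)
  obtain ⟨-, h, hh, hJ⟩ := exists_series_of_node q hq θA hnode hψ hcc
  obtain ⟨hinj, hsurj⟩ := taylorExt_spec (θ := θA.comp q) hψ hcc
  set M := RingHom.ker (pointExt (θA.comp q)) with hM
  let N : Ideal B := RingHom.ker q
  let NR : Submodule R B := N.restrictScalars R
  let Q := N ⧸ (Submodule.span B {(⟨h, hh⟩ : N)})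
  haveI : Module.Finite B N := Module.Finite.iff_fg.2 hfg
  letI : Algebra B K := (θA.comp q).toRingHom.toAlgebra
  haveI : IsScalarTower R B K := IsScalarTower.of_algebraMap_eq fun r => ((θA.comp q).commutes r).symm
  haveI : IsNoetherianRing (K ⊗[R] B) := Algebra.FiniteType.isNoetherianRing K _
  -- multiplication by an element of the kernel
  let mkQ : N →ₗ[B] Q := Submodule.mkQ _
  let T : N → (K ⊗[R] B →ₗ[R] K ⊗[R] N) := fun n => LinearMap.lTensor K ((LinearMap.toSpanSingleton B N n).restrictScalars R)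
  let i : K ⊗[R] N →ₗ[R] K ⊗[R] B := LinearMap.lTensor K (N.subtype.restrictScalars R)
  let Λ : K ⊗[R] N →ₗ[R] K ⊗[B] Q :=
    TensorProduct.lift (((TensorProduct.mk B K Q).compl₂ mkQ).restrictScalars₁₂ R R)
  have hi : Function.Injective i :=
    LinearMap.lTensor_injective_of_exact_of_flat q.toLinearMap hq (N.subtype.restrictScalars R) Subtype.val_injective
      (fun z => ⟨fun hz => ⟨⟨z, hz⟩, rfl⟩, fun ⟨w, hw⟩ => hw ▸ w.2⟩) K
  have hiT : ∀ n μ, i (T n μ) = μ * ((1 : K) ⊗ₜ (n : B)) := by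
    intro n μ
    induction μ using TensorProduct.induction_on with
    | zero => simp
    | tmul l b => simp [i, T, Algebra.TensorProduct.tmul_mul_tmul]
    | add μ μ' hμ hμ' => rw [map_add, map_add, add_mul, hμ, hμ']
  have hΛT : ∀ n μ, Λ (T n μ) = (pointExt (θA.comp q) μ) • ((1 : K) ⊗ₜ[B] mkQ n) := by
    intro n μ
    induction μ using TensorProduct.induction_on with
    | zero => simp
    | tmul l b =>
      show l ⊗ₜ[B] mkQ (b • n) = _
      rw [map_smul, TensorProduct.tmul_smul, TensorProduct.smul_tmul', TensorProduct.smul_tmul',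
        Algebra.TensorProduct.lift_tmul, smul_eq_mul, mul_one]
      congr 1
      rw [Algebra.smul_def, mul_comm]
      rfl
    | add μ μ' hμ hμ' => rw [map_add, map_add, map_add, hμ, hμ', add_smul]
  -- the extended kernel
  set NK := N.map (Algebra.TensorProduct.includeRight : B →ₐ[R] K ⊗[R] B) with hNK
  have hS : ∀ z ∈ M * NK, ∃ z', i z' = z ∧ Λ z' = 0 := by
    intro z hz
    refine Submodule.mul_induction_on hz (fun μ hμ r hr => ?_) fun z z' hz hz' => ?_
    · induction hr using Submodule.span_induction generalizing μ with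
      | mem r hr =>
        obtain ⟨n, hn, rfl⟩ := hr
        refine ⟨T ⟨n, hn⟩ μ, hiT ⟨n, hn⟩ μ, ?_⟩
        rw [hΛT, show pointExt (θA.comp q) μ = 0 from hμ, zero_smul]
      | zero => exact ⟨0, by simp, by simp⟩
      | add r r' _ _ hr hr' =>
        obtain ⟨w, hw, hw0⟩ := hr μ hμ; obtain ⟨w', hw', hw0'⟩ := hr' μ hμ
        exact ⟨w + w', by rw [map_add, hw, hw', mul_add], by rw [map_add, hw0, hw0', add_zero]⟩
      | smul g r _ hr =>
        obtain ⟨w, hw, hw0⟩ := hr (μ * g) (Ideal.mul_mem_right _ _ hμ)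
        exact ⟨w, by rw [hw, smul_eq_mul, mul_assoc], hw0⟩
    · obtain ⟨w, hw, hw0⟩ := hz; obtain ⟨w', hw', hw0'⟩ := hz'
      exact ⟨w + w', by rw [map_add, hw, hw'], by rw [map_add, hw0, hw0', add_zero]⟩
  have hh0 : mkQ ⟨h, hh⟩ = 0 := (Submodule.Quotient.mk_eq_zero _).2 (Submodule.mem_span_singleton_self _)
  have hzero : ∀ n : N, (1 : K) ⊗ₜ[B] mkQ n = 0 := by
    intro n
    obtain ⟨k, hk⟩ := M.exists_pow_inf_eq_pow_smul NK
    have hn : ψ n ∈ Ideal.span {ψ h} := hJ ▸ Ideal.mem_map_of_mem ψ n.2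
    obtain ⟨g, hg⟩ := Ideal.mem_span_singleton'.1 hn
    obtain ⟨g₀, hg₀⟩ := hsurj (k + 1) g
    have hΨ : ∀ b, taylorExt ψ ((1 : K) ⊗ₜ b) = ψ b := fun b => by
      rw [Algebra.TensorProduct.lift_tmul, map_one, one_mul]
    have hw : ((1 : K) ⊗ₜ (n : B)) - g₀ * ((1 : K) ⊗ₜ h) ∈ M ^ (k + 1) := by
      refine (hinj _ _).1 ?_
      rw [map_sub, map_mul, hΨ, hΨ, ← hg, ← sub_mul]
      exact Ideal.mul_mem_right _ _ hg₀
    have hwN : ((1 : K) ⊗ₜ (n : B)) - g₀ * ((1 : K) ⊗ₜ h) ∈ NK :=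
      sub_mem (Ideal.mem_map_of_mem _ n.2) (Ideal.mul_mem_left _ _ (Ideal.mem_map_of_mem _ hh))
    have hMN : ((1 : K) ⊗ₜ (n : B)) - g₀ * ((1 : K) ⊗ₜ h) ∈ M * NK := by
      have h1 : ((1 : K) ⊗ₜ (n : B)) - g₀ * ((1 : K) ⊗ₜ h) ∈
          (M ^ (k + 1) • ⊤ ⊓ NK : Submodule (K ⊗[R] B) (K ⊗[R] B)) := ⟨by rw [smul_eq_mul, Ideal.mul_top]; exact hw, hwN⟩
      rw [hk (k + 1) (Nat.le_succ k), Nat.add_sub_cancel_left, pow_one] at h1
      exact (Submodule.smul_mono le_rfl inf_le_right : M • _ ≤ M • NK) h1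
    obtain ⟨w, hw', hw0⟩ := hS _ hMN
    have e : T n 1 = T ⟨h, hh⟩ g₀ + w := hi (by rw [map_add, hiT, hiT, hw', one_mul]; ring)
    have e' := congrArg Λ e
    rw [map_add, hΛT, hΛT, hw0, map_one, one_smul, hh0, TensorProduct.tmul_zero, smul_zero, add_zero] at e'
    exact e'
  have hsub : Subsingleton (K ⊗[B] Q) := by
    refine ⟨fun z z' => ?_⟩
    have : ∀ z : K ⊗[B] Q, z = 0 := fun z => by
      induction z using TensorProduct.induction_on with
      | zero => rfl
      | tmul l x =>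
        obtain ⟨n, rfl⟩ := Submodule.mkQ_surjective _ x
        rw [show l = l • (1 : K) by simp, ← TensorProduct.smul_tmul']
        show l • ((1 : K) ⊗ₜ[B] mkQ n) = 0
        rw [hzero, smul_zero]
      | add z z' hz hz' => rw [hz, hz', add_zero]
    rw [this z, this z']
  obtain ⟨σ, hσ, hσQ⟩ := exists_smul_eq_zero_of_tensor (K := K) hsub
  refine ⟨h, σ, hh, hσ, fun z hz => ?_⟩
  have h1 := hσQ (mkQ ⟨z, hz⟩)
  rw [← map_smul] at h1
  obtain ⟨r, hr⟩ := Submodule.mem_span_singleton.1 ((Submodule.Quotient.mk_eq_zero _).1 h1)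
  exact Ideal.mem_span_singleton'.2 ⟨r, congrArg Subtype.val hr⟩

end

end Groth.Agent.NodeFam
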