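import Groth.Agent.NodeFam.NodeAffine

/-!
# An affine chart of a fibre
-/

set_option autoImplicit false
set_option backward.isDefEq.respectTransparency false
set_option backward.isDefEq.respectTransparency.types false
set_option linter.style.haveILetI false

universe u

open CategoryTheory CategoryTheory.Limits AlgebraicGeometry
open scoped TensorProduct

namespace Groth.Agent.NodeFam

noncomputable section

/-- The fibre meets an affine chart in the spectrum of the base change. -/
theorem exists_fibreChart {C S : Scheme.{u}} (π : C ⟶ S) {V : S.Opens} (hV : IsAffineOpen V) {U : C.Opens}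
    (hU : IsAffineOpen U) [Algebra Γ(S, V) Γ(C, U)] (e : U ≤ π ⁻¹ᵁ V)
    (halg : algebraMap Γ(S, V) Γ(C, U) = (π.appLE V U e).hom) (s : S) (hs : s ∈ V)
    [Algebra Γ(S, V) (S.residueField s)]
    (hres : algebraMap Γ(S, V) (S.residueField s) = (S.presheaf.germ V s hs ≫ S.residue s).hom) :
    ∃ j : Spec (CommRingCat.of (S.residueField s ⊗[Γ(S, V)] Γ(C, U))) ⟶ π.fiber s, IsOpenImmersion j ∧
      Spec.map (CommRingCat.ofHom (algebraMap (S.residueField s) (S.residueField s ⊗[Γ(S, V)] Γ(C, U)))) =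
        j ≫ π.fiberToSpecResidueField s ∧
      (∀ N, π.fiberι s (j N) = hU.fromSpec ((Spec.map (CommRingCat.ofHom
        (Algebra.TensorProduct.includeRight : Γ(C, U) →ₐ[Γ(S, V)] S.residueField s ⊗[Γ(S, V)] Γ(C, U)).toRingHom)) N)) ∧
      ∀ z, π.fiberι s z ∈ U → z ∈ Set.range j := by
  have hχ : Spec.map (CommRingCat.ofHom (algebraMap Γ(S, V) (S.residueField s))) ≫ hV.fromSpec =
      S.fromSpecResidueField s := by
    rw [hres, CommRingCat.ofHom_hom, Spec.map_comp, Category.assoc, Scheme.fromSpecResidueField,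
      ← hV.fromSpecStalk_eq_fromSpecStalk hs]
    rfl
  have hφ : Spec.map (CommRingCat.ofHom (algebraMap Γ(S, V) Γ(C, U))) ≫ hV.fromSpec = hU.fromSpec ≫ π := by
    rw [halg, CommRingCat.ofHom_hom]
    exact hV.SpecMap_appLE_fromSpec π hU e
  have hpo : IsPullback (Spec.map (CommRingCat.ofHom
        (Algebra.TensorProduct.includeRight : Γ(C, U) →ₐ[Γ(S, V)] S.residueField s ⊗[Γ(S, V)] Γ(C, U)).toRingHom))
      (Spec.map (CommRingCat.ofHom (algebraMap (S.residueField s) (S.residueField s ⊗[Γ(S, V)] Γ(C, U)))))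
      (Spec.map (CommRingCat.ofHom (algebraMap Γ(S, V) Γ(C, U))))
      (Spec.map (CommRingCat.ofHom (algebraMap Γ(S, V) (S.residueField s)))) :=
    (isPullback_SpecMap_of_isPushout _ _ _ _
      (CommRingCat.isPushout_tensorProduct Γ(S, V) (S.residueField s) Γ(C, U))).flip
  let m := pullback.map (Spec.map (CommRingCat.ofHom (algebraMap Γ(S, V) Γ(C, U))))
      (Spec.map (CommRingCat.ofHom (algebraMap Γ(S, V) (S.residueField s)))) π (S.fromSpecResidueField s)
      hU.fromSpec (𝟙 _) hV.fromSpec hφ (by rw [hχ, Category.id_comp])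
  refine ⟨hpo.isoPullback.hom ≫ m, inferInstance, ?_, fun N => ?_, fun z hz => ?_⟩
  · rw [Category.assoc]
    exact (hpo.isoPullback_hom_snd).symm.trans (congrArg (hpo.isoPullback.hom ≫ ·)
      ((pullback.lift_snd _ _ _).trans (Category.comp_id _)).symm)
  · have h1 : (hpo.isoPullback.hom ≫ m) ≫ π.fiberι s = Spec.map (CommRingCat.ofHom
        (Algebra.TensorProduct.includeRight : Γ(C, U) →ₐ[Γ(S, V)] S.residueField s ⊗[Γ(S, V)] Γ(C, U)).toRingHom) ≫
        hU.fromSpec := by
      rw [Category.assoc]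
      exact (congrArg (hpo.isoPullback.hom ≫ ·) (pullback.lift_fst _ _ _)).trans
        ((Category.assoc _ _ _).symm.trans (congrArg (· ≫ hU.fromSpec) hpo.isoPullback_hom_fst))
    rw [← Scheme.Hom.comp_apply, h1, Scheme.Hom.comp_apply]
    rfl
  · have h1 : z ∈ Set.range m := by
      rw [Scheme.Pullback.range_map]
      refine ⟨?_, ⟨_, rfl⟩⟩
      show π.fiberι s z ∈ Set.range hU.fromSpec
      rw [hU.range_fromSpec]
      exact hz
    obtain ⟨w, hw⟩ := h1
    exact ⟨hpo.isoPullback.inv w, by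
      rw [← Scheme.Hom.comp_apply, Iso.inv_hom_id_assoc]; exact hw⟩

end

end Groth.Agent.NodeFam
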