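import Groth.Agent.NodeFam.NodeOpen
import Groth.Agent.NodeFam.NodeLocal
import Groth.Agent.FibDim.Basic
import Groth.Agent.FibDim.Minimal
import Groth.Agent.S0402
import Groth.Agent.S2768

/-!
# The nodal locus of a flat family
-/

set_option autoImplicit false
set_option backward.isDefEq.respectTransparency false
set_option backward.isDefEq.respectTransparency.types false
set_option linter.style.haveILetI false

universe u

open CategoryTheory CategoryTheory.Limits AlgebraicGeometry

namespace Groth.Agent.NodeFam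

noncomputable section

variable {k : Type u} [Field k] {F Y : Scheme.{u}}

section Field

variable (g : F ⟶ Spec (CommRingCat.of k))

/-- Every component through the point is a curve. -/
def DimOne (w : F) : Prop := ∀ z, z ⤳ w → (∀ y, y ⤳ z → y = z) → VarDim.deg g z = 1

/-- A smooth point or a node, all components through it being curves. -/
def GoodPt [LocallyOfFinitePresentation g] (w : F) : Prop :=
  (w ∈ g.smoothLocus ∨ NodeVia (AlgebraicClosure k) g w) ∧ DimOne g w

variable [LocallyOfFiniteType g]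

theorem deg_eq_rd (x : F) : VarDim.deg g x = FibDim.rd g x := by
  have h : (VarDim.deg g x : Cardinal) = (FibDim.rd g x : Cardinal) := by
    rw [FibDim.rd_eq_rdeg, VarDim.deg_eq_tdeg, VarDim.tdeg_eq_rdeg]
  exact_mod_cast h

/-- A nodal curve is one all whose points are good. -/
theorem nodalCurve_iff_forall [LocallyOfFinitePresentation g] : NodalCurve g ↔ ∀ w, GoodPt g w := by
  refine ⟨fun h w => ⟨h.smooth_or_node w, fun z _ hz => (comps_iff g).1 h.1 z hz⟩, fun h => ⟨?_, fun x _ => ?_⟩⟩
  · exact (comps_iff g).2 fun z hz => (h z).2 z specializes_rfl hz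
  · exact (h x).1.imp (exists_smooth_nhd_iff g x).2 id

/-- Goodness is local. -/
theorem goodPt_comp_iff [LocallyOfFinitePresentation g] (j : Y ⟶ F) [IsOpenImmersion j] (y : Y) :
    GoodPt (j ≫ g) y ↔ GoodPt g (j y) := by
  refine and_congr (or_congr ?_ (nodeVia_iff_of_etale (AlgebraicClosure k) j g _ rfl y).symm) ⟨fun h z hz hmax => ?_,
    fun h z hz hmax => ?_⟩
  · rw [← Scheme.Hom.preimage_smoothLocus_eq]
    exact Iff.rfl
  · obtain ⟨z', rfl⟩ : z ∈ Set.range j := hz.mem_open j.isOpenEmbedding.isOpen_range ⟨y, rfl⟩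
    rw [← deg_comp_etale]
    exact h z' (j.isOpenEmbedding.isInducing.specializes_iff.1 hz) fun w hw => maximal_of_etale_image j g hmax w hw
  · rw [deg_comp_etale]
    exact h (j z) (hz.map j.continuous) (maximal_of_etale j hmax)

/-- Near a point whose components are curves the dimension is at most one. -/
theorem exists_nhd_deg_le_one (x : F) (h : DimOne g x) : ∃ O : F.Opens, x ∈ O ∧ ∀ w ∈ O, VarDim.deg g w ≤ 1 := by
  obtain ⟨O, hxO, hO⟩ := VarDim.exists_nhd g x
  refine ⟨O, hxO, fun w hw => ?_⟩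
  obtain ⟨η, hη, hle⟩ := hO w hw
  obtain ⟨z, hz, hmax⟩ := VarDim.exists_maximal_generalization g η
  exact hle.trans ((VarDim.deg_le_of_specializes g hz).trans (h z (hz.trans hη) hmax).le)

variable (K : Type u) [Field K] [Algebra k K]

theorem maximal_bc {η : ↥(pullback g (extMap k K))} (h : ∀ y, y ⤳ η → y = η) :
    (∀ y, y ⤳ pullback.fst g (extMap k K) η → y = pullback.fst g (extMap k K) η) ∧
      VarDim.deg (pullback.snd g (extMap k K)) η = VarDim.deg g (pullback.fst g (extMap k K) η) := by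
  haveI : Flat (extMap k K) := flat_extMap K
  refine ⟨fun y hy => ?_, ?_⟩
  · obtain ⟨w, hw, rfl⟩ := Flat.generalizingMap (pullback.fst g (extMap k K)) hy
    rw [h w hw]
  · rw [deg_eq_rd, deg_eq_rd]
    exact FibDim.rd_baseChange_eq_of_minimal (IsPullback.of_hasPullback g (extMap k K)) η fun w hw _ _ => h w hw

theorem dimOne_bc_iff (y : ↥(pullback g (extMap k K))) :
    DimOne (pullback.snd g (extMap k K)) y ↔ DimOne g (pullback.fst g (extMap k K) y) := by
  haveI : Flat (extMap k K) := flat_extMap K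
  refine ⟨fun h z hz hmax => ?_, fun h η hη hmax => ?_⟩
  · obtain ⟨z', hz', rfl⟩ := Flat.generalizingMap (pullback.fst g (extMap k K)) hz
    obtain ⟨η, hη, hηmax⟩ := VarDim.exists_maximal_generalization (pullback.snd g (extMap k K)) z'
    rw [← hmax _ (hη.map (pullback.fst g (extMap k K)).continuous), ← (maximal_bc g K hηmax).2]
    exact h η (hη.trans hz') hηmax
  · rw [(maximal_bc g K hmax).2]
    exact h _ (hη.map (pullback.fst g (extMap k K)).continuous) (maximal_bc g K hmax).1

/-- Goodness is insensitive to extensions of the base field. -/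
theorem goodPt_bc_iff [LocallyOfFinitePresentation g] [LocallyOfFinitePresentation (pullback.snd g (extMap k K))]
    (y : ↥(pullback g (extMap k K))) :
    GoodPt (pullback.snd g (extMap k K)) y ↔ GoodPt g (pullback.fst g (extMap k K) y) := by
  suffices h : DimOne g (pullback.fst g (extMap k K) y) →
      (NodeVia (AlgebraicClosure k) g (pullback.fst g (extMap k K) y) ↔
        NodeVia (AlgebraicClosure K) (pullback.snd g (extMap k K)) y) by
    refine ⟨fun ⟨h1, h2⟩ => ?_, fun ⟨h1, h2⟩ => ?_⟩
    · have h2' := (dimOne_bc_iff g K y).1 h2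
      exact ⟨h1.imp (mem_smoothLocus_bc_iff g K y).1 (h h2').2, h2'⟩
    · exact ⟨h1.imp (mem_smoothLocus_bc_iff g K y).2 (h h2).1, (dimOne_bc_iff g K y).2 h2⟩
  intro hd
  obtain ⟨O, hxO, hO⟩ := exists_nhd_deg_le_one g _ hd
  let m : pullback (O.ι ≫ g) (extMap k K) ⟶ pullback g (extMap k K) :=
    pullback.map _ _ _ _ O.ι (𝟙 _) (𝟙 _) (by simp) (by simp)
  have hm1 : m ≫ pullback.fst g (extMap k K) = pullback.fst (O.ι ≫ g) (extMap k K) ≫ O.ι := pullback.lift_fst _ _ _
  have hm2 : m ≫ pullback.snd g (extMap k K) = pullback.snd (O.ι ≫ g) (extMap k K) :=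
    (pullback.lift_snd _ _ _).trans (Category.comp_id _)
  obtain ⟨y', hy'⟩ : y ∈ Set.range m := by
    rw [Scheme.Pullback.range_map]
    refine ⟨?_, ⟨_, rfl⟩⟩
    show pullback.fst g (extMap k K) y ∈ Set.range O.ι
    rw [Scheme.Opens.range_ι]
    exact hxO
  have hx : pullback.fst g (extMap k K) y = O.ι (pullback.fst (O.ι ≫ g) (extMap k K) y') := by
    rw [← hy', ← Scheme.Hom.comp_apply, hm1]; rfl
  rw [hx, nodeVia_iff_of_etale (AlgebraicClosure k) O.ι g _ rfl, ← hy',
    nodeVia_iff_of_etale (AlgebraicClosure K) m (pullback.snd g (extMap k K)) _ hm2]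
  refine nodeVia_bc_iff (AlgebraicClosure K) (O.ι ≫ g) (fun w => ?_) y'
  rw [deg_comp_etale]
  exact hO _ w.2

/-- A node is not a maximal point. -/
theorem not_maximal_of_nodeVia {x : F} (h : NodeVia (AlgebraicClosure k) g x) : ¬ ∀ y, y ⤳ x → y = x := by
  intro hmax
  obtain ⟨b, hb, ⟨η, hη, hηd⟩, -⟩ := VarDim.exists_deg_add_stalk g x
  rw [hmax η hη] at hηd
  obtain rfl : b = 0 := by omega
  haveI := (reduced_gorenstein_of_nodeVia (AlgebraicClosure k) g h).1
  exact not_isRegular_of_nodeVia g h (isRegularLocalRing_stalk_of_dim_zero x (le_of_eq (by simpa using hb)))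

end Field

section Family

variable {C S : Scheme.{u}} (π : C ⟶ S) [LocallyOfFinitePresentation π]

/-- A good point of a family. -/
def FamGood (x : C) : Prop :=
  GoodPt (k := S.residueField (π x)) (π.fiberToSpecResidueField (π x)) (π.asFiber x)

theorem goodPt_fiber_iff (s : S) (w : ↥(π.fiber s)) :
    GoodPt (k := S.residueField s) (π.fiberToSpecResidueField s) w ↔ FamGood π (π.fiberι s w) := by
  obtain ⟨x, hx⟩ : ∃ x, π.fiberι s w = x := ⟨_, rfl⟩
  obtain rfl : π x = s := hx ▸ FibDim.fiber_apply_fiberι π w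
  obtain rfl : w = π.asFiber x :=
    (π.fiberι (π x)).isEmbedding.injective (hx.trans (π.fiberι_asFiber x).symm)
  rw [hx]
  exact Iff.rfl

theorem isNodalFamily_iff_forall [Flat π] : Curv2.IsNodalFamily π ↔ ∀ x, FamGood π x := by
  rw [isNodalFamily_iff]
  refine ⟨fun h x => (nodalCurve_iff_forall (k := S.residueField (π x)) _).1 (h.2.2 (π x)) _,
    fun h => ⟨inferInstance, inferInstance, fun s => (nodalCurve_iff_forall (k := S.residueField s) _).2 fun w =>
      (goodPt_fiber_iff π s w).2 (h _)⟩⟩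

theorem famGood_restrict_iff (U : C.Opens) (u : U) : FamGood (U.ι ≫ π) u ↔ FamGood π (U.ι u) := by
  let s := (U.ι ≫ π) u
  let m : (U.ι ≫ π).fiber s ⟶ π.fiber s := pullback.map _ _ _ _ U.ι (𝟙 _) (𝟙 _) (by simp) (by simp)
  have hm2 : m ≫ π.fiberToSpecResidueField s = (U.ι ≫ π).fiberToSpecResidueField s :=
    (pullback.lift_snd _ _ _).trans (Category.comp_id _)
  have hm1 : π.fiberι s (m ((U.ι ≫ π).asFiber u)) = U.ι u := by
    rw [← Scheme.Hom.comp_apply, show m ≫ π.fiberι s = (U.ι ≫ π).fiberι s ≫ U.ι from pullback.lift_fst _ _ _,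
      Scheme.Hom.comp_apply, Scheme.Hom.fiberι_asFiber]
  have h1 := goodPt_comp_iff (k := S.residueField s) (π.fiberToSpecResidueField s) m ((U.ι ≫ π).asFiber u)
  rw [← hm1]
  refine Iff.trans ?_ (h1.trans (goodPt_fiber_iff π s _))
  show GoodPt (k := S.residueField s) ((U.ι ≫ π).fiberToSpecResidueField s) _ ↔ _
  simp only [hm2]

theorem famGood_bc_iff {S' : Scheme.{u}} (g : S' ⟶ S) (x' : ↥(pullback π g)) :
    FamGood (pullback.snd π g) x' ↔ FamGood π (pullback.fst π g x') := by
  let s' := pullback.snd π g x'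
  letI : Algebra (S.residueField (g s')) (S'.residueField s') := (g.residueFieldMap s').hom.toAlgebra
  have he : extMap (S.residueField (g s')) (S'.residueField s') ≫ S.fromSpecResidueField (g s') =
      S'.fromSpecResidueField s' ≫ g := Scheme.Hom.SpecMap_residueFieldMap_fromSpecResidueField g s'
  let e : (pullback.snd π g).fiber s' ≅
      pullback (π.fiberToSpecResidueField (g s')) (extMap (S.residueField (g s')) (S'.residueField s')) :=
    pullbackLeftPullbackSndIso π g (S'.fromSpecResidueField s') ≪≫ pullback.congrHom rfl he.symm ≪≫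
      (pullbackLeftPullbackSndIso π (S.fromSpecResidueField (g s'))
        (extMap (S.residueField (g s')) (S'.residueField s'))).symm
  have h2 : e.hom ≫ pullback.snd (π.fiberToSpecResidueField (g s'))
      (extMap (S.residueField (g s')) (S'.residueField s')) = (pullback.snd π g).fiberToSpecResidueField s' := by
    simp [e, pullback.congrHom, pullback.map, Scheme.Hom.fiberToSpecResidueField]
  have h1 : (e.hom ≫ pullback.fst (π.fiberToSpecResidueField (g s'))
      (extMap (S.residueField (g s')) (S'.residueField s'))) ≫ π.fiberι (g s') =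
        (pullback.snd π g).fiberι s' ≫ pullback.fst π g := by
    simp [e, pullback.congrHom, pullback.map, Scheme.Hom.fiberι, Scheme.Hom.fiberToSpecResidueField]
  have hy : π.fiberι (g s') (pullback.fst (π.fiberToSpecResidueField (g s'))
      (extMap (S.residueField (g s')) (S'.residueField s')) (e.hom ((pullback.snd π g).asFiber x'))) =
        pullback.fst π g x' := by
    rw [← Scheme.Hom.comp_apply, ← Scheme.Hom.comp_apply, ← Category.assoc, h1, Scheme.Hom.comp_apply,
      Scheme.Hom.fiberι_asFiber]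
  haveI := lfp_of_lft (k := S.residueField (g s')) (π.fiberToSpecResidueField (g s'))
  haveI := lfp_of_lft (k := S'.residueField s') (pullback.snd (π.fiberToSpecResidueField (g s'))
    (extMap (S.residueField (g s')) (S'.residueField s')))
  rw [← hy, ← goodPt_fiber_iff π, ← goodPt_bc_iff, ← goodPt_comp_iff _ e.hom]
  show GoodPt (k := S'.residueField s') ((pullback.snd π g).fiberToSpecResidueField s') _ ↔ _
  simp only [h2]

/-- The relative dimension near a smooth point. -/
theorem exists_relDim (x : C) (hx : x ∈ π.smoothLocus) :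
    ∃ (n : ℕ) (Y : Scheme.{u}) (g : Y ⟶ C), IsOpenImmersion g ∧ x ∈ Set.range g ∧
      SmoothOfRelativeDimension n (g ≫ π) := by
  haveI : Smooth (π.smoothLocus.ι ≫ π) := by
    rw [← Scheme.Hom.smoothLocus_eq_top_iff, ← Scheme.Hom.preimage_smoothLocus_eq]
    exact Scheme.Opens.ι_preimage_self π.smoothLocus
  obtain ⟨U, hU, V, hV, hxV, e, hs⟩ := Smooth.exists_isStandardSmooth (π.smoothLocus.ι ≫ π) ⟨x, hx⟩
  algebraize [((π.smoothLocus.ι ≫ π).appLE U V e).hom]
  obtain ⟨ι, σ, _, _, ⟨P⟩⟩ := (hs.toAlgebra : Algebra.IsStandardSmooth Γ(S, U) Γ(π.smoothLocus, V)).out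
  refine ⟨P.dimension, _, hV.fromSpec ≫ π.smoothLocus.ι, inferInstance, ?_, ?_⟩
  · refine ⟨hV.primeIdealOf ⟨_, hxV⟩, ?_⟩
    rw [Scheme.Hom.comp_apply, hV.fromSpec_primeIdealOf]
    rfl
  · have h1 : SmoothOfRelativeDimension P.dimension (Spec.map ((π.smoothLocus.ι ≫ π).appLE U V e)) := by
      rw [HasRingHomProperty.Spec_iff (P := @SmoothOfRelativeDimension P.dimension)]
      exact RingHom.locally_of RingHom.isStandardSmoothOfRelativeDimension_respectsIso _
        (P.isStandardSmoothOfRelativeDimension rfl)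
    have h2 : SmoothOfRelativeDimension (P.dimension + 0)
        (Spec.map ((π.smoothLocus.ι ≫ π).appLE U V e) ≫ hU.fromSpec) := inferInstance
    rw [add_zero, hU.SpecMap_appLE_fromSpec _ hV e] at h2
    simpa [Category.assoc] using h2

/-- At smooth points the relative dimension is the degree of maximal points. -/
theorem rd_eq_relDim {n : ℕ} {Y : Scheme.{u}} (g : Y ⟶ C) [IsOpenImmersion g] [SmoothOfRelativeDimension n (g ≫ π)]
    {z : C} (hz : z ∈ Set.range g) (hmax : FibDim.FibMax π z) : FibDim.rd π z = n := by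
  obtain ⟨w, rfl⟩ := hz
  haveI : Smooth (g ≫ π) := SmoothOfRelativeDimension.smooth n _
  have hw : FibDim.FibMax (g ≫ π) w := fun w' hw' he =>
    g.isOpenEmbedding.injective (hmax _ (hw'.map g.continuous) he)
  have h1 := (FibDim.fibreDimAt_eq_rd (g ≫ π) hw).symm.trans (S2768.result n (g ≫ π) w)
  have h2 : FibDim.rd (g ≫ π) w = n := by exact_mod_cast h1
  have h3 : (FibDim.rd (g ≫ π) w : Cardinal) = (FibDim.rd π (g w) : Cardinal) := by
    rw [FibDim.rd_eq_rdeg, FibDim.rd_eq_rdeg, VarDim.rdeg_comp, VarDim.rdeg_preimmersion g, add_zero]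
  rw [← h2]
  exact_mod_cast h3.symm

/-- The degree condition of a good point in terms of the family. -/
theorem dimOne_asFiber_iff (x : C) :
    DimOne (k := S.residueField (π x)) (π.fiberToSpecResidueField (π x)) (π.asFiber x) ↔
      ∀ z, z ⤳ x → π z = π x → FibDim.FibMax π z → FibDim.rd π z = 1 := by
  refine ⟨fun h z hz he hmax => ?_, fun h w hw hmax => ?_⟩
  · obtain ⟨w, rfl⟩ : z ∈ Set.range (π.fiberι (π x)) := by rw [π.range_fiberι]; exact he
    rw [← FibDim.deg_fiber]
    refine h w ?_ ((FibDim.fibMax_fiberι_iff π w).1 hmax)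
    rw [← FibDim.fiberι_specializes_iff π, π.fiberι_asFiber]
    exact hz
  · rw [FibDim.deg_fiber]
    refine h _ ?_ (FibDim.fiber_apply_fiberι π w) ((FibDim.fibMax_fiberι_iff π w).2 hmax)
    have h1 := (FibDim.fiberι_specializes_iff π w (π.asFiber x)).2 hw
    rwa [π.fiberι_asFiber] at h1

theorem fibre_smooth_or_node_iff [Flat π] (x : C) :
    (π.asFiber x ∈ (π.fiberToSpecResidueField (π x)).smoothLocus ∨ FibreNode π x) ↔
      (x ∈ π.smoothLocus ∨ FibreNode π x) :=
  or_congr ⟨fun h => (S2156.result π x).2 ⟨Flat.stalkMap π x, h⟩, fun h => ((S2156.result π x).1 h).2⟩ Iff.rfl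

/-- The good locus is open. -/
theorem isOpen_famGood [Flat π] : IsOpen {x | FamGood π x} := by
  have hmk : ∀ q, (q ∈ π.smoothLocus ∨ FibreNode π q) →
      (∀ z, z ⤳ q → π z = π q → FibDim.FibMax π z → FibDim.rd π z = 1) → FamGood π q := fun q h1 h2 =>
    ⟨(fibre_smooth_or_node_iff π q).2 h1, (dimOne_asFiber_iff π q).2 h2⟩
  rw [isOpen_iff_forall_mem_open]
  rintro x ⟨hxs, hxd⟩
  have hd := (dimOne_asFiber_iff π x).1 hxd
  rcases (fibre_smooth_or_node_iff π x).1 hxs with hs | hn
  · obtain ⟨n, Y, g, hg, hxg, hsm⟩ := exists_relDim π x hs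
    haveI := hg; haveI := hsm
    obtain ⟨z, hzx, hzπ, hzmax, -⟩ := FibDim.exists_fibMax_generization π x
    have hn1 : n = 1 := (rd_eq_relDim π g (hzx.mem_open g.isOpenEmbedding.isOpen_range hxg) hzmax).symm.trans
      (hd z hzx hzπ hzmax)
    refine ⟨Set.range g ∩ (π.smoothLocus : Set C), fun q hq => hmk q (Or.inl hq.2) fun w hw _ hwmax => ?_,
      g.isOpenEmbedding.isOpen_range.inter π.smoothLocus.2, hxg, hs⟩
    exact (rd_eq_relDim π g (hw.mem_open g.isOpenEmbedding.isOpen_range hq.1) hwmax).trans hn1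
  · obtain ⟨W, hxW, hW⟩ := exists_open_good π x hn
    have hx1 : FlatMor.fibreDimAt π x ≤ ((1 : ℕ) : WithBot ℕ∞) := by
      rw [FibDim.fibreDimAt_le_iff]
      intro z hz he
      obtain ⟨z', hz'x, hz'π, hz'max, hle⟩ := FibDim.exists_fibMax_rd_ge π hz
      exact hle.trans (hd z' hz'x hz'π hz'max).le
    refine ⟨(W : Set C) ∩ {q | FlatMor.fibreDimAt π q ≤ ((1 : ℕ) : WithBot ℕ∞)},
      fun q hq => hmk q (hW q hq.1).1 fun z hz he hzmax => ?_, W.2.inter (S0402.result π 1), hxW, hx1⟩
    have hle : FibDim.rd π z ≤ 1 := (FibDim.fibreDimAt_le_iff π q 1).1 hq.2 z hz he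
    have hzW : z ∈ W := hz.mem_open W.2 hq.1
    rcases (hW z hzW).1 with hs | hzn
    · obtain ⟨n, Y, g, hg, hzg, hsm⟩ := exists_relDim π z hs
      haveI := hg; haveI := hsm
      have hn := rd_eq_relDim (n := n) π g hzg hzmax
      have hne : n ≠ 0 := by
        rintro rfl
        exact (hW z hzW).2 g hzg (((Etale.iff_smoothOfRelativeDimension_zero _).2 hsm))
      omega
    · refine absurd ?_ (not_maximal_of_nodeVia (k := S.residueField (π z)) _ hzn)
      exact (FibDim.fibMax_fiberι_iff π (π.asFiber z)).1 (by rw [π.fiberι_asFiber]; exact hzmax)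

end Family

end

end Groth.Agent.NodeFam
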