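import Groth.Agent.NodeFam.EtaleCoord
import Groth.Agent.NodeFam.NodeChart
import Mathlib.RingTheory.Derivation.Lie
import Mathlib.FieldTheory.IsAlgClosed.Basic
import Mathlib.Algebra.Polynomial.Degree.SmallDegree

/-!
# The étale Morse lemma in two variables
-/

set_option autoImplicit false
set_option linter.style.haveILetI false

universe u

open scoped TensorProduct

namespace Groth.Agent.NodeFam

noncomputable section

variable {R B K : Type u} [CommRing R] [CommRing B] [Algebra R B] [Field K] [Algebra R K]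
  {x : Fin 2 → B} {δ : Fin 2 → Derivation R B B}

/-- The coordinate derivations commute. -/
theorem Coord.comm (hc : Coord R B x δ) (b : B) : δ 0 (δ 1 b) = δ 1 (δ 0 b) := by
  have h := hc.det B ⁅δ 0, δ 1⁆ (fun l => by
    rw [Derivation.commutator_apply, hc.dual, hc.dual]
    fin_cases l <;> simp) b
  rwa [Derivation.commutator_apply, sub_eq_zero] at h

/-- The functions vanishing on a section, in coordinates centred at it, and their quadratic normal form. -/
theorem exists_quadForm {R₀ C : Type u} [CommRing R₀] [CommRing C] [Algebra R₀ C]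
    {y : Fin 2 → C} {D : Fin 2 → Derivation R₀ C C} (hc : Coord R₀ C y D) [Algebra.FinitePresentation R₀ C]
    (σ : C →ₐ[R₀] R₀) (hy : ∀ l, σ (y l) = 0) (z : C) (hz : σ z = 0) (hz1 : ∀ l, σ (D l z) = 0) :
    ∃ ε α β γ : C, σ ε = 1 ∧ ε * z = α * y 0 ^ 2 + β * (y 0 * y 1) + γ * y 1 ^ 2 ∧
      2 * σ α = σ (D 0 (D 0 z)) ∧ σ β = σ (D 0 (D 1 z)) ∧ 2 * σ γ = σ (D 1 (D 1 z)) := by
  have hone : IsUnit (jacobian D y).det := by
    rw [show jacobian D y = 1 from Matrix.ext fun i l => by
      show D l (y i) = _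
      rw [hc.dual, Matrix.one_apply]; simp [eq_comm], Matrix.det_one]
    exact isUnit_one
  haveI := hc.formallyEtale_cut hone
  haveI : Algebra.FinitePresentation R₀ (C ⧸ Ideal.span (Set.range y)) :=
    Algebra.FinitePresentation.quotient (Submodule.fg_span (Set.finite_range y))
  have hker : Ideal.span (Set.range y) ≤ RingHom.ker σ := by
    rw [Ideal.span_le]; rintro _ ⟨l, rfl⟩; exact hy l
  obtain ⟨ε₀, hε₀, hεker⟩ := exists_retraction_idempotent
    (Ideal.Quotient.liftₐ (Ideal.span (Set.range y)) σ fun c hc => hker hc)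
  obtain ⟨ε, rfl⟩ := Ideal.Quotient.mk_surjective ε₀
  have hε : σ ε = 1 := hε₀
  have hmem : ∀ c, σ c = 0 → ∃ p : Fin 2 → C, ε * c = p 0 * y 0 + p 1 * y 1 := by
    intro c hc0
    have h1 : ε * c ∈ Ideal.span (Set.range y) := by
      rw [← Ideal.Quotient.eq_zero_iff_mem, map_mul]
      exact hεker (Ideal.Quotient.mk _ c) hc0
    obtain ⟨p, hp⟩ := Ideal.mem_span_range_iff_exists_fun.1 h1
    exact ⟨p, by rw [← hp, Fin.sum_univ_two]⟩
  obtain ⟨p, hp⟩ := hmem z hz
  have hp0 : ∀ l, σ (p l) = 0 := by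
    intro l
    have h1 := congrArg (fun c => σ (D l c)) hp
    simp only [Derivation.leibniz, smul_eq_mul, map_add, map_mul, hz, hz1, hy, hc.dual] at h1
    fin_cases l <;> simpa using h1.symm
  obtain ⟨c0, hc0⟩ := hmem (p 0) (hp0 0)
  obtain ⟨c1, hc1⟩ := hmem (p 1) (hp0 1)
  refine ⟨ε * ε, c0 0, c0 1 + c1 0, c1 1, by rw [map_mul, hε, one_mul], ?_, ?_⟩
  · rw [mul_assoc, hp, mul_add, ← mul_assoc, ← mul_assoc, hc0, hc1]; ring
  · have e : ε * ε * z = c0 0 * (y 0 * y 0) + (c0 1 + c1 0) * (y 0 * y 1) + c1 1 * (y 1 * y 1) := by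
      rw [mul_assoc, hp, mul_add, ← mul_assoc, ← mul_assoc, hc0, hc1]; ring
    have h2 : ∀ i j, σ (D i (D j z)) =
        σ (D i (D j (c0 0 * (y 0 * y 0) + (c0 1 + c1 0) * (y 0 * y 1) + c1 1 * (y 1 * y 1)))) := by
      intro i j
      rw [← e]
      simp [Derivation.leibniz, hz, hz1, hε]
    refine ⟨?_, ?_, ?_⟩ <;> rw [h2] <;> simp [Derivation.leibniz, hy, hc.dual] <;> ring

/-- An étale neighbourhood in which the cut is the standard node. -/
structure MorseData (R B : Type u) [CommRing R] [CommRing B] [Algebra R B] {K : Type u} [Field K] [Algebra R K]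
    (h : B) (θ : B →ₐ[R] K) where
  R' : Type u
  E : Type u
  [instR' : CommRing R']
  [instE : CommRing E]
  [algRR' : Algebra R R']
  [algRE : Algebra R E]
  [algBE : Algebra B E]
  [algR'E : Algebra R' E]
  [towerB : IsScalarTower R B E]
  [towerR' : IsScalarTower R R' E]
  etaleR' : Algebra.Etale R R'
  etaleBE : Algebra.Etale B E
  a : R'
  u : Fin 2 → E
  etaleu : (MvPolynomial.aeval (R := R') u).toRingHom.Etale
  θE : E →ₐ[R] K
  hθ : ∀ b, θE (algebraMap B E b) = θ b
  hspan : Ideal.span {algebraMap B E h} = Ideal.span {u 0 * u 1 - algebraMap R' E a}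

attribute [instance] MorseData.instR' MorseData.instE MorseData.algRR' MorseData.algRE MorseData.algBE
  MorseData.algR'E MorseData.towerB MorseData.towerR'

/-- The algebra of a root of a quadratic of unit discriminant. -/
theorem exists_quadRoot {S : Type u} [CommRing S] [Algebra R S] [IsAlgClosed K] (A B₀ C₀ : S) (θ : S →ₐ[R] K)
    (hA : θ A ≠ 0) (hdisc : IsUnit (B₀ ^ 2 - 4 * A * C₀)) :
    ∃ (E : Type u) (_ : CommRing E) (_ : Algebra S E) (_ : Algebra R E) (_ : IsScalarTower R S E)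
      (r : E) (θE : E →ₐ[R] K), Algebra.Etale S E ∧
      algebraMap S E A * r ^ 2 + algebraMap S E B₀ * r + algebraMap S E C₀ = 0 ∧
      ∀ b, θE (algebraMap S E b) = θ b := by
  let f : Unit → MvPolynomial Unit S := fun _ =>
    MvPolynomial.C A * MvPolynomial.X () ^ 2 + MvPolynomial.C B₀ * MvPolynomial.X () + MvPolynomial.C C₀
  let I := Ideal.span (Set.range f)
  let r : MvPolynomial Unit S ⧸ I := Ideal.Quotient.mk I (MvPolynomial.X ())
  let ι0 := algebraMap S (MvPolynomial Unit S ⧸ I)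
  have hr : ι0 A * r ^ 2 + ι0 B₀ * r + ι0 C₀ = 0 := by
    have h0 : Ideal.Quotient.mk I (f ()) = 0 := Ideal.Quotient.eq_zero_iff_mem.2 (Ideal.subset_span ⟨(), rfl⟩)
    simp only [f, map_add, map_mul, map_pow] at h0
    exact h0
  have hsq : (2 * ι0 A * r + ι0 B₀) * (2 * ι0 A * r + ι0 B₀) = ι0 (B₀ ^ 2 - 4 * A * C₀) := by
    simp only [map_sub, map_mul, map_pow, map_ofNat]
    linear_combination (4 * ι0 A) * hr
  have hunit : IsUnit (2 * ι0 A * r + ι0 B₀) := by
    obtain ⟨w, hw⟩ := hdisc.exists_left_inv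
    have h1 : (2 * ι0 A * r + ι0 B₀) * ((2 * ι0 A * r + ι0 B₀) * ι0 w) = 1 := by
      rw [← mul_assoc, hsq, ← map_mul, (mul_comm _ _).trans hw, map_one]
    exact isUnit_iff_exists.2 ⟨_, h1, by rw [← h1]; ring⟩
  have het : Algebra.Etale S (MvPolynomial Unit S ⧸ I) := etale_squareQuot f (by
    rw [Matrix.det_unique, Matrix.of_apply]
    have e : Ideal.Quotient.mk I (MvPolynomial.pderiv () (f ())) = 2 * ι0 A * r + ι0 B₀ := by
      simp only [f, r, map_add, Derivation.leibniz, MvPolynomial.pderiv_C, Derivation.leibniz_pow,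
        MvPolynomial.pderiv_X_self, smul_eq_mul, mul_one, mul_zero, add_zero]
      simp [nsmul_eq_mul]
      rw [map_ofNat (Ideal.Quotient.mk I) 2]
      show Ideal.Quotient.mk I (MvPolynomial.C A) * _ + Ideal.Quotient.mk I (MvPolynomial.C B₀) =
        2 * Ideal.Quotient.mk I (MvPolynomial.C A) * _ + Ideal.Quotient.mk I (MvPolynomial.C B₀)
      ring
    rw [← show (default : Unit) = () from rfl] at e
    exact e ▸ hunit)
  obtain ⟨t, ht⟩ : ∃ t : K, θ A * t ^ 2 + θ B₀ * t + θ C₀ = 0 := by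
    obtain ⟨t, ht⟩ := IsAlgClosed.exists_root
      (Polynomial.C (θ A) * Polynomial.X ^ 2 + Polynomial.C (θ B₀) * Polynomial.X + Polynomial.C (θ C₀))
      (by rw [Polynomial.degree_quadratic hA]; decide)
    exact ⟨t, by simpa [Polynomial.IsRoot] using ht⟩
  have hle : I ≤ RingHom.ker (MvPolynomial.aevalTower θ fun _ : Unit => t) := by
    rw [Ideal.span_le]
    rintro _ ⟨i, rfl⟩
    show MvPolynomial.aevalTower θ (fun _ : Unit => t) (f i) = 0
    simp only [f, map_add, map_mul, map_pow, MvPolynomial.aevalTower_X, MvPolynomial.aevalTower_C]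
    exact ht
  exact ⟨MvPolynomial Unit S ⧸ I, inferInstance, inferInstance, inferInstance, inferInstance, r,
    Ideal.Quotient.liftₐ I (MvPolynomial.aevalTower θ fun _ => t) (fun b hb => hle hb), het, hr, fun b =>
      (MvPolynomial.aevalTower_C θ (fun _ : Unit => t) b)⟩

/-- The critical scheme, étale over the base. -/
theorem exists_critical [Algebra.FinitePresentation R B] (hc : Coord R B x δ) (h : B) (θ : B →ₐ[R] K)
    (h1 : ∀ i, θ (δ i h) = 0) (hH : θ (hessian δ h) ≠ 0) :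
    ∃ (R' : Type u) (_ : CommRing R') (_ : Algebra R R') (π : B →ₐ[R] R') (θR : R' →ₐ[R] K),
      Algebra.Etale R R' ∧ (∀ i, π (δ i h) = 0) ∧ ∀ b, θR (π b) = θ b := by
  set H := hessian δ h with hHdef
  let BH := Localization.Away H
  haveI : Algebra.Etale B BH := Algebra.Etale.of_isLocalizationAway H
  obtain ⟨δH, hcH, hδH⟩ := hc.exists_ext BH
  haveI : Algebra.FinitePresentation R BH := Algebra.FinitePresentation.trans R B BH
  let g : Fin 2 → BH := fun i => algebraMap B BH (δ i h)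
  have hgu : IsUnit (jacobian δH g).det := by
    have e : (jacobian δH g).det = algebraMap B BH H := by
      rw [Matrix.det_fin_two]
      simp only [g, Matrix.of_apply, hδH, hc.comm h]
      simp only [hHdef, hessian, map_sub, map_mul, map_pow, hc.comm h]
      ring
    rw [e]; exact IsLocalization.Away.algebraMap_isUnit H
  have hfe := hcH.formallyEtale_cut hgu
  obtain ⟨θH, hθH⟩ := exists_liftPoint (A' := BH) H θ (isUnit_iff_ne_zero.2 hH)
  have hle : Ideal.span (Set.range g) ≤ RingHom.ker θH := by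
    rw [Ideal.span_le]; rintro _ ⟨i, rfl⟩
    exact (AlgHom.congr_fun hθH _).trans (h1 i)
  exact ⟨BH ⧸ Ideal.span (Set.range g), inferInstance, inferInstance,
    (Ideal.Quotient.mkₐ R _).comp (IsScalarTower.toAlgHom R B BH),
    Ideal.Quotient.liftₐ _ θH (fun b hb => hle hb),
    ⟨hfe, Algebra.FinitePresentation.quotient (Submodule.fg_span (Set.finite_range g))⟩,
    fun i => Ideal.Quotient.eq_zero_iff_mem.2 (Ideal.subset_span ⟨i, rfl⟩), fun b => AlgHom.congr_fun hθH b⟩

/-- The last step: coordinates in which the leading coefficient does not vanish give a standard node. -/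
theorem exists_morse_of_form {R' B1 : Type u} [CommRing R'] [CommRing B1] [Algebra R R'] [Algebra R B1]
    [Algebra B B1] [Algebra R' B1] [IsScalarTower R B B1] [IsScalarTower R R' B1] [IsAlgClosed K]
    [Algebra.FinitePresentation R' B1] (hR' : Algebra.Etale R R') [Algebra.Etale B B1] {h : B} {θ : B →ₐ[R] K}
    {y : Fin 2 → B1} {D : Fin 2 → Derivation R' B1 B1} (hc : Coord R' B1 y D) (θ1 : B1 →ₐ[R] K)
    (hθ1 : ∀ b, θ1 (algebraMap B B1 b) = θ b) (a : R') (z : Fin 2 → B1) (ε α β γ : B1)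
    (hε : θ1 ε ≠ 0) (hα : θ1 α ≠ 0) (hdisc : θ1 (β ^ 2 - 4 * α * γ) ≠ 0)
    (hz : ∀ l, θ1 (z l) = 0) (hJ : θ1 (jacobian D z).det ≠ 0)
    (heq : ε * (algebraMap B B1 h - algebraMap R' B1 a) = α * z 0 ^ 2 + β * (z 0 * z 1) + γ * z 1 ^ 2) :
    Nonempty (MorseData R B h θ) := by
  set d := ε * α * (β ^ 2 - 4 * α * γ) with hd
  let B3 := Localization.Away d
  let ι3 := algebraMap B1 B3
  have hu3 : IsUnit (ι3 d) := IsLocalization.Away.algebraMap_isUnit d
  have hu3' : IsUnit (ι3 ε * ι3 α * ι3 (β ^ 2 - 4 * α * γ)) :=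
    ((map_mul ι3 _ _).trans (congrArg (· * _) (map_mul ι3 _ _))) ▸ hu3
  have hε3 : IsUnit (ι3 ε) := isUnit_of_mul_isUnit_left (isUnit_of_mul_isUnit_left hu3')
  have hα3 : IsUnit (ι3 α) := isUnit_of_mul_isUnit_right (isUnit_of_mul_isUnit_left hu3')
  have hdisc3 : IsUnit (ι3 (β ^ 2 - 4 * α * γ)) := isUnit_of_mul_isUnit_right hu3'
  obtain ⟨εi, hεi⟩ := hε3.exists_left_inv
  obtain ⟨αi, hαi⟩ := hα3.exists_left_inv
  have hd0 : IsUnit (θ1 d) := by
    rw [hd, map_mul, map_mul]
    exact isUnit_iff_ne_zero.2 (mul_ne_zero (mul_ne_zero hε hα) hdisc)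
  obtain ⟨θ3, hθ3⟩ := exists_liftPoint (A' := B3) d θ1 hd0
  have hθ3e : ∀ b, θ3 (ι3 b) = θ1 b := fun b => AlgHom.congr_fun hθ3 b
  -- the root
  obtain ⟨E0, _, _, _, _, r, θ0, het0, hr, hθ0e⟩ :=
    exists_quadRoot (ι3 α) (ι3 β) (ι3 γ) θ3 (by rw [hθ3e]; exact hα) (by
      rw [show ι3 β ^ 2 - 4 * ι3 α * ι3 γ = ι3 (β ^ 2 - 4 * α * γ) by
        simp only [map_sub, map_mul, map_pow, map_ofNat]]
      exact hdisc3)
  letI : Algebra B1 E0 := ((algebraMap B3 E0).comp ι3).toAlgebra
  haveI : IsScalarTower B1 B3 E0 := IsScalarTower.of_algebraMap_eq fun _ => rfl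
  haveI : IsScalarTower R B1 E0 := IsScalarTower.of_algebraMap_eq fun c => by
    rw [IsScalarTower.algebraMap_apply R B3 E0, IsScalarTower.algebraMap_apply R B1 B3]; rfl
  letI : Algebra R' E0 := ((algebraMap B1 E0).comp (algebraMap R' B1)).toAlgebra
  haveI : IsScalarTower R' B1 E0 := IsScalarTower.of_algebraMap_eq fun _ => rfl
  haveI : IsScalarTower R R' E0 := IsScalarTower.of_algebraMap_eq fun c => by
    rw [IsScalarTower.algebraMap_apply R B1 E0, IsScalarTower.algebraMap_apply R R' B1]; rfl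
  letI : Algebra B E0 := ((algebraMap B1 E0).comp (algebraMap B B1)).toAlgebra
  haveI : IsScalarTower B B1 E0 := IsScalarTower.of_algebraMap_eq fun _ => rfl
  haveI : IsScalarTower R B E0 := IsScalarTower.of_algebraMap_eq fun c => by
    rw [IsScalarTower.algebraMap_apply R B1 E0, IsScalarTower.algebraMap_apply R B B1]; rfl
  haveI := het0
  let ι0 := algebraMap B3 E0
  have hθ0r : θ1 α * θ0 r ^ 2 + θ1 β * θ0 r + θ1 γ = 0 := by
    have h1 := congrArg θ0 hr
    simpa only [map_add, map_mul, map_pow, map_zero, hθ0e, hθ3e] using h1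
  haveI : Algebra.Etale B1 B3 := Algebra.Etale.of_isLocalizationAway d
  haveI : Algebra.Etale B1 E0 := Algebra.Etale.comp B1 B3 E0
  obtain ⟨D0, hc0, hD0⟩ := hc.exists_ext E0
  let κ := algebraMap B1 E0
  have hκ : ∀ b, κ b = ι0 (ι3 b) := fun b => IsScalarTower.algebraMap_apply B1 B3 E0 b
  have hθ0κ : ∀ b, θ0 (κ b) = θ1 b := fun b => by rw [hκ, hθ0e, hθ3e]
  let r2 : E0 := -(κ β * ι0 αi) - r
  let u0 : E0 := κ α * (κ (z 0) - r * κ (z 1)) * ι0 εi
  let u1 : E0 := -(κ (z 0) - r2 * κ (z 1))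
  have hαi' : ι0 αi * κ α = 1 := by rw [hκ, ← map_mul, hαi, map_one]
  have hεi' : ι0 εi * κ ε = 1 := by rw [hκ, ← map_mul, hεi, map_one]
  have hprod : u0 * u1 = -(κ (algebraMap B B1 h) - κ (algebraMap R' B1 a)) := by
    have h1 := congrArg κ heq
    simp only [map_mul, map_add, map_sub, map_pow] at h1
    change κ α * r ^ 2 + κ β * r + κ γ = 0 at hr
    simp only [u0, u1, r2]
    linear_combination (ι0 εi) * h1 + (-(κ (algebraMap B B1 h) - κ (algebraMap R' B1 a))) * hεi' +
      (-(ι0 εi) * (κ β * κ (z 1) * (κ (z 0) - r * κ (z 1)))) * hαi' + (ι0 εi * κ (z 1) ^ 2) * hr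
  set J := (jacobian D0 ![u0, u1]).det with hJdef
  have hθz : ∀ l, θ0 (κ (z l)) = 0 := fun l => by rw [hθ0κ, hz]
  have hθJ : θ0 J ≠ 0 := by
    have hJ' := hJ
    rw [Matrix.det_fin_two] at hJ'
    simp only [Matrix.of_apply, map_sub, map_mul] at hJ'
    have e : ∀ l b, θ0 (D0 l (κ b)) = θ1 (D l b) := fun l b => by rw [hD0, hθ0κ]
    have hval : θ0 J = θ1 α * θ0 (ι0 εi) * (θ0 r2 - θ0 r) *
        (θ1 (D 0 (z 0)) * θ1 (D 1 (z 1)) - θ1 (D 1 (z 0)) * θ1 (D 0 (z 1))) := by
      simp only [J, Matrix.det_fin_two, Matrix.of_apply, Matrix.cons_val_zero, Matrix.cons_val_one, u0, u1,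
        Derivation.leibniz, map_neg, map_sub, map_mul, map_add, smul_eq_mul, hθz, e]
      simp only [hθ0κ]
      ring
    rw [hval]
    have hαi0 : θ0 (ι0 αi) * θ1 α = 1 := by rw [← hθ0κ, ← map_mul, hαi', map_one]
    have hdiff : θ1 α * (θ0 r2 - θ0 r) = -(2 * θ1 α * θ0 r + θ1 β) := by
      simp only [r2, map_sub, map_neg, map_mul, hθ0κ]
      linear_combination (-θ1 β) * hαi0
    have hne : 2 * θ1 α * θ0 r + θ1 β ≠ 0 := by
      intro h0
      refine hdisc ?_
      simp only [map_sub, map_mul, map_pow, map_ofNat]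
      linear_combination (2 * θ1 α * θ0 r + θ1 β) * h0 + (-4 * θ1 α) * hθ0r
    have hεi0 : θ0 (ι0 εi) * θ1 ε = 1 := by rw [← hθ0κ, ← map_mul, hεi', map_one]
    refine mul_ne_zero ?_ hJ'
    rw [mul_right_comm, hdiff]
    exact mul_ne_zero (neg_ne_zero.2 hne) (left_ne_zero_of_mul_eq_one hεi0)
  let E := Localization.Away J
  haveI : Algebra.Etale E0 E := Algebra.Etale.of_isLocalizationAway J
  haveI : Algebra.Etale B1 E := Algebra.Etale.comp B1 E0 E
  haveI : Algebra.Etale B E := Algebra.Etale.comp B B1 E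
  obtain ⟨θE, hθE⟩ := exists_liftPoint (A' := E) J θ0 (isUnit_iff_ne_zero.2 hθJ)
  obtain ⟨DE, hcE, hDE⟩ := hc0.exists_ext E
  let uE : Fin 2 → E := fun l => algebraMap E0 E ((![u0, u1] : Fin 2 → E0) l)
  letI : Algebra (MvPolynomial (Fin 2) R') E := (MvPolynomial.aeval (R := R') uE).toRingHom.toAlgebra
  haveI : IsScalarTower R' (MvPolynomial (Fin 2) R') E :=
    IsScalarTower.of_algebraMap_eq fun c => ((MvPolynomial.aeval (R := R') uE).commutes c).symm
  have hJE : IsUnit (jacobian DE uE).det := by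
    have e : jacobian DE uE = (algebraMap E0 E).mapMatrix (jacobian D0 ![u0, u1]) :=
      Matrix.ext fun i l => by simp [uE, hDE]
    rw [e, ← RingHom.map_det]
    exact IsLocalization.Away.algebraMap_isUnit J
  haveI hFE : Algebra.FormallyEtale (MvPolynomial (Fin 2) R') E :=
    hcE.formallyEtale_of_jacobian hJE fun i => MvPolynomial.aeval_X uE i
  haveI : Algebra.FinitePresentation R' E := Algebra.FinitePresentation.trans R' B1 E
  haveI : Algebra.FinitePresentation (MvPolynomial (Fin 2) R') E :=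
    Algebra.FinitePresentation.of_restrict_scalars_finitePresentation R' _ _
  have hE : Algebra.Etale (MvPolynomial (Fin 2) R') E := ⟨hFE, inferInstance⟩
  refine ⟨{ R' := R', E := E, etaleR' := hR', etaleBE := ‹_›, a := a, u := uE,
            etaleu := RingHom.etale_algebraMap.2 hE, θE := θE, hθ := fun b => ?_, hspan := ?_ }⟩
  · rw [IsScalarTower.algebraMap_apply B B1 E, IsScalarTower.algebraMap_apply B1 E0 E]
    exact (AlgHom.congr_fun hθE _).trans ((hθ0κ _).trans (hθ1 b))
  · have e : algebraMap B E h = -(uE 0 * uE 1 - algebraMap R' E a) := by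
      have h1 := congrArg (algebraMap E0 E) hprod
      rw [IsScalarTower.algebraMap_apply B B1 E, IsScalarTower.algebraMap_apply B1 E0 E,
        IsScalarTower.algebraMap_apply R' B1 E, IsScalarTower.algebraMap_apply B1 E0 E]
      simp only [map_mul, map_neg, map_sub] at h1
      simp only [uE, Matrix.cons_val_zero, Matrix.cons_val_one]
      linear_combination h1
    rw [e, Ideal.span_singleton_neg]

/-- The étale Morse lemma: at a nondegenerate critical point on a cut, the cut is the standard node. -/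
theorem exists_morse [IsAlgClosed K] [Algebra.FinitePresentation R B] (hc : Coord R B x δ) (h : B) (θ : B →ₐ[R] K)
    (h1 : ∀ i, θ (δ i h) = 0) (hH : θ (hessian δ h) ≠ 0) : Nonempty (MorseData R B h θ) := by
  obtain ⟨R', _, _, π, θR, hR', hπ1, hθπ⟩ := exists_critical hc h θ h1 hH
  haveI := hR'
  -- the base change
  let B1 := B ⊗[R] R'
  letI : Algebra R' B1 := Algebra.TensorProduct.rightAlgebra
  haveI : IsScalarTower R R' B1 := IsScalarTower.of_algebraMap_eq fun r =>
    ((Algebra.TensorProduct.includeRight : R' →ₐ[R] B1).commutes r).symm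
  haveI : Algebra.Etale B B1 := inferInstance
  haveI : Algebra.FinitePresentation R B1 := Algebra.FinitePresentation.trans R B B1
  haveI : Algebra.FinitePresentation R' B1 :=
    Algebra.FinitePresentation.of_restrict_scalars_finitePresentation R R' B1
  obtain ⟨δ1, hc1, hδ1⟩ := hc.exists_ext B1
  obtain ⟨D, hD, hDe⟩ := hc1.exists_base R'
  let σ₀ : B1 →ₐ[R] R' := Algebra.TensorProduct.lift π (AlgHom.id R R') fun _ _ => Commute.all _ _
  let σ : B1 →ₐ[R'] R' := { σ₀.toRingHom with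
    commutes' := fun c => by
      show σ₀ ((1 : B) ⊗ₜ[R] c) = c
      exact (Algebra.TensorProduct.lift_tmul π (AlgHom.id R R') _ (1 : B) c).trans
        (by rw [map_one, one_mul]; rfl) }
  have hσb : ∀ b, σ (algebraMap B B1 b) = π b := fun b => by
    rw [Algebra.TensorProduct.algebraMap_apply, Algebra.algebraMap_self, RingHom.id_apply]
    exact (Algebra.TensorProduct.lift_tmul π (AlgHom.id R R') (fun _ _ => Commute.all _ _) b 1).trans (by rw [map_one, mul_one])
  have hDb : ∀ l b, D l (algebraMap B B1 b) = algebraMap B B1 (δ l b) := fun l b => by rw [hDe, hδ1]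
  let y : Fin 2 → B1 := fun l => algebraMap B B1 (x l) - algebraMap R' B1 (σ (algebraMap B B1 (x l)))
  have hy : ∀ l, σ (y l) = 0 := fun l => by simp [y]
  have hcy : Coord R' B1 y D := ⟨hD.smooth, fun i j => by
      simp only [y, map_sub, Derivation.map_algebraMap, sub_zero]
      exact hD.dual i j,
    fun M _ _ _ _ E hE => hD.det M E fun l => by
      have := hE l
      simpa [y] using this⟩
  set a : R' := π h with hadef
  set z := algebraMap B B1 h - algebraMap R' B1 a with hzdef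
  have hz : σ z = 0 := by simp [z, hσb, a]
  have hDz : ∀ l, D l z = algebraMap B B1 (δ l h) := fun l => by simp [z, hDb]
  have hz1 : ∀ l, σ (D l z) = 0 := fun l => by rw [hDz, hσb, hπ1]
  obtain ⟨ε, α, β, γ, hε, heq, hα2, hβ, hγ2⟩ := exists_quadForm hcy σ hy z hz hz1
  let θ1 : B1 →ₐ[R] K := θR.comp σ₀
  have hθ1σ : ∀ b, θ1 b = θR (σ b) := fun b => rfl
  have hθ1 : ∀ b, θ1 (algebraMap B B1 b) = θ b := fun b => by rw [hθ1σ, hσb, hθπ]
  have hε1 : θ1 ε ≠ 0 := by rw [hθ1σ, hε, map_one]; exact one_ne_zero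
  have hdisc : θ1 (β ^ 2 - 4 * α * γ) ≠ 0 := by
    have e : θ1 (β ^ 2 - 4 * α * γ) = - θ (hessian δ h) := by
      rw [hθ1σ, show σ (β ^ 2 - 4 * α * γ) = σ β ^ 2 - (2 * σ α) * (2 * σ γ) by
        simp only [map_sub, map_mul, map_pow, map_ofNat]; ring, hα2, hβ, hγ2]
      simp only [hDz, hDb, hσb, map_sub, map_mul, map_pow, hθπ, hessian]
      ring
    rw [e]; exact neg_ne_zero.2 hH
  have hyθ : ∀ l, θ1 (y l) = 0 := fun l => by rw [hθ1σ, hy, map_zero]
  by_cases hα : θ1 α = 0
  swap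
  · refine exists_morse_of_form hR' hcy θ1 hθ1 a y ε α β γ hε1 hα hdisc hyθ ?_ heq
    simp [Matrix.det_fin_two, hcy.dual]
  by_cases hγ : θ1 γ = 0
  swap
  · refine exists_morse_of_form hR' hcy θ1 hθ1 a ![y 1, y 0] ε γ β α hε1 hγ ?_ (fun l => ?_) ?_ ?_
    · rw [show β ^ 2 - 4 * γ * α = β ^ 2 - 4 * α * γ by ring]; exact hdisc
    · fin_cases l <;> simp [hyθ]
    · simp [Matrix.det_fin_two, hcy.dual]
    · simp only [Matrix.cons_val_zero, Matrix.cons_val_one]
      linear_combination heq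
  refine exists_morse_of_form hR' hcy θ1 hθ1 a ![y 0, y 1 - y 0] ε (α + β + γ) (β + 2 * γ) γ hε1 ?_ ?_
    (fun l => ?_) ?_ ?_
  · simp only [map_add, hα, hγ, zero_add, add_zero]
    intro h0
    exact hdisc (by simp [h0, hα])
  · rw [show (β + 2 * γ) ^ 2 - 4 * (α + β + γ) * γ = β ^ 2 - 4 * α * γ by ring]; exact hdisc
  · fin_cases l <;> simp [hyθ]
  · simp [Matrix.det_fin_two, hcy.dual]
  · simp only [Matrix.cons_val_zero, Matrix.cons_val_one]
    linear_combination heq

end

end Groth.Agent.NodeFam
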