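import Groth.Agent.NodeFam.Models
import Groth.Agent.S0066
import Mathlib.RingTheory.LocalProperties.IntegrallyClosed
import Mathlib.RingTheory.Polynomial.IsIntegral

/-!
# Normality of nodes
-/

set_option autoImplicit false
set_option backward.isDefEq.respectTransparency false
set_option backward.isDefEq.respectTransparency.types false
set_option linter.style.haveILetI false

universe u

open CategoryTheory AlgebraicGeometry

namespace Groth.Agent.NodeFam

noncomputable section

/-- Normality at a point. -/
def NormalAt {X : Scheme.{u}} (x : X) : Prop :=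
  IsDomain (X.presheaf.stalk x) ∧ IsIntegrallyClosed (X.presheaf.stalk x)

theorem normalAt_iff_of_etale {X Y : Scheme.{u}} (f : X ⟶ Y) [Etale f] [IsLocallyNoetherian Y] (x : X) :
    NormalAt x ↔ NormalAt (f x) := S0066.result f x

/-- Stalks of a spectrum are localisations. -/
theorem normalAt_spec_iff {N : Type u} [CommRing N] (p : ↥(Spec (CommRingCat.of N))) :
    NormalAt p ↔ IsDomain (Localization.AtPrime p.asIdeal) ∧ IsIntegrallyClosed (Localization.AtPrime p.asIdeal) := by
  obtain ⟨e⟩ : Nonempty (Localization.AtPrime p.asIdeal ≃+* (Spec (CommRingCat.of N)).presheaf.stalk p) := by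
    letI : Algebra N ((Spec (CommRingCat.of N)).presheaf.stalk p) :=
      inferInstanceAs (Algebra N ((Spec.structureSheaf N).presheaf.stalk p))
    haveI : IsLocalization.AtPrime ((Spec (CommRingCat.of N)).presheaf.stalk p) p.asIdeal :=
      inferInstanceAs (IsLocalization.AtPrime ((Spec.structureSheaf N).presheaf.stalk p) p.asIdeal)
    exact ⟨(Localization.algEquiv p.asIdeal.primeCompl _).toRingEquiv⟩
  refine ⟨fun ⟨h1, h2⟩ => ?_, fun ⟨h1, h2⟩ => ?_⟩
  · haveI := h1; haveI := h2
    exact ⟨MulEquiv.isDomain _ e.toMulEquiv, IsIntegrallyClosed.of_equiv e.symm⟩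
  · haveI := h1; haveI := h2
    exact ⟨MulEquiv.isDomain _ e.symm.toMulEquiv, IsIntegrallyClosed.of_equiv e⟩

/-- A normal domain is normal at all points. -/
theorem normalAt_spec {N : Type u} [CommRing N] [IsDomain N] [IsIntegrallyClosed N]
    (p : ↥(Spec (CommRingCat.of N))) : NormalAt p := by
  refine (normalAt_spec_iff p).2 ⟨inferInstance, ?_⟩
  exact isIntegrallyClosed_of_isLocalization (R := N) _ p.asIdeal.primeCompl p.asIdeal.primeCompl_le_nonZeroDivisors

/-- Near each prime a normal Noetherian ring is a normal domain. -/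
theorem exists_away_normal {R' : Type u} [CommRing R'] [IsNoetherianRing R']
    (h : ∀ p : ↥(Spec (CommRingCat.of R')), NormalAt p) (n : Ideal R') [n.IsPrime] :
    ∃ g : R', g ∉ n ∧ ∃ (_ : IsDomain (Localization.Away g)), IsIntegrallyClosed (Localization.Away g) := by
  classical
  obtain ⟨hdom, -⟩ := (normalAt_spec_iff ⟨n, ‹n.IsPrime›⟩).1 (h ⟨n, ‹n.IsPrime›⟩)
  haveI : IsDomain (Localization.AtPrime n) := hdom
  set K0 := RingHom.ker (algebraMap R' (Localization.AtPrime n)) with hK0
  obtain ⟨s, hs⟩ : K0.FG := IsNoetherian.noetherian K0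
  have hann : ∀ r ∈ s, ∃ c : n.primeCompl, (c : R') * r = 0 := fun r hr =>
    (IsLocalization.map_eq_zero_iff n.primeCompl (Localization.AtPrime n) r).1
      (show r ∈ K0 from hs ▸ Ideal.subset_span hr)
  choose c hc using hann
  let g : n.primeCompl := ∏ r ∈ s.attach, c r.1 r.2
  have hg : ∀ r ∈ K0, (g : R') * r = 0 := by
    have hle : K0 ≤ (⊥ : Ideal R').colon ((Ideal.span {(g : R')} : Ideal R') : Set R') := by
      rw [← hs, Ideal.span_le]
      intro r hr
      rw [SetLike.mem_coe, Submodule.mem_colon]
      intro z hz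
      obtain ⟨d, rfl⟩ := Ideal.mem_span_singleton'.1 hz
      rw [Submodule.mem_bot, smul_eq_mul]
      obtain ⟨q, hq⟩ : ((c r hr : n.primeCompl) : R') ∣ (g : R') := by
        have := Finset.dvd_prod_of_mem (fun r : {r // r ∈ s} => ((c r.1 r.2 : n.primeCompl) : R'))
          (Finset.mem_attach s ⟨r, hr⟩)
        simpa [g] using this
      rw [hq]
      linear_combination (d * q) * hc r hr
    intro r hr
    have := Submodule.mem_colon.1 (hle hr) _ (Ideal.mem_span_singleton_self (g : R'))
    rw [Submodule.mem_bot, smul_eq_mul] at this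
    rw [mul_comm]; exact this
  refine ⟨g, g.2, ?_⟩
  have hu : IsUnit (algebraMap R' (Localization.AtPrime n) g) := IsLocalization.map_units _ g
  let ι : Localization.Away (g : R') →+* Localization.AtPrime n := IsLocalization.Away.lift (g : R') hu
  have hι : ∀ r, ι (algebraMap R' _ r) = algebraMap R' _ r := IsLocalization.Away.lift_eq (g : R') hu
  have hinj : Function.Injective ι := by
    rw [injective_iff_map_eq_zero]
    intro z hz
    obtain ⟨k, r, hkr⟩ := IsLocalization.Away.surj (g : R') z
    have h0 : r ∈ K0 := by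
      show algebraMap R' (Localization.AtPrime n) r = 0
      rw [← hι, ← hkr, map_mul, hz, zero_mul]
    have h1 : algebraMap R' (Localization.Away (g : R')) r = 0 :=
      (IsLocalization.map_eq_zero_iff (Submonoid.powers (g : R')) _ r).2 ⟨⟨g, 1, pow_one _⟩, hg r h0⟩
    rw [h1] at hkr
    exact ((IsLocalization.Away.algebraMap_isUnit (g : R')).pow k).mul_left_eq_zero.1 hkr
  haveI hd : IsDomain (Localization.Away (g : R')) := hinj.isDomain
  refine ⟨hd, IsIntegrallyClosed.of_localization_maximal fun p _ _ => ?_⟩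
  haveI : IsOpenImmersion (Spec.map (CommRingCat.ofHom (algebraMap R' (Localization.Away (g : R'))))) :=
    IsOpenImmersion.of_isLocalization (g : R')
  haveI : IsLocallyNoetherian (Spec (CommRingCat.of R')) := inferInstance
  exact ((normalAt_spec_iff (N := Localization.Away (g : R')) ⟨p, inferInstance⟩).1
    ((normalAt_iff_of_etale (Spec.map (CommRingCat.ofHom (algebraMap R' (Localization.Away (g : R'))))) _).2 (h _))).2

section Node

open MvPolynomial

variable {R : Type u} [CommRing R] [IsDomain R] {b : R}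

theorem not_X_dvd_C (i : Fin 2) (hb : b ≠ 0) : ¬ (X i : MvPolynomial (Fin 2) R) ∣ C b := by
  rintro ⟨q, hq⟩
  refine hb ?_
  have := congrArg constantCoeff hq
  simpa using this

theorem not_X_dvd_rel (i : Fin 2) (hb : b ≠ 0) :
    ¬ (X i : MvPolynomial (Fin 2) R) ∣ X 0 * X 1 - C b := by
  intro h
  refine not_X_dvd_C i hb ?_
  have h1 : (X i : MvPolynomial (Fin 2) R) ∣ X 0 * X 1 := by
    fin_cases i
    · exact dvd_mul_right _ _
    · exact dvd_mul_left _ _
  have := dvd_sub h1 h
  rwa [sub_sub_cancel] at this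

/-- The first coordinate is regular. -/
theorem node_regular (hb : b ≠ 0) (f : nodeRing b)
    (hf : (Ideal.Quotient.mk _ (X 0) : nodeRing b) * f = 0) : f = 0 := by
  obtain ⟨F, rfl⟩ := Ideal.Quotient.mk_surjective f
  rw [← map_mul, Ideal.Quotient.eq_zero_iff_mem, Ideal.mem_span_singleton'] at hf
  obtain ⟨H, hH⟩ := hf
  have hp : Prime (X 0 : MvPolynomial (Fin 2) R) := MvPolynomial.X_prime
  obtain ⟨H', rfl⟩ := (hp.dvd_or_dvd ⟨F, hH⟩).resolve_right (not_X_dvd_rel 0 hb)
  rw [Ideal.Quotient.eq_zero_iff_mem]
  exact Ideal.mem_span_singleton'.2 ⟨H', mul_left_cancel₀ hp.ne_zero (by rw [← hH]; ring)⟩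

/-- The second coordinate is regular modulo the first. -/
theorem node_regular_mod (hb : b ≠ 0) (f : nodeRing b)
    (hf : (Ideal.Quotient.mk _ (X 0) : nodeRing b) ∣ Ideal.Quotient.mk _ (X 1) * f) :
    (Ideal.Quotient.mk _ (X 0) : nodeRing b) ∣ f := by
  obtain ⟨F, rfl⟩ := Ideal.Quotient.mk_surjective f
  obtain ⟨G, hG⟩ := hf
  obtain ⟨G, rfl⟩ := Ideal.Quotient.mk_surjective G
  rw [← map_mul, ← map_mul, Ideal.Quotient.eq, Ideal.mem_span_singleton'] at hG
  obtain ⟨H, hH⟩ := hG
  -- split off the second variable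
  let σ : MvPolynomial (Fin 2) R →ₐ[R] MvPolynomial (Fin 2) R := aeval ![X 0, 0]
  have hσ : ∀ P, X 1 ∣ P - σ P := fun P => by
    rw [← Ideal.mem_span_singleton, ← Ideal.Quotient.eq]
    have : ((Ideal.Quotient.mkₐ R (Ideal.span {(X 1 : MvPolynomial (Fin 2) R)})).comp σ) =
        Ideal.Quotient.mkₐ R _ := by
      refine MvPolynomial.algHom_ext fun i => ?_
      fin_cases i
      · simp [σ]
      · simpa [σ] using (Ideal.Quotient.eq_zero_iff_mem.2 (Ideal.mem_span_singleton_self _)).symm
    exact (AlgHom.congr_fun this P).symm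
  have hp : Prime (X 0 : MvPolynomial (Fin 2) R) := MvPolynomial.X_prime
  have h0 : X 0 * (σ G) = C b * σ H := by
    have := congrArg σ hH
    simp only [map_mul, map_sub, σ, aeval_X, aeval_C, Matrix.cons_val_zero, Matrix.cons_val_one] at this
    simp only [MvPolynomial.algebraMap_eq] at this
    simp only [σ]
    linear_combination this
  obtain ⟨c, hc⟩ : X 0 ∣ σ H := (hp.dvd_or_dvd ⟨σ G, h0.symm⟩).resolve_left (not_X_dvd_C 0 hb)
  obtain ⟨H1, hH1⟩ := hσ H
  -- now cancel the second variable modulo the first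
  have h3 : X 1 * (F + C b * H1) = X 0 * (G + H * X 1 - C b * c) := by
    rw [sub_eq_iff_eq_add.1 hH1, hc] at hH ⊢
    linear_combination -hH
  obtain ⟨F', hF'⟩ : X 0 ∣ F + C b * H1 := (hp.dvd_or_dvd ⟨_, h3⟩).resolve_left (fun hd => by
    have := X_dvd_X.1 hd
    simp at this)
  refine ⟨Ideal.Quotient.mk _ (F' - X 1 * H1), ?_⟩
  rw [← map_mul, Ideal.Quotient.eq, Ideal.mem_span_singleton']
  exact ⟨H1, by linear_combination -hF'⟩

variable [IsIntegrallyClosed R]

theorem away_normal (i : Fin 2) :
    IsDomain (Localization.Away (Ideal.Quotient.mk _ (X i) : nodeRing b)) ∧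
      IsIntegrallyClosed (Localization.Away (Ideal.Quotient.mk _ (X i) : nodeRing b)) := by
  obtain ⟨e⟩ := nonempty_node_away b i
  have hle := powers_le_nonZeroDivisors_of_noZeroDivisors (Polynomial.X_ne_zero (R := R))
  haveI : IsDomain (Localization.Away (Polynomial.X : Polynomial R)) :=
    IsLocalization.isDomain_localization hle
  haveI : IsIntegrallyClosed (Localization.Away (Polynomial.X : Polynomial R)) :=
    isIntegrallyClosed_of_isLocalization (R := Polynomial R) _ _ hle
  exact ⟨MulEquiv.isDomain _ e.symm.toMulEquiv, IsIntegrallyClosed.of_equiv e.toRingEquiv⟩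

omit [IsDomain R] [IsIntegrallyClosed R] in
theorem injective_away {N : Type u} [CommRing N] (U : N) (hreg : ∀ f, U * f = 0 → f = 0) :
    Function.Injective (algebraMap N (Localization.Away U)) :=
  IsLocalization.injective (Localization.Away U) (M := Submonoid.powers U) (by
    rintro _ ⟨n, rfl⟩
    have h : U ∈ nonZeroDivisors N := mem_nonZeroDivisors_iff_right.2 fun z hz => hreg z (by rwa [mul_comm])
    exact pow_mem h n)

omit [IsDomain R] [IsIntegrallyClosed R] in
/-- Normality from two principal opens. -/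
theorem normal_of_two_opens {N : Type u} [CommRing N] [IsDomain N] {U V : N} (hU0 : U ≠ 0) (hV0 : V ≠ 0)
    (hmod : ∀ f, U ∣ V * f → U ∣ f) [IsDomain (Localization.Away U)] [IsIntegrallyClosed (Localization.Away U)]
    [IsDomain (Localization.Away V)] [IsIntegrallyClosed (Localization.Away V)] : IsIntegrallyClosed N := by
  let K := FractionRing N
  rw [isIntegrallyClosed_iff K]
  intro x hx
  have key : ∀ (w : N), w ≠ 0 → IsDomain (Localization.Away w) → IsIntegrallyClosed (Localization.Away w) →
      ∃ (n : ℕ) (f : N), x * algebraMap N K w ^ n = algebraMap N K f := by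
    intro w hw h1 h2
    have hwu : IsUnit (algebraMap N K w) :=
      isUnit_iff_ne_zero.2 fun h => hw (IsFractionRing.injective N K (by rw [h, map_zero]))
    letI : Algebra (Localization.Away w) K := (IsLocalization.Away.lift w hwu).toAlgebra
    haveI : IsScalarTower N (Localization.Away w) K :=
      IsScalarTower.of_algebraMap_eq fun r => (IsLocalization.Away.lift_eq w hwu r).symm
    haveI : IsFractionRing (Localization.Away w) K :=
      IsFractionRing.isFractionRing_of_isDomain_of_isLocalization (Submonoid.powers w) (Localization.Away w) K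
    obtain ⟨z, hz⟩ := IsIntegrallyClosed.isIntegral_iff.1 (hx.tower_top : IsIntegral (Localization.Away w) x)
    obtain ⟨n, f, hnf⟩ := IsLocalization.Away.surj w z
    refine ⟨n, f, ?_⟩
    rw [IsScalarTower.algebraMap_apply N (Localization.Away w) K w,
      IsScalarTower.algebraMap_apply N (Localization.Away w) K f, ← hz, ← map_pow, ← map_mul, hnf]
  obtain ⟨n, f, hf⟩ := key U hU0 inferInstance inferInstance
  obtain ⟨m, g, hg⟩ := key V hV0 inferInstance inferInstance
  have heq : V ^ m * f = U ^ n * g := IsFractionRing.injective N K (by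
    rw [map_mul, map_mul, map_pow, map_pow, ← hf, ← hg]; ring)
  have h2 : ∀ k f, U ∣ V ^ k * f → U ∣ f := by
    intro k
    induction k with
    | zero => intro f h; simpa using h
    | succ k ihk => intro f h; exact ihk f (hmod _ (by rwa [← mul_assoc, ← pow_succ']))
  have hdiv : ∀ (n : ℕ) (f : N), U ^ n ∣ V ^ m * f → U ^ n ∣ f := by
    intro n
    induction n with
    | zero => intro f _; simp
    | succ n ih =>
      intro f hf
      obtain ⟨f', rfl⟩ := h2 m f ((dvd_pow_self U n.succ_ne_zero).trans hf)
      rw [pow_succ', mul_left_comm, mul_dvd_mul_iff_left hU0] at hf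
      rw [pow_succ']
      exact mul_dvd_mul_left U (ih f' hf)
  obtain ⟨f', rfl⟩ := hdiv n f ⟨g, heq⟩
  refine ⟨f', ?_⟩
  have hne : algebraMap N K U ^ n ≠ 0 :=
    pow_ne_zero _ fun h => hU0 (IsFractionRing.injective N K (by rw [h, map_zero]))
  refine mul_right_cancel₀ hne ?_
  rw [hf, map_mul, map_pow, mul_comm]

/-- A node with a nonzero parameter over a normal domain is normal. -/
theorem node_normal (hb : b ≠ 0) : ∃ (_ : IsDomain (nodeRing b)), IsIntegrallyClosed (nodeRing b) := by
  obtain ⟨hd0, hn0⟩ := away_normal (b := b) (R := R) 0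
  obtain ⟨hd1, hn1⟩ := away_normal (b := b) (R := R) 1
  haveI := hd0; haveI := hn0; haveI := hd1; haveI := hn1
  haveI hdom : IsDomain (nodeRing b) := (injective_away _ (node_regular hb)).isDomain
  let ev : nodeRing b →ₐ[R] FractionRing R := Ideal.Quotient.liftₐ _
    (aeval ![algebraMap R (FractionRing R) b, 1]) fun z hz => by
      obtain ⟨r, rfl⟩ := Ideal.mem_span_singleton'.1 hz
      simp
  have hb' : algebraMap R (nodeRing b) b ≠ 0 := fun h => hb (IsFractionRing.injective R (FractionRing R) (by
    rw [map_zero, ← ev.commutes, h, map_zero]))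
  rw [← node_rel b 0, show ((0 : Fin 2).rev) = 1 from rfl] at hb'
  exact ⟨hdom, normal_of_two_opens (left_ne_zero_of_mul hb') (right_ne_zero_of_mul hb') (node_regular_mod hb)⟩

omit [IsIntegrallyClosed R] in
/-- The degenerate node is not integral at the generic point of its section. -/
theorem node_zero_not_domain {c : R} (hc : c = 0) (Q : Ideal (nodeRing c)) [Q.IsPrime]
    (hX : ∀ i, Ideal.Quotient.mk _ (X i) ∈ Q) (hR : ∀ r : R, algebraMap R (nodeRing c) r ∈ Q → r = 0) :
    ¬ IsDomain (Localization.AtPrime Q) := by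
  intro hd
  let L := Localization.AtPrime Q
  have h0 : algebraMap _ L (Ideal.Quotient.mk _ (X 0) : nodeRing c) *
      algebraMap _ L (Ideal.Quotient.mk _ (X 1) : nodeRing c) = 0 := by
    rw [← map_mul, show (Ideal.Quotient.mk _ (X 0) : nodeRing c) * Ideal.Quotient.mk _ (X 1) = 0 from
      (node_rel c 0).trans ((congrArg (algebraMap R (nodeRing c)) hc).trans (map_zero _)), map_zero]
  obtain ⟨i, hi⟩ : ∃ i : Fin 2, algebraMap _ L (Ideal.Quotient.mk _ (X i) : nodeRing c) = 0 := by
    rcases mul_eq_zero.1 h0 with h | h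
    exacts [⟨0, h⟩, ⟨1, h⟩]
  obtain ⟨⟨s, hs⟩, hsi⟩ := (IsLocalization.map_eq_zero_iff Q.primeCompl L _).1 hi
  let χ : nodeRing c →ₐ[R] Polynomial R := Ideal.Quotient.liftₐ _
    (aeval fun j => if j = i then Polynomial.X else 0) fun z hz => by
      obtain ⟨r, rfl⟩ := Ideal.mem_span_singleton'.1 hz
      fin_cases i <;> simp [hc]
  have hχs : χ s = 0 := by
    have h1 := congrArg χ hsi
    rw [map_mul, map_zero, show χ (Ideal.Quotient.mk _ (X i)) = Polynomial.X from
      (aeval_X _ i).trans (if_pos rfl)] at h1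
    exact (mul_eq_zero.1 h1).resolve_right Polynomial.X_ne_zero
  refine hs ?_
  obtain ⟨S, rfl⟩ := Ideal.Quotient.mk_surjective s
  have hmk : ∀ P : MvPolynomial (Fin 2) R,
      (Ideal.Quotient.mk _ P : nodeRing c) - algebraMap R _ (constantCoeff P) ∈ Q := by
    intro P
    induction P using MvPolynomial.induction_on with
    | C r => rw [constantCoeff_C]; erw [sub_self]; exact zero_mem _
    | add p q hp hq => rw [map_add, map_add, map_add, add_sub_add_comm]; exact add_mem hp hq
    | mul_X p j _ =>
      rw [map_mul constantCoeff, constantCoeff_X, mul_zero, map_zero, sub_zero, map_mul]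
      exact Ideal.mul_mem_left _ _ (hX j)
  have h2 : ∀ P : MvPolynomial (Fin 2) R, Polynomial.eval 0 (aeval (fun j => if j = i then Polynomial.X else 0) P) =
      constantCoeff P := by
    intro P
    induction P using MvPolynomial.induction_on with
    | C r => simp
    | add p q hp hq => simp [hp, hq]
    | mul_X p j _ => by_cases hj : j = i <;> simp [hj]
  have h3 : constantCoeff S = 0 := by
    rw [← h2, show aeval (fun j => if j = i then (Polynomial.X : Polynomial R) else 0) S = 0 from hχs]
    simp
  simpa [h3] using hmk S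

end Node

end

end Groth.Agent.NodeFam
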