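import Groth.Agent.NodeFam.NodeFibreChart
import Groth.Agent.NodeFam.NodeChart
import Groth.Agent.S2156
import Mathlib.RingTheory.Jacobson.Ring

/-!
# Nodes of a flat family lie in an open set of smooth points and nodes
-/

set_option autoImplicit false
set_option backward.isDefEq.respectTransparency false
set_option backward.isDefEq.respectTransparency.types false
set_option linter.style.haveILetI false

universe u

open CategoryTheory CategoryTheory.Limits AlgebraicGeometry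
open scoped TensorProduct

namespace Groth.Agent.NodeFam

noncomputable section

variable {C S : Scheme.{u}} (π : C ⟶ S)

/-- A node of its fibre. -/
def FibreNode (q : C) : Prop :=
  NodeVia (k := S.residueField (π q)) (AlgebraicClosure (S.residueField (π q))) (π.fiberToSpecResidueField (π q))
    (π.asFiber q)

/-- Having a smooth neighbourhood is lying in the smooth locus. -/
theorem exists_smooth_nhd_iff' [LocallyOfFinitePresentation π] (x : C) :
    (∃ U : C.Opens, x ∈ U ∧ Smooth (U.ι ≫ π)) ↔ x ∈ π.smoothLocus := by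
  constructor
  · rintro ⟨U, hx, hs⟩
    have h : (⟨x, hx⟩ : U) ∈ (U.ι ≫ π).smoothLocus := by
      haveI := hs
      rw [Scheme.Hom.smoothLocus_eq_top (U.ι ≫ π)]
      trivial
    rw [← Scheme.Hom.preimage_smoothLocus_eq] at h
    exact h
  · intro hx
    refine ⟨π.smoothLocus, hx, ?_⟩
    rw [← Scheme.Hom.smoothLocus_eq_top_iff, ← Scheme.Hom.preimage_smoothLocus_eq]
    exact Scheme.Opens.ι_preimage_self π.smoothLocus

/-- The fibre at a point of an affine chart. -/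
theorem exists_pointChart {V : S.Opens} (hV : IsAffineOpen V) {U : C.Opens} (hU : IsAffineOpen U)
    [Algebra Γ(S, V) Γ(C, U)] (e : U ≤ π ⁻¹ᵁ V) (halg : algebraMap Γ(S, V) Γ(C, U) = (π.appLE V U e).hom)
    (q : C) (hq : q ∈ U) [Algebra Γ(S, V) (S.residueField (π q))]
    (hres : algebraMap Γ(S, V) (S.residueField (π q)) = (S.presheaf.germ V (π q) (e hq) ≫ S.residue (π q)).hom) :
    ∃ (j : Spec (CommRingCat.of (S.residueField (π q) ⊗[Γ(S, V)] Γ(C, U))) ⟶ π.fiber (π q))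
      (N : ↥(Spec (CommRingCat.of (S.residueField (π q) ⊗[Γ(S, V)] Γ(C, U))))), IsOpenImmersion j ∧
      Spec.map (CommRingCat.ofHom
          (algebraMap (S.residueField (π q)) (S.residueField (π q) ⊗[Γ(S, V)] Γ(C, U)))) =
        j ≫ π.fiberToSpecResidueField (π q) ∧
      (∀ M, π.fiberι (π q) (j M) = hU.fromSpec ((Spec.map (CommRingCat.ofHom
        (Algebra.TensorProduct.includeRight :
          Γ(C, U) →ₐ[Γ(S, V)] S.residueField (π q) ⊗[Γ(S, V)] Γ(C, U)).toRingHom)) M)) ∧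
      j N = π.asFiber q ∧
      N.asIdeal.comap (Algebra.TensorProduct.includeRight :
          Γ(C, U) →ₐ[Γ(S, V)] S.residueField (π q) ⊗[Γ(S, V)] Γ(C, U)) = (hU.primeIdealOf ⟨q, hq⟩).asIdeal := by
  obtain ⟨j, hj, hsnd, hfst, hrange⟩ := exists_fibreChart π hV hU e halg (π q) (e hq) hres
  obtain ⟨N, hN⟩ := hrange (π.asFiber q) (by rw [π.fiberι_asFiber]; exact hq)
  refine ⟨j, N, hj, hsnd, hfst, hN, ?_⟩
  have h1 := hfst N
  rw [hN, π.fiberι_asFiber] at h1
  have h2 : hU.primeIdealOf ⟨q, hq⟩ = (Spec.map (CommRingCat.ofHom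
      (Algebra.TensorProduct.includeRight :
        Γ(C, U) →ₐ[Γ(S, V)] S.residueField (π q) ⊗[Γ(S, V)] Γ(C, U)).toRingHom)) N :=
    hU.fromSpec.isOpenEmbedding.injective ((hU.fromSpec_primeIdealOf ⟨q, hq⟩).trans h1)
  rw [h2]
  rfl

/-- A point with a tangent vector has no étale neighbourhood. -/
theorem not_etale_of_hasTangent {V : S.Opens} (hV : IsAffineOpen V) {U : C.Opens} (hU : IsAffineOpen U)
    [Algebra Γ(S, V) Γ(C, U)] (e : U ≤ π ⁻¹ᵁ V) (halg : algebraMap Γ(S, V) Γ(C, U) = (π.appLE V U e).hom)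
    (q : C) (hq : q ∈ U) (htan : ∀ (L : Type u) [Field L] [Algebra Γ(S, V) L] (θ : Γ(C, U) →ₐ[Γ(S, V)] L),
      RingHom.ker θ = (hU.primeIdealOf ⟨q, hq⟩).asIdeal → HasTangent θ)
    {Y : Scheme.{u}} (g : Y ⟶ C) [IsOpenImmersion g] (hqg : q ∈ Set.range g) : ¬ Etale (g ≫ π) := by
  intro het
  obtain ⟨a, hale, hqa⟩ := hU.exists_basicOpen_le (V := g.opensRange) ⟨q, hqg⟩ hq
  let A' := Localization.Away a
  let ga : Spec (CommRingCat.of A') ⟶ C := Spec.map (CommRingCat.ofHom (algebraMap Γ(C, U) A')) ≫ hU.fromSpec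
  haveI : IsOpenImmersion (Spec.map (CommRingCat.ofHom (algebraMap Γ(C, U) A'))) :=
    IsOpenImmersion.of_isLocalization a
  have hmemU : ∀ x : ↥(Spec (CommRingCat.of A')), ga x ∈ C.basicOpen a := by
    intro x
    have h1 : (Spec.map (CommRingCat.ofHom (algebraMap Γ(C, U) A'))) x ∈ PrimeSpectrum.basicOpen a := by
      intro h2
      exact x.isPrime.ne_top (Ideal.eq_top_of_isUnit_mem _ h2 (IsLocalization.Away.algebraMap_isUnit a))
    rw [← hU.fromSpec_preimage_basicOpen] at h1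
    exact h1
  have hrange : Set.range ga ⊆ Set.range g := by
    rintro _ ⟨x, rfl⟩
    exact hale (hmemU x)
  have h1 : Etale (ga ≫ π) := by
    rw [← IsOpenImmersion.lift_fac g ga hrange, Category.assoc]
    haveI : IsOpenImmersion (IsOpenImmersion.lift g ga hrange) := by
      haveI : IsOpenImmersion (IsOpenImmersion.lift g ga hrange ≫ g) := by
        rw [IsOpenImmersion.lift_fac]; infer_instance
      exact IsOpenImmersion.of_comp _ g
    infer_instance
  have hφ : Spec.map (CommRingCat.ofHom (algebraMap Γ(S, V) A')) ≫ hV.fromSpec = ga ≫ π := by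
    have h2 : Spec.map (CommRingCat.ofHom (algebraMap Γ(S, V) Γ(C, U))) ≫ hV.fromSpec = hU.fromSpec ≫ π := by
      rw [halg, CommRingCat.ofHom_hom]
      exact hV.SpecMap_appLE_fromSpec π hU e
    rw [IsScalarTower.algebraMap_eq Γ(S, V) Γ(C, U) A', CommRingCat.ofHom_comp, Spec.map_comp, Category.assoc]
    exact (congrArg (Spec.map _ ≫ ·) h2).trans (Category.assoc _ _ _).symm
  haveI : Etale (Spec.map (CommRingCat.ofHom (algebraMap Γ(S, V) A')) ≫ hV.fromSpec) := hφ ▸ h1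
  haveI : Etale (Spec.map (CommRingCat.ofHom (algebraMap Γ(S, V) A'))) := Etale.of_comp _ hV.fromSpec
  haveI : Algebra.Etale Γ(S, V) A' :=
    RingHom.etale_algebraMap.1 ((HasRingHomProperty.Spec_iff (P := @Etale)
      (φ := CommRingCat.ofHom (algebraMap Γ(S, V) A'))).1 inferInstance)
  set 𝔮 := (hU.primeIdealOf ⟨q, hq⟩).asIdeal with h𝔮
  haveI : 𝔮.IsPrime := (hU.primeIdealOf ⟨q, hq⟩).isPrime
  let L := AlgebraicClosure 𝔮.ResidueField
  let θ : Γ(C, U) →ₐ[Γ(S, V)] L := IsScalarTower.toAlgHom Γ(S, V) Γ(C, U) L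
  have hθ : RingHom.ker θ = 𝔮 := by
    ext b
    show algebraMap Γ(C, U) L b = 0 ↔ b ∈ 𝔮
    rw [IsScalarTower.algebraMap_apply Γ(C, U) 𝔮.ResidueField L, map_eq_zero,
      Ideal.algebraMap_residueField_eq_zero]
  obtain ⟨D, hD, b, hb⟩ := htan L θ hθ
  have ha : θ a ≠ 0 := by
    intro h0
    have h2 : a ∈ 𝔮 := hθ.le h0
    have h3 : hU.primeIdealOf ⟨q, hq⟩ ∈ hU.fromSpec ⁻¹ᵁ C.basicOpen a := by
      show hU.fromSpec _ ∈ C.basicOpen a
      rw [hU.fromSpec_primeIdealOf]; exact hqa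
    rw [hU.fromSpec_preimage_basicOpen] at h3
    exact h3 h2
  obtain ⟨D₁, hD₁⟩ := exists_liftPoint (A' := A') a D
    (TrivSqZeroExt.isUnit_iff_isUnit_fst.2 (by rw [hD]; exact isUnit_iff_ne_zero.2 ha))
  obtain ⟨θ₁, hθ₁⟩ := exists_liftPoint (A' := A') a θ (isUnit_iff_ne_zero.2 ha)
  let D₂ : A' →ₐ[Γ(S, V)] DualNumber L := (TrivSqZeroExt.inlAlgHom Γ(S, V) L L).comp θ₁
  let fstA : DualNumber L →ₐ[Γ(S, V)] L := TrivSqZeroExt.fstHom Γ(S, V) L L
  have hnil : IsNilpotent (RingHom.ker fstA) := ⟨2, by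
    show RingHom.ker fstA ^ 2 = ⊥
    rw [pow_two (RingHom.ker fstA), eq_bot_iff]
    refine Ideal.mul_le.2 fun x hx y hy => ?_
    have hx' : TrivSqZeroExt.fst x = 0 := hx
    have hy' : TrivSqZeroExt.fst y = 0 := hy
    rw [Submodule.mem_bot]
    ext <;> simp [hx', hy']⟩
  have hfst : ∀ x, TrivSqZeroExt.fst (D₁ x) = θ₁ x := by
    have e1 : fstA.comp D₁ = θ₁ := by
      refine AlgHom.coe_ringHom_injective (IsLocalization.ringHom_ext (Submonoid.powers a) (RingHom.ext fun b => ?_))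
      show TrivSqZeroExt.fst (D₁ (algebraMap Γ(C, U) A' b)) = θ₁ (algebraMap Γ(C, U) A' b)
      exact (congrArg TrivSqZeroExt.fst (AlgHom.congr_fun hD₁ b)).trans ((hD b).trans (AlgHom.congr_fun hθ₁ b).symm)
    exact fun x => AlgHom.congr_fun e1 x
  have heq : D₁ = D₂ := Algebra.FormallyUnramified.ext (RingHom.ker fstA) hnil fun x => by
    refine Ideal.Quotient.eq.2 ?_
    show fstA (D₁ x - D₂ x) = 0
    rw [map_sub]
    show TrivSqZeroExt.fst (D₁ x) - TrivSqZeroExt.fst (D₂ x) = 0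
    rw [hfst]
    simp [D₂]
  refine hb ?_
  rw [← AlgHom.congr_fun hD₁ b]
  show TrivSqZeroExt.snd (D₁ (algebraMap Γ(C, U) A' b)) = 0
  rw [heq]
  simp [D₂]

/-- Nodes of a flat family have neighbourhoods of smooth points and nodes, none of them étale. -/
theorem exists_open_good [Flat π] [LocallyOfFinitePresentation π] (p : C) (hp : FibreNode π p) :
    ∃ W : C.Opens, p ∈ W ∧ ∀ q ∈ W, (q ∈ π.smoothLocus ∨ FibreNode π q) ∧
      ∀ {Y : Scheme.{u}} (g : Y ⟶ C) [IsOpenImmersion g], q ∈ Set.range g → ¬ Etale (g ≫ π) := by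
  obtain ⟨_, ⟨V, hV, rfl⟩, hpV, -⟩ :=
    S.isBasis_affineOpens.exists_subset_of_mem_open (Set.mem_univ (π p)) isOpen_univ
  obtain ⟨_, ⟨U, hU, rfl⟩, hpU, hUV⟩ :=
    C.isBasis_affineOpens.exists_subset_of_mem_open (show p ∈ π ⁻¹ᵁ V from hpV) (π ⁻¹ᵁ V).2
  have e : U ≤ π ⁻¹ᵁ V := hUV
  letI algA : Algebra Γ(S, V) Γ(C, U) := (π.appLE V U e).hom.toAlgebra
  haveI : Algebra.FinitePresentation Γ(S, V) Γ(C, U) :=
    HasRingHomProperty.appLE @LocallyOfFinitePresentation π inferInstance ⟨V, hV⟩ ⟨U, hU⟩ e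
  haveI : Module.Flat Γ(S, V) Γ(C, U) :=
    HasRingHomProperty.appLE @Flat π inferInstance ⟨V, hV⟩ ⟨U, hU⟩ e
  -- the node
  letI algk : Algebra Γ(S, V) (S.residueField (π p)) :=
    (S.presheaf.germ V (π p) (e hpU) ≫ S.residue (π p)).hom.toAlgebra
  obtain ⟨j, N, hj, hsnd, -, hN, hcomap⟩ := exists_pointChart π hV hU e rfl p hpU rfl
  haveI := hj
  unfold FibreNode at hp
  rw [← hN, nodeVia_iff_of_etale (k := S.residueField (π p)) (AlgebraicClosure (S.residueField (π p))) j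
    (π.fiberToSpecResidueField (π p)) _ hsnd.symm N, nodeVia_spec_iff] at hp
  obtain ⟨hmax, hall⟩ := hp
  haveI := hmax
  obtain ⟨θk, hθk⟩ := exists_point_of_isMaximal (k := S.residueField (π p))
    (A := S.residueField (π p) ⊗[Γ(S, V)] Γ(C, U)) N.asIdeal
  have hnode := (nodeCrit_baseChange θk).1 (hall θk hθk)
  obtain ⟨s0, hs0, hgood⟩ := exists_chart _ hnode
  have hs0p : s0 ∉ (hU.primeIdealOf ⟨p, hpU⟩).asIdeal := by
    rw [← hcomap, ← hθk]
    exact hs0
  have hmem : ∀ (q : C) (hq : q ∈ U), q ∈ C.basicOpen s0 ↔ s0 ∉ (hU.primeIdealOf ⟨q, hq⟩).asIdeal := by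
    intro q hq
    have h1 : hU.primeIdealOf ⟨q, hq⟩ ∈ hU.fromSpec ⁻¹ᵁ C.basicOpen s0 ↔
        hU.primeIdealOf ⟨q, hq⟩ ∈ PrimeSpectrum.basicOpen s0 := by
      rw [hU.fromSpec_preimage_basicOpen]
    have h2 : hU.fromSpec (hU.primeIdealOf ⟨q, hq⟩) = q := hU.fromSpec_primeIdealOf ⟨q, hq⟩
    conv_lhs => rw [← h2]
    exact h1
  refine ⟨C.basicOpen s0, (hmem p hpU).2 hs0p, fun q hqW => ?_⟩
  have hqU : q ∈ U := C.basicOpen_le s0 hqW
  refine ⟨?_, fun {Y} g _ hg => not_etale_of_hasTangent π hV hU e rfl q hqU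
    (fun L _ _ θ hθ => (hgood _ (hU.primeIdealOf ⟨q, hqU⟩).isPrime ((hmem q hqU).1 hqW)).2 L θ hθ) g hg⟩
  have hsmooth : ∀ (r : C) (hr : r ∈ U) (a : Γ(C, U)), a ∉ (hU.primeIdealOf ⟨r, hr⟩).asIdeal →
      Algebra.Smooth Γ(S, V) (Localization.Away a) → r ∈ π.smoothLocus := by
    intro r hr a ha hsm
    rw [Scheme.Hom.mem_smoothLocus, formallySmooth_stalkMap_iff V hV U hU e hr]
    exact Algebra.basicOpen_subset_smoothLocus_iff_smooth.2 hsm ha
  letI algk : Algebra Γ(S, V) (S.residueField (π q)) :=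
    (S.presheaf.germ V (π q) (e hqU) ≫ S.residue (π q)).hom.toAlgebra
  obtain ⟨j, N, hj, hsnd, hfst, hN, hcomap⟩ := exists_pointChart π hV hU e rfl q hqU rfl
  haveI := hj
  set incl : Γ(C, U) →ₐ[Γ(S, V)] S.residueField (π q) ⊗[Γ(S, V)] Γ(C, U) := Algebra.TensorProduct.includeRight
    with hincl
  have hs0N : incl s0 ∉ N.asIdeal := fun h => (hmem q hqU).1 hqW (hcomap.le h)
  haveI : IsJacobsonRing (S.residueField (π q) ⊗[Γ(S, V)] Γ(C, U)) :=
    isJacobsonRing_of_finiteType (A := S.residueField (π q))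
  obtain ⟨M, hNM, hMmax, hs0M⟩ :
      ∃ M : Ideal (S.residueField (π q) ⊗[Γ(S, V)] Γ(C, U)), N.asIdeal ≤ M ∧ M.IsMaximal ∧ incl s0 ∉ M := by
    by_contra hall
    push Not at hall
    refine hs0N ?_
    rw [← isJacobsonRing_iff_prime_eq.1 inferInstance N.asIdeal N.isPrime]
    exact Ideal.mem_sInf.2 fun {M} hM => hall M hM.1 hM.2
  let Mpt : ↥(Spec (CommRingCat.of (S.residueField (π q) ⊗[Γ(S, V)] Γ(C, U)))) := ⟨M, hMmax.isPrime⟩
  have hsp : j N ⤳ j Mpt := ((PrimeSpectrum.le_iff_specializes N Mpt).1 hNM).map j.continuous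
  have hprime : (M.comap incl).IsPrime := Ideal.IsPrime.comap incl (hK := hMmax.isPrime)
  rcases (hgood (M.comap incl) hprime hs0M).1 with ⟨a, ha, hsm⟩ | hnd
  · -- smooth at the specialisation
    left
    let r : C := hU.fromSpec ⟨M.comap incl, hprime⟩
    have hr : r ∈ U := hU.range_fromSpec.le ⟨_, rfl⟩
    have hrp : hU.primeIdealOf ⟨r, hr⟩ = ⟨M.comap incl, hprime⟩ :=
      hU.fromSpec.isOpenEmbedding.injective (hU.fromSpec_primeIdealOf ⟨r, hr⟩)
    have hrs : r ∈ π.smoothLocus := hsmooth r hr a (by rw [hrp]; exact ha) hsm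
    have hqr : q ⤳ r := by
      have h1 := hsp.map (π.fiberι (π q)).continuous
      rw [hN, π.fiberι_asFiber, hfst Mpt] at h1
      exact h1
    exact hqr.mem_open π.smoothLocus.2 hrs
  · have hM : NodeVia (k := S.residueField (π q)) (AlgebraicClosure (S.residueField (π q)))
        (π.fiberToSpecResidueField (π q)) (j Mpt) := by
      rw [nodeVia_iff_of_etale (k := S.residueField (π q)) (AlgebraicClosure (S.residueField (π q))) j
        (π.fiberToSpecResidueField (π q)) _ hsnd.symm Mpt, nodeVia_spec_iff]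
      refine ⟨hMmax, fun θ hθ => (nodeCrit_baseChange θ).2 (hnd _ _ ?_)⟩
      have hθ' : RingHom.ker θ = M := hθ
      rw [← hθ']
      exact Ideal.ext fun b => Iff.rfl
    by_cases hMN : j Mpt = j N
    · exact Or.inr (by unfold FibreNode; rw [← hN, ← hMN]; exact hM)
    · left
      haveI : LocallyOfFinitePresentation (π.fiberToSpecResidueField (π q)) := inferInstance
      have h1 := mem_smoothLocus_of_specializes_node (k := S.residueField (π q))
        (π.fiberToSpecResidueField (π q)) hM hsp (Ne.symm hMN)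
      rw [hN] at h1
      exact (S2156.result π q).2 ⟨Flat.stalkMap π q, h1⟩

end

end Groth.Agent.NodeFam
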