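import Groth.Agent.NodeFam.NodeLocus

/-!
# Good points of families under isomorphic base changes
-/

set_option autoImplicit false
set_option backward.isDefEq.respectTransparency false
set_option backward.isDefEq.respectTransparency.types false
set_option linter.style.haveILetI false

universe u

open CategoryTheory CategoryTheory.Limits AlgebraicGeometry

namespace Groth.Agent.NodeFam

noncomputable section

variable {C S Y : Scheme.{u}} (π : C ⟶ S) [LocallyOfFinitePresentation π]

/-- Goodness is local on the source. -/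
theorem famGood_comp_iff (j : Y ⟶ C) [IsOpenImmersion j] (u : Y) : FamGood (j ≫ π) u ↔ FamGood π (j u) := by
  let s := (j ≫ π) u
  let m : (j ≫ π).fiber s ⟶ π.fiber s := pullback.map _ _ _ _ j (𝟙 _) (𝟙 _) (by simp) (by simp)
  have hm2 : m ≫ π.fiberToSpecResidueField s = (j ≫ π).fiberToSpecResidueField s :=
    (pullback.lift_snd _ _ _).trans (Category.comp_id _)
  have hm1 : π.fiberι s (m ((j ≫ π).asFiber u)) = j u := by
    rw [← Scheme.Hom.comp_apply, show m ≫ π.fiberι s = (j ≫ π).fiberι s ≫ j from pullback.lift_fst _ _ _,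
      Scheme.Hom.comp_apply, Scheme.Hom.fiberι_asFiber]
  have h1 := goodPt_comp_iff (k := S.residueField s) (π.fiberToSpecResidueField s) m ((j ≫ π).asFiber u)
  rw [← hm1]
  refine Iff.trans ?_ (h1.trans (goodPt_fiber_iff π s _))
  show GoodPt (k := S.residueField s) ((j ≫ π).fiberToSpecResidueField s) _ ↔ _
  simp only [hm2]

/-- Goodness in a base change square. -/
theorem famGood_iff_of_isPullback {P S' : Scheme.{u}} {fst : P ⟶ C} {snd : P ⟶ S'} {g : S' ⟶ S}
    (h : IsPullback fst snd π g) [LocallyOfFinitePresentation snd] (p : P) : FamGood snd p ↔ FamGood π (fst p) := by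
  obtain ⟨e, he1, he2⟩ : ∃ e : P ≅ pullback π g, e.hom ≫ pullback.fst π g = fst ∧ e.hom ≫ pullback.snd π g = snd :=
    ⟨h.isoPullback, h.isoPullback_hom_fst, h.isoPullback_hom_snd⟩
  subst he1 he2
  rw [famGood_comp_iff (pullback.snd π g) e.hom p, famGood_bc_iff, Scheme.Hom.comp_apply]

end

end Groth.Agent.NodeFam
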