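import Groth.Agent.PSLib.Basic
import Mathlib.LinearAlgebra.Dimension.Constructions
import Mathlib.LinearAlgebra.Isomorphisms

/-!
# Truncations of the node ring `K⟦X, Y⟧/(XY)`
-/

set_option autoImplicit false

universe u

open MvPowerSeries

namespace Groth.Agent.NodeFam

noncomputable section

variable (K : Type u) [Field K]

/-- The power series ring in two variables. -/
abbrev PS2 : Type u := MvPowerSeries (Fin 2) K

/-- The equation of the standard node. -/
abbrev nodeIdeal : Ideal (PS2 K) := Ideal.span {(X 0 * X 1 : PS2 K)}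

/-- The node equation together with a power of the maximal ideal. -/
abbrev truncIdeal (N : ℕ) : Ideal (PS2 K) := nodeIdeal K ⊔ PSLib.vars 2 K ^ N

/-- The coefficients on the axes up to degree `n`. -/
def axisCoeff (n : ℕ) : PS2 K →ₗ[K] (Fin (n + 1) ⊕ Fin n → K) :=
  LinearMap.pi fun s => Sum.elim (fun i : Fin (n + 1) => coeff (Finsupp.single 0 i.1))
    (fun j : Fin n => coeff (Finsupp.single 1 (j.1 + 1))) s

variable {K}

theorem coeff_X0X1_mul (g : PS2 K) (d : Fin 2 →₀ ℕ) :
    coeff d (X 0 * X 1 * g) = if Finsupp.single 0 1 + Finsupp.single 1 1 ≤ d then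
      coeff (d - (Finsupp.single 0 1 + Finsupp.single 1 1)) g else 0 := by
  rw [X, X, monomial_mul_monomial, one_mul, coeff_monomial_mul]
  simp

theorem coeff_axis_mul (g : PS2 K) (l : Fin 2) (i : ℕ) :
    coeff (Finsupp.single l i) (X 0 * X 1 * g) = 0 := by
  rw [coeff_X0X1_mul, if_neg]
  intro h
  have h0 := h 0
  have h1 := h 1
  fin_cases l <;> simp at h0 h1

/-- Up to a multiple of `XY` a series lives on the axes. -/
theorem exists_axis_decomp (f : PS2 K) : ∃ g : PS2 K,
    ∀ d : Fin 2 →₀ ℕ, d 0 ≠ 0 → d 1 ≠ 0 → coeff d (f - X 0 * X 1 * g) = 0 := by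
  refine ⟨fun d => coeff (d + (Finsupp.single 0 1 + Finsupp.single 1 1)) f, fun d h0 h1 => ?_⟩
  have hle : Finsupp.single 0 1 + Finsupp.single 1 1 ≤ d := by
    intro l; fin_cases l <;> simp <;> omega
  rw [map_sub, coeff_X0X1_mul, if_pos hle, sub_eq_zero]
  show coeff d f = coeff (d - _ + (Finsupp.single 0 1 + Finsupp.single 1 1)) f
  rw [tsub_add_cancel_of_le hle]

theorem axis_cases (d : Fin 2 →₀ ℕ) (h : ¬(d 0 ≠ 0 ∧ d 1 ≠ 0)) :
    d = Finsupp.single 0 (d 0) ∨ d = Finsupp.single 1 (d 1) := by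
  rcases not_and_or.1 h with h | h <;> rw [not_not] at h
  · exact Or.inr (Finsupp.ext fun l => by fin_cases l <;> simp [h])
  · exact Or.inl (Finsupp.ext fun l => by fin_cases l <;> simp [h])

theorem coeff_axis_eq_zero {n : ℕ} {f : PS2 K} (hf : axisCoeff K n f = 0) (l : Fin 2) {m : ℕ} (hm : m ≤ n) :
    coeff (Finsupp.single l m) f = 0 := by
  have hh : ∀ m : ℕ, m ≤ n → coeff (Finsupp.single (0 : Fin 2) m) f = 0 := fun m hm =>
    congrFun hf (Sum.inl ⟨m, Nat.lt_succ_of_le hm⟩)
  match l with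
  | 0 => exact hh m hm
  | 1 =>
    rcases m with _ | m
    · simpa using hh 0 hm
    · exact congrFun hf (Sum.inr ⟨m, hm⟩)

theorem coeff_eq_zero_of_axis {f g : PS2 K} {n : ℕ} (hf : axisCoeff K n f = 0) (d : Fin 2 →₀ ℕ)
    (hd : d.degree ≤ n) (h : ¬(d 0 ≠ 0 ∧ d 1 ≠ 0)) : coeff d (f - X 0 * X 1 * g) = 0 := by
  obtain ⟨l, m, rfl⟩ : ∃ (l : Fin 2) (m : ℕ), d = Finsupp.single l m := by
    rcases axis_cases d h with e | e
    exacts [⟨0, d 0, e⟩, ⟨1, d 1, e⟩]
  rw [Finsupp.degree_single] at hd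
  rw [map_sub, coeff_axis_mul, sub_zero, coeff_axis_eq_zero hf l hd]

theorem mem_truncIdeal_iff (n : ℕ) (f : PS2 K) :
    f ∈ truncIdeal K (n + 1) ↔ axisCoeff K n f = 0 := by
  constructor
  · intro hf
    obtain ⟨a, ha, b, hb, rfl⟩ := Submodule.mem_sup.1 hf
    obtain ⟨g, rfl⟩ := Ideal.mem_span_singleton'.1 ha
    rw [PSLib.mem_pow_iff] at hb
    rw [map_add]
    funext s
    rcases s with i | j <;>
      simp only [axisCoeff, LinearMap.pi_apply, Sum.elim_inl, Sum.elim_inr, Pi.add_apply, Pi.zero_apply]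
    · rw [mul_comm g, coeff_axis_mul, zero_add, hb]
      rw [Finsupp.degree_single]; omega
    · rw [mul_comm g, coeff_axis_mul, zero_add, hb]
      rw [Finsupp.degree_single]; omega
  · intro hf
    obtain ⟨g, hg⟩ := exists_axis_decomp f
    rw [← add_sub_cancel (X 0 * X 1 * g) f]
    refine Submodule.add_mem_sup (Ideal.mul_mem_right _ _ (Ideal.mem_span_singleton_self _)) ?_
    rw [PSLib.mem_pow_iff]
    intro d hd
    by_cases h : d 0 ≠ 0 ∧ d 1 ≠ 0
    · exact hg d h.1 h.2
    · exact coeff_eq_zero_of_axis hf d (Nat.lt_succ_iff.1 hd) h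

theorem axisCoeff_surjective (n : ℕ) : Function.Surjective (axisCoeff K n) := by
  intro v
  refine ⟨∑ i : Fin (n + 1), monomial (Finsupp.single 0 (i : ℕ)) (v (Sum.inl i)) +
    ∑ j : Fin n, monomial (Finsupp.single 1 ((j : ℕ) + 1)) (v (Sum.inr j)), ?_⟩
  classical
  funext s
  rcases s with i | j <;>
    simp only [axisCoeff, LinearMap.pi_apply, Sum.elim_inl, Sum.elim_inr, map_add, map_sum, coeff_monomial]
  · rw [Finset.sum_eq_single i, if_pos rfl, Finset.sum_eq_zero, add_zero]
    · intro j _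
      rw [if_neg]
      intro h
      have := DFunLike.congr_fun h 1
      simp at this
    · intro i' _ hne
      rw [if_neg]
      intro h
      exact hne (Fin.ext (by simpa using (DFunLike.congr_fun h 0).symm))
    · simp
  · rw [Finset.sum_eq_zero, zero_add, Finset.sum_eq_single j, if_pos rfl]
    · intro j' _ hne
      rw [if_neg]
      intro h
      exact hne (Fin.ext (by simpa using (DFunLike.congr_fun h 1).symm))
    · simp
    · intro i _
      rw [if_neg]
      intro h
      have := DFunLike.congr_fun h 1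
      simp at this

/-- The truncation of the node ring has dimension `2n + 1`. -/
theorem finrank_trunc (n : ℕ) :
    Module.finrank K (PS2 K ⧸ truncIdeal K (n + 1)) = 2 * n + 1 ∧
      Module.Finite K (PS2 K ⧸ truncIdeal K (n + 1)) := by
  have hk : LinearMap.ker (axisCoeff K n) = (truncIdeal K (n + 1)).restrictScalars K := by
    ext f; rw [LinearMap.mem_ker, Submodule.restrictScalars_mem, mem_truncIdeal_iff]
  let e : (PS2 K ⧸ truncIdeal K (n + 1)) ≃ₗ[K] (Fin (n + 1) ⊕ Fin n → K) :=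
    (Submodule.Quotient.restrictScalarsEquiv K (truncIdeal K (n + 1))).symm ≪≫ₗ
      (Submodule.quotEquivOfEq _ _ hk.symm) ≪≫ₗ
        (axisCoeff K n).quotKerEquivOfSurjective (axisCoeff_surjective n)
  refine ⟨?_, Module.Finite.equiv e.symm⟩
  rw [e.finrank_eq, Module.finrank_fintype_fun_eq_card, Fintype.card_sum, Fintype.card_fin, Fintype.card_fin]
  ring

/-- A series in every truncation ideal is a multiple of `XY`. -/
theorem mem_nodeIdeal_of_forall (f : PS2 K) (h : ∀ n, f ∈ truncIdeal K (n + 1)) : f ∈ nodeIdeal K := by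
  obtain ⟨g, hg⟩ := exists_axis_decomp f
  suffices h0 : f - X 0 * X 1 * g = 0 by
    rw [sub_eq_zero.1 h0]; exact Ideal.mul_mem_right _ _ (Ideal.mem_span_singleton_self _)
  refine MvPowerSeries.ext fun d => ?_
  by_cases hd : d 0 ≠ 0 ∧ d 1 ≠ 0
  · rw [hg d hd.1 hd.2, map_zero]
  · rw [map_zero]
    exact coeff_eq_zero_of_axis ((mem_truncIdeal_iff d.degree f).1 (h _)) d le_rfl hd

theorem vars_eq : PSLib.vars 2 K = Ideal.span {(X 0 : PS2 K), X 1} := by
  rw [PSLib.vars]
  congr 1
  ext f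
  simp [Fin.exists_fin_two, eq_comm]

end

end Groth.Agent.NodeFam
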