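import Groth.Prelude.Def_CurvBase
import Groth.Agent.ComplBij.Basic
import Groth.Agent.S9232
import Groth.Agent.S9566
import Groth.Agent.GeomConn5.Point
import Mathlib.RingTheory.MvPowerSeries.Basic
import Mathlib.AlgebraicGeometry.AlgClosed.Basic

/-!
# Ordinary double points and their transport

An ordinary double point is preserved by isomorphisms of local rings compatible with an isomorphism of
the base fields, and by étale maps between rational points.
-/

set_option autoImplicit false
set_option backward.isDefEq.respectTransparency false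
set_option backward.isDefEq.respectTransparency.types false
set_option linter.style.haveILetI false
set_option linter.unusedSectionVars false

universe u

open CategoryTheory AlgebraicGeometry IsLocalRing

namespace Groth.Agent.NodeFam

noncomputable section

section Compl

variable {A B : Type u} [CommRing A] [CommRing B] (I : Ideal A) (J : Ideal B) (φ : A →+* B)

theorem compat_truncations (h : I.map φ ≤ J) {m n : ℕ} (hle : m ≤ n) :
    (Ideal.Quotient.factorPow J hle).comp ((Ideal.quotientMap (J ^ n) φ (ComplBij.map_pow_le φ h n)).comp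
        (AdicCompletion.evalₐ I n).toRingHom) =
      (Ideal.quotientMap (J ^ m) φ (ComplBij.map_pow_le φ h m)).comp (AdicCompletion.evalₐ I m).toRingHom := by
  refine RingHom.ext fun x => ?_
  obtain ⟨c, rfl⟩ := AdicCompletion.mk_surjective I A x
  simp only [RingHom.comp_apply, AlgHom.toRingHom_eq_coe, RingHom.coe_coe, AdicCompletion.evalₐ_mk,
    Ideal.quotientMap_mk]
  refine Ideal.Quotient.eq.2 ?_
  rw [← map_sub]
  refine Ideal.mem_comap.1 (ComplBij.map_pow_le φ h m ?_)
  have := SModEq.sub_mem.1 (c.property hle)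
  rw [smul_eq_mul, Ideal.mul_top] at this
  rw [← Ideal.neg_mem_iff, neg_sub]
  exact this

/-- The map of completions induced by a ring map. -/
def mapCompl (h : I.map φ ≤ J) : AdicCompletion I A →+* AdicCompletion J B :=
  AdicCompletion.liftRingHom J
    (fun n => (Ideal.quotientMap (J ^ n) φ (ComplBij.map_pow_le φ h n)).comp
      (AdicCompletion.evalₐ I n).toRingHom) (compat_truncations I J φ h)

theorem mapCompl_algebraMap (h : I.map φ ≤ J) (a : A) :
    mapCompl I J φ h (algebraMap A _ a) = algebraMap B _ (φ a) := by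
  refine AdicCompletion.ext_evalₐ fun n => ?_
  rw [mapCompl, AdicCompletion.evalₐ_liftRingHom J _ (compat_truncations I J φ h), AlgHom.commutes]
  simp only [RingHom.comp_apply, AlgHom.toRingHom_eq_coe, RingHom.coe_coe, AlgHom.commutes,
    Ideal.Quotient.algebraMap_eq, Ideal.quotientMap_mk]

end Compl

section Transfer

variable {K L : Type u} [Field K] [Field L] {A B : Type u} [CommRing A] [CommRing B] [Algebra K A] [Algebra L B]
  [IsLocalRing A] [IsLocalRing B]

/-- Ordinary double points transport along isomorphisms of completions compatible with the constants. -/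
theorem isOrdDoublePt_of_completion (σ : K ≃+* L)
    (ψ : AdicCompletion (maximalIdeal A) A ≃+* AdicCompletion (maximalIdeal B) B)
    (hψ : ∀ c : K, ψ (algebraMap A _ (algebraMap K A c)) = algebraMap B _ (algebraMap L B (σ c)))
    (h : Curv2.IsOrdDoublePt K A) : Curv2.IsOrdDoublePt L B := by
  obtain ⟨e, he⟩ := h
  let s : MvPowerSeries (Fin 2) K ≃+* MvPowerSeries (Fin 2) L :=
    RingEquiv.ofRingHom (MvPowerSeries.map σ.toRingHom) (MvPowerSeries.map σ.symm.toRingHom)
      (by ext f d; simp) (by ext f d; simp)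
  have hs : Ideal.span {(MvPowerSeries.X 0 * MvPowerSeries.X 1 : MvPowerSeries (Fin 2) L)} =
      (Ideal.span {(MvPowerSeries.X 0 * MvPowerSeries.X 1 : MvPowerSeries (Fin 2) K)}).map (s : _ →+* _) := by
    rw [Ideal.map_span, Set.image_singleton]
    show _ = Ideal.span {MvPowerSeries.map σ.toRingHom (MvPowerSeries.X 0 * MvPowerSeries.X 1)}
    rw [map_mul, MvPowerSeries.map_X, MvPowerSeries.map_X]
  refine ⟨(ψ.symm.trans e).trans (Ideal.quotientEquiv _ _ s hs), fun c => ?_⟩
  obtain ⟨c, rfl⟩ := σ.surjective c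
  show Ideal.quotientEquiv _ _ s hs (e (ψ.symm (algebraMap B _ (algebraMap L B (σ c))))) = _
  rw [← hψ, RingEquiv.symm_apply_apply, he, Ideal.quotientEquiv_mk]
  exact congrArg _ (MvPowerSeries.map_C σ.toRingHom c)

/-- Ordinary double points are insensitive to maps inducing isomorphisms of completions. -/
theorem isOrdDoublePt_iff_of_bijective [IsNoetherianRing A] [IsNoetherianRing B] (σ : K ≃+* L) (φ : A →+* B)
    [IsLocalHom φ] (hφ : ∀ c : K, φ (algebraMap K A c) = algebraMap L B (σ c))
    (hb : Function.Bijective (mapCompl (maximalIdeal A) (maximalIdeal B) φ (map_maximalIdeal_le φ))) :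
    Curv2.IsOrdDoublePt K A ↔ Curv2.IsOrdDoublePt L B := by
  let ψ := RingEquiv.ofBijective _ hb
  have hψ : ∀ c : K, ψ (algebraMap A _ (algebraMap K A c)) = algebraMap B _ (algebraMap L B (σ c)) := fun c =>
    (mapCompl_algebraMap _ _ φ (map_maximalIdeal_le φ) _).trans (congrArg _ (hφ c))
  exact ⟨isOrdDoublePt_of_completion σ ψ hψ, isOrdDoublePt_of_completion σ.symm ψ.symm fun c => by
    obtain ⟨c, rfl⟩ := σ.surjective c
    rw [← hψ, RingEquiv.symm_apply_apply, RingEquiv.symm_apply_apply]⟩

/-- Ordinary double points are insensitive to isomorphisms of local rings. -/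
theorem isOrdDoublePt_iff_of_equiv [IsNoetherianRing A] [IsNoetherianRing B] (σ : K ≃+* L) (φ : A →+* B)
    (hφb : Function.Bijective φ) (hφ : ∀ c : K, φ (algebraMap K A c) = algebraMap L B (σ c)) :
    Curv2.IsOrdDoublePt K A ↔ Curv2.IsOrdDoublePt L B := by
  haveI : IsLocalHom φ := ⟨fun a ha => by
    obtain ⟨b, hb⟩ := ha.exists_right_inv
    obtain ⟨b', rfl⟩ := hφb.2 b
    exact IsUnit.of_mul_eq_one b' (hφb.1 (by rw [map_mul, hb, map_one]))⟩
  refine isOrdDoublePt_iff_of_bijective σ φ hφ ?_
  have hm : (maximalIdeal A).map φ = maximalIdeal B := by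
    refine le_antisymm (map_maximalIdeal_le φ) fun b hb => ?_
    obtain ⟨a, rfl⟩ := hφb.2 b
    exact Ideal.mem_map_of_mem _ ((map_mem_nonunits_iff φ a).1 hb)
  refine ComplBij.bijective_of_truncations φ _ (IsNoetherian.noetherian _) (map_maximalIdeal_le φ)
    (mapCompl_algebraMap _ _ φ (map_maximalIdeal_le φ)) (fun n a ha => ?_) fun n b => ?_
  · rw [← hm, ← Ideal.map_pow, Ideal.mem_map_iff_of_surjective φ hφb.2] at ha
    obtain ⟨a', ha', he⟩ := ha
    rwa [← hφb.1 he]
  · obtain ⟨a, rfl⟩ := hφb.2 b
    exact ⟨a, by rw [sub_self]; exact zero_mem _⟩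

/-- A flat unramified map with trivial residue extension preserves ordinary double points. -/
theorem isOrdDoublePt_iff_of_flat_unramified [IsNoetherianRing A] [IsNoetherianRing B] [Algebra A B]
    [IsLocalHom (algebraMap A B)] [Module.Flat A B] (σ : K ≃+* L)
    (hm : (maximalIdeal A).map (algebraMap A B) = maximalIdeal B)
    (hk : Function.Bijective (IsLocalRing.ResidueField.map (algebraMap A B)))
    (hφ : ∀ c : K, algebraMap A B (algebraMap K A c) = algebraMap L B (σ c)) :
    Curv2.IsOrdDoublePt K A ↔ Curv2.IsOrdDoublePt L B :=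
  isOrdDoublePt_iff_of_bijective σ (algebraMap A B) hφ
    (S9232.result A B hm hk _ (RingHom.ext (mapCompl_algebraMap _ _ (algebraMap A B) (map_maximalIdeal_le _))))

end Transfer

section Scheme

variable {K : Type u} [Field K]

/-- Ordinary double point at a point of a scheme over `K`. -/
def ODPAt (K : Type u) [Field K] {X : Scheme.{u}} (f : X ⟶ Spec (CommRingCat.of K)) (x : X) : Prop :=
  @Curv2.IsOrdDoublePt K _ (X.presheaf.stalk x) _ (@Curv2.stalkAlgebra K _ X ⟨f⟩ x) _

/-- The constants in the stalk. -/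
abbrev cst {X : Scheme.{u}} (f : X ⟶ Spec (CommRingCat.of K)) (x : X) : K →+* X.presheaf.stalk x :=
  @Curv2.stalkMap K _ X ⟨f⟩ x

theorem cst_naturality {L : Type u} [Field L] {X Y : Scheme.{u}} (π : Y ⟶ X) (f : X ⟶ Spec (CommRingCat.of K))
    (g : Y ⟶ Spec (CommRingCat.of L)) (σ : K →+* L) (w : π ≫ f = g ≫ Spec.map (CommRingCat.ofHom σ)) (y : Y)
    (c : K) : (π.stalkMap y).hom (cst f (π y) c) = cst g y (σ c) := by
  show (π.stalkMap y).hom ((X.presheaf.germ ⊤ (π y) trivial) (f.appTop ((Scheme.ΓSpecIso _).inv c))) =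
    (Y.presheaf.germ ⊤ y trivial) (g.appTop ((Scheme.ΓSpecIso _).inv (σ c)))
  rw [Scheme.Hom.germ_stalkMap_apply]
  refine congrArg _ ?_
  show (f.appTop ≫ π.appTop) ((Scheme.ΓSpecIso _).inv c) = _
  rw [← Scheme.Hom.comp_appTop, w, Scheme.Hom.comp_appTop]
  show g.appTop ((Spec.map (CommRingCat.ofHom σ)).appTop ((Scheme.ΓSpecIso _).inv c)) = _
  refine congrArg _ ?_
  exact (ConcreteCategory.congr_hom (Scheme.ΓSpecIso_inv_naturality (CommRingCat.ofHom σ)) c).symm

/-- Over an algebraically closed field the residue field at a closed point is the base field. -/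
theorem residue_cst_bijective [IsAlgClosed K] {Y : Scheme.{u}} (g : Y ⟶ Spec (CommRingCat.of K)) [LocallyOfFiniteType g]
    (y : Y) (hy : IsClosed ({y} : Set Y)) :
    Function.Bijective ((IsLocalRing.residue (Y.presheaf.stalk y)).comp (cst g y)) := by
  letI : Y.Over (Spec (CommRingCat.of K)) := ⟨g⟩
  have e : (residueFieldIsoBase g y hy).inv = CommRingCat.ofHom (Curv2.resMap K Y y) :=
    Spec.map_injective (by rw [SpecMap_residueFieldIsoBase_inv]; exact GeomConn5.spec_resMap (k := K) y)
  have hb := ConcreteCategory.bijective_of_isIso (residueFieldIsoBase g y hy).inv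
  rw [e] at hb
  exact hb

/-- Ordinary double points transport along morphisms that are isomorphisms on the stalk. -/
theorem odpAt_iff_of_stalk_iso {L : Type u} [Field L] {X Y : Scheme.{u}} (π : Y ⟶ X)
    (f : X ⟶ Spec (CommRingCat.of K)) (g : Y ⟶ Spec (CommRingCat.of L)) [LocallyOfFiniteType f]
    [LocallyOfFiniteType g] (σ : K ≃+* L) (w : π ≫ f = g ≫ Spec.map (CommRingCat.ofHom σ.toRingHom)) (y : Y)
    (hb : Function.Bijective (π.stalkMap y).hom) : ODPAt K f (π y) ↔ ODPAt L g y := by
  haveI := LocallyOfFiniteType.isLocallyNoetherian f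
  haveI := LocallyOfFiniteType.isLocallyNoetherian g
  letI := @Curv2.stalkAlgebra K _ X ⟨f⟩ (π y)
  letI := @Curv2.stalkAlgebra L _ Y ⟨g⟩ y
  exact isOrdDoublePt_iff_of_equiv σ (π.stalkMap y).hom hb (cst_naturality π f g σ.toRingHom w y)

/-- An étale map preserves and reflects ordinary double points at closed points over an algebraically
closed field. -/
theorem odpAt_iff_of_etale [IsAlgClosed K] {X Y : Scheme.{u}} (π : Y ⟶ X) [Etale π]
    (f : X ⟶ Spec (CommRingCat.of K)) (g : Y ⟶ Spec (CommRingCat.of K)) [LocallyOfFiniteType f]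
    (w : π ≫ f = g) (y : Y) (hy : IsClosed ({y} : Set Y)) : ODPAt K f (π y) ↔ ODPAt K g y := by
  haveI : LocallyOfFiniteType g := w ▸ inferInstance
  haveI := LocallyOfFiniteType.isLocallyNoetherian f
  haveI := LocallyOfFiniteType.isLocallyNoetherian g
  letI := @Curv2.stalkAlgebra K _ X ⟨f⟩ (π y)
  letI := @Curv2.stalkAlgebra K _ Y ⟨g⟩ y
  haveI : JacobsonSpace Y := LocallyOfFiniteType.jacobsonSpace g
  haveI : JacobsonSpace X := LocallyOfFiniteType.jacobsonSpace f
  have hx : IsClosed ({π y} : Set X) := π.closePoints_subset_preimage_closedPoints hy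
  obtain ⟨hflat, hm, -⟩ := (S9566.result π y).1 ⟨⊤, trivial, inferInstance⟩
  letI : Algebra (X.presheaf.stalk (π y)) (Y.presheaf.stalk y) := (π.stalkMap y).hom.toAlgebra
  haveI : Module.Flat (X.presheaf.stalk (π y)) (Y.presheaf.stalk y) := hflat
  haveI : IsLocalHom (algebraMap (X.presheaf.stalk (π y)) (Y.presheaf.stalk y)) :=
    inferInstanceAs (IsLocalHom (π.stalkMap y).hom)
  have hc : ∀ c : K, (π.stalkMap y).hom (cst f (π y) c) = cst g y c :=
    cst_naturality π f g (RingHom.id K) (by rw [w, CommRingCat.ofHom_id, Spec.map_id, Category.comp_id]) y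
  have hsurj : Function.Surjective ((IsLocalRing.residue (Y.presheaf.stalk y)).comp (cst g y)) := by
    intro r
    obtain ⟨c, hc⟩ := (residue_cst_bijective g y hy).2 r
    exact ⟨c, hc⟩
  refine isOrdDoublePt_iff_of_flat_unramified (RingEquiv.refl K) hm ⟨?_, fun r => ?_⟩ hc
  · exact (IsLocalRing.ResidueField.map _).injective
  · obtain ⟨c, rfl⟩ := hsurj r
    exact ⟨IsLocalRing.residue _ (cst f (π y) c), by
      rw [IsLocalRing.ResidueField.map_residue]; exact congrArg _ (hc c)⟩

end Scheme

end

end Groth.Agent.NodeFam
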