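import Groth.Agent.NodeFam.EtaleTaylor
import Mathlib.RingTheory.Smooth.Basic
import Mathlib.LinearAlgebra.TensorProduct.RightExactness

/-!
# Subschemes of an algebra étale over the plane
-/

set_option autoImplicit false
set_option linter.style.haveILetI false

universe u

open scoped TensorProduct
open MvPowerSeries KaehlerDifferential

namespace Groth.Agent.NodeFam

noncomputable section

variable {R B A K : Type u} [CommRing R] [CommRing B] [Algebra R B] [CommRing A] [Algebra R A] [Field K] [Algebra R K]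
  [Algebra (MvPolynomial (Fin 2) R) B] [IsScalarTower R (MvPolynomial (Fin 2) R) B]
  [Algebra.FormallyEtale (MvPolynomial (Fin 2) R) B]

/-- The expansion on a closed subscheme. -/
theorem exists_taylorQuot (q : B →ₐ[R] A) (hq : Function.Surjective q) (θA : A →ₐ[R] K) {ψ : B →ₐ[R] PS2 K}
    (hψ : ∀ l, ψ (coordFun (R := R) l) = MvPowerSeries.C (θA (q (coordFun (R := R) l))) + MvPowerSeries.X l)
    (hcc : ∀ b, constantCoeff (ψ b) = θA (q b)) (J : Ideal (PS2 K)) (hJ : (RingHom.ker q).map ψ = J) :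
    ∃ Φ : K ⊗[R] A →ₐ[K] PS2 K ⧸ J, (∀ b, Φ ((1 : K) ⊗ₜ q b) = Ideal.Quotient.mk J (ψ b)) ∧
      ((RingHom.ker (pointExt θA)).map Φ ≤ (PSLib.vars 2 K).map (Ideal.Quotient.mk J)) ∧
      (∀ n a, Φ a ∈ (PSLib.vars 2 K).map (Ideal.Quotient.mk J) ^ n → a ∈ RingHom.ker (pointExt θA) ^ n) ∧
      (∀ n F, ∃ a, F - Φ a ∈ (PSLib.vars 2 K).map (Ideal.Quotient.mk J) ^ n) := by
  let qK : K ⊗[R] B →ₐ[K] K ⊗[R] A := Algebra.TensorProduct.map (AlgHom.id K K) q
  have hqKt : ∀ (l : K) (b : B), qK (l ⊗ₜ b) = l ⊗ₜ q b := fun l b => rfl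
  have hqK : Function.Surjective qK := fun a => by
    induction a using TensorProduct.induction_on with
    | zero => exact ⟨0, map_zero _⟩
    | tmul l a => obtain ⟨b, rfl⟩ := hq a; exact ⟨l ⊗ₜ b, rfl⟩
    | add a a' ha ha' =>
      obtain ⟨b, rfl⟩ := ha; obtain ⟨b', rfl⟩ := ha'
      exact ⟨b + b', map_add _ _ _⟩
  let ψA : A →ₐ[R] PS2 K ⧸ J :=
    (Ideal.Quotient.liftₐ (RingHom.ker q) ((Ideal.Quotient.mkₐ R J).comp ψ) (fun b hb => by
      show Ideal.Quotient.mk J (ψ b) = 0
      rw [Ideal.Quotient.eq_zero_iff_mem, ← hJ]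
      exact Ideal.mem_map_of_mem ψ hb)).comp (Ideal.quotientKerAlgEquivOfSurjective (f := q) hq).symm.toAlgHom
  have hψA : ∀ b, ψA (q b) = Ideal.Quotient.mk J (ψ b) := fun b => by
    have e : (Ideal.quotientKerAlgEquivOfSurjective (f := q) hq).symm (q b) = Ideal.Quotient.mk (RingHom.ker q) b :=
      (AlgEquiv.symm_apply_eq _).2 rfl
    simp only [ψA, AlgHom.comp_apply]
    erw [e]
    rfl
  let Φ : K ⊗[R] A →ₐ[K] PS2 K ⧸ J :=
    Algebra.TensorProduct.lift (Algebra.ofId K (PS2 K ⧸ J)) ψA fun _ _ => Commute.all _ _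
  have hΦq : ∀ b, Φ (qK b) = Ideal.Quotient.mk J (taylorExt ψ b) := fun b => by
    induction b using TensorProduct.induction_on with
    | zero => simp
    | tmul l b =>
      rw [hqKt, Algebra.TensorProduct.lift_tmul, Algebra.TensorProduct.lift_tmul, map_mul, hψA]
      rfl
    | add b b' hb hb' => rw [map_add, map_add, map_add, map_add, hb, hb']
  obtain ⟨hinj, hsurj⟩ := taylorExt_spec (θ := θA.comp q) hψ hcc
  have hMq : RingHom.ker (pointExt (θA.comp q)) ≤ (RingHom.ker (pointExt θA)).comap qK := fun b hb => by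
    show pointExt θA (qK b) = 0
    have e : (pointExt θA).comp qK = pointExt (θA.comp q) :=
      Algebra.TensorProduct.ext (Subsingleton.elim _ _) (AlgHom.ext fun b => by
        show pointExt θA (qK ((1 : K) ⊗ₜ b)) = pointExt (θA.comp q) ((1 : K) ⊗ₜ b)
        rw [hqKt, Algebra.TensorProduct.lift_tmul, Algebra.TensorProduct.lift_tmul]; rfl)
    exact (AlgHom.congr_fun e b).trans hb
  have hJK : ∀ z ∈ (RingHom.ker q).map (Algebra.TensorProduct.includeRight : B →ₐ[R] K ⊗[R] B), qK z = 0 := by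
    intro z hz
    have : (RingHom.ker q).map (Algebra.TensorProduct.includeRight : B →ₐ[R] K ⊗[R] B) ≤ RingHom.ker qK := by
      rw [Ideal.map_le_iff_le_comap]
      intro b hb
      show qK ((1 : K) ⊗ₜ b) = 0
      rw [hqKt, show q b = 0 from hb, TensorProduct.tmul_zero]
    exact this hz
  refine ⟨Φ, fun b => ?_, ?_, fun n a ha => ?_, fun n F => ?_⟩
  · rw [Algebra.TensorProduct.lift_tmul, map_one, one_mul, hψA]
  · rw [Ideal.map_le_iff_le_comap]
    intro a ha
    obtain ⟨b, rfl⟩ := hqK a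
    show Φ (qK b) ∈ (PSLib.vars 2 K).map (Ideal.Quotient.mk J)
    rw [hΦq]
    refine Ideal.mem_map_of_mem _ ?_
    have e : (pointExt θA).comp qK = pointExt (θA.comp q) :=
      Algebra.TensorProduct.ext (Subsingleton.elim _ _) (AlgHom.ext fun b => by
        show pointExt θA (qK ((1 : K) ⊗ₜ b)) = pointExt (θA.comp q) ((1 : K) ⊗ₜ b)
        rw [hqKt, Algebra.TensorProduct.lift_tmul, Algebra.TensorProduct.lift_tmul]; rfl)
    have hb : b ∈ RingHom.ker (pointExt (θA.comp q)) ^ 1 := by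
      rw [pow_one]; exact ((AlgHom.congr_fun e b).symm).trans ha
    simpa using (hinj 1 b).2 hb
  · obtain ⟨b, rfl⟩ := hqK a
    rw [hΦq, ← Ideal.map_pow] at ha
    obtain ⟨w, hw, hwe⟩ := (Ideal.mem_map_iff_of_surjective _ Ideal.Quotient.mk_surjective).1 ha
    have hmem : w - taylorExt ψ b ∈ (RingHom.ker q).map ψ := hJ ▸ Ideal.Quotient.eq.1 hwe
    have happrox : ∀ z ∈ (RingHom.ker q).map ψ, ∃ c ∈ (RingHom.ker q).map
        (Algebra.TensorProduct.includeRight : B →ₐ[R] K ⊗[R] B), z - taylorExt ψ c ∈ PSLib.vars 2 K ^ n := by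
      intro z hz
      induction hz using Submodule.span_induction with
      | mem z hz =>
        obtain ⟨j, hj, rfl⟩ := hz
        refine ⟨(1 : K) ⊗ₜ j, Ideal.mem_map_of_mem
          (Algebra.TensorProduct.includeRight : B →ₐ[R] K ⊗[R] B) hj, ?_⟩
        rw [Algebra.TensorProduct.lift_tmul, map_one, one_mul, sub_self]
        exact zero_mem _
      | zero => exact ⟨0, zero_mem _, by simp⟩
      | add z z' _ _ hz hz' =>
        obtain ⟨c, hc, h⟩ := hz; obtain ⟨c', hc', h'⟩ := hz'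
        exact ⟨c + c', add_mem hc hc', by convert add_mem h h' using 1; rw [map_add]; ring⟩
      | smul g z _ hz =>
        obtain ⟨c, hc, h⟩ := hz
        obtain ⟨c₀, h₀⟩ := hsurj n g
        refine ⟨c₀ * c, Ideal.mul_mem_left _ _ hc, ?_⟩
        rw [smul_eq_mul, map_mul, show g * z - taylorExt ψ c₀ * taylorExt ψ c =
          (g - taylorExt ψ c₀) * z + taylorExt ψ c₀ * (z - taylorExt ψ c) by ring]
        exact add_mem (Ideal.mul_mem_right _ _ h₀) (Ideal.mul_mem_left _ _ h)
    obtain ⟨c, hc, hcw⟩ := happrox _ hmem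
    have h1 : b + c ∈ RingHom.ker (pointExt (θA.comp q)) ^ n := by
      refine (hinj n _).1 ?_
      rw [map_add, show taylorExt ψ b + taylorExt ψ c =
        w - ((w - taylorExt ψ b) - taylorExt ψ c) by ring]
      exact sub_mem hw hcw
    have h2 := Ideal.mem_map_of_mem qK h1
    rw [Ideal.map_pow] at h2
    have h3 := Ideal.pow_right_mono (Ideal.map_le_iff_le_comap.2 hMq) n h2
    rwa [map_add, hJK c hc, add_zero] at h3
  · obtain ⟨F, rfl⟩ := Ideal.Quotient.mk_surjective F
    obtain ⟨b, hb⟩ := hsurj n F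
    refine ⟨qK b, ?_⟩
    rw [hΦq, ← map_sub, ← Ideal.map_pow]
    exact Ideal.mem_map_of_mem _ hb

/-- The ideal of a point with both first derivatives vanishing expands into order two. -/
theorem taylor_mem_sq {δ : Fin 2 → Derivation R B B} {θ : B →ₐ[R] K}
    (hδ : ∀ i j, δ i (coordFun (R := R) j) = if i = j then 1 else 0) {ψ : B →ₐ[R] PS2 K}
    (hψ : ∀ l, ψ (coordFun (R := R) l) = MvPowerSeries.C (θ (coordFun (R := R) l)) + MvPowerSeries.X l)
    (hcc : ∀ b, constantCoeff (ψ b) = θ b) {h : B} (h0 : θ h = 0) (h1 : ∀ i, θ (δ i h) = 0) :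
    ψ h ∈ PSLib.vars 2 K ^ 2 := by
  rw [PSLib.mem_pow_iff]
  intro d hd
  rcases (by omega : d.degree = 0 ∨ d.degree = 1) with h2 | h2
  · rw [(Finsupp.degree_eq_zero_iff d).1 h2, coeff_zero_eq_constantCoeff_apply, hcc, h0]
  · have h01 : d 0 + d 1 = 1 := by
      have h3 := h2
      rw [Finsupp.degree_eq_sum, Fin.sum_univ_two] at h3
      exact h3
    obtain ⟨l, rfl⟩ : ∃ l : Fin 2, d = Finsupp.single l 1 := by
      rcases (by omega : (d 0 = 1 ∧ d 1 = 0) ∨ (d 0 = 0 ∧ d 1 = 1)) with ⟨e, e'⟩ | ⟨e, e'⟩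
      · exact ⟨0, Finsupp.ext fun l => by fin_cases l <;> simp [e, e']⟩
      · exact ⟨1, Finsupp.ext fun l => by fin_cases l <;> simp [e, e']⟩
    have := hcc (δ l h)
    rw [h1, pderiv_taylor hδ hψ, ← coeff_zero_eq_constantCoeff_apply, coeff_pderiv] at this
    simpa using this

/-- The Hessian in étale coordinates. -/
abbrev hessian (δ : Fin 2 → Derivation R B B) (h : B) : B :=
  δ 0 (δ 0 h) * δ 1 (δ 1 h) - δ 0 (δ 1 h) ^ 2

theorem constantCoeff_hessian {δ : Fin 2 → Derivation R B B} {θ : B →ₐ[R] K}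
    (hδ : ∀ i j, δ i (coordFun (R := R) j) = if i = j then 1 else 0) {ψ : B →ₐ[R] PS2 K}
    (hψ : ∀ l, ψ (coordFun (R := R) l) = MvPowerSeries.C (θ (coordFun (R := R) l)) + MvPowerSeries.X l)
    (hcc : ∀ b, constantCoeff (ψ b) = θ b) (h : B) :
    constantCoeff (pderiv K 0 (pderiv K 0 (ψ h))) * constantCoeff (pderiv K 1 (pderiv K 1 (ψ h))) -
        constantCoeff (pderiv K 0 (pderiv K 1 (ψ h))) ^ 2 = θ (hessian δ h) := by
  simp only [← pderiv_taylor hδ hψ, hcc, hessian, map_sub, map_mul, map_pow]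

/-- A singular point of a plane cut with nondegenerate Hessian is a node. -/
theorem nodeCrit_cut [IsAlgClosed K] (q : B →ₐ[R] A) (hq : Function.Surjective q) {h : B}
    (hker : RingHom.ker q = Ideal.span {h}) {δ : Fin 2 → Derivation R B B}
    (hδ : ∀ i j, δ i (coordFun (R := R) j) = if i = j then 1 else 0) (θA : A →ₐ[R] K)
    (h1 : ∀ i, θA (q (δ i h)) = 0) (hH : θA (q (hessian δ h)) ≠ 0) :
    NodeCrit K (RingHom.ker (pointExt θA)) := by
  obtain ⟨ψ, hψ, hcc⟩ := exists_taylor (θA.comp q)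
  have h0 : θA.comp q h = 0 := by
    show θA (q h) = 0
    rw [show q h = 0 from hker.ge (Ideal.mem_span_singleton_self h), map_zero]
  have hf := taylor_mem_sq hδ hψ hcc h0 h1
  have hD := constantCoeff_hessian hδ hψ hcc h
  obtain ⟨Φ, -, hle, hinj, hsurj⟩ := exists_taylorQuot q hq θA hψ hcc (Ideal.span {ψ h})
    (by rw [hker, Ideal.map_span, Set.image_singleton])
  exact nodeCrit_of_quadCrit ((quadCrit_iff Φ hle hinj hsurj).2 (quadCrit_cone hf (by rw [hD]; exact hH)))

omit [IsScalarTower R (MvPolynomial (Fin 2) R) B] in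
/-- A plane cut with a unit derivative is smooth. -/
theorem formallySmooth_cut [IsScalarTower R (MvPolynomial (Fin 2) R) B] (q : B →ₐ[R] A) (hq : Function.Surjective q)
    {h : B} (hker : RingHom.ker q = Ideal.span {h}) (δ : Derivation R B B) (hu : IsUnit (q (δ h))) :
    Algebra.FormallySmooth R A := by
  haveI : Algebra.FormallySmooth R B := Algebra.FormallySmooth.comp R (MvPolynomial (Fin 2) R) B
  letI : Algebra B A := q.toRingHom.toAlgebra
  haveI : IsScalarTower R B A := IsScalarTower.of_algebraMap_eq fun r => (q.commutes r).symm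
  rw [Algebra.FormallySmooth.iff_split_injection (P := B) hq]
  obtain ⟨v, hv⟩ := hu.exists_left_inv
  obtain ⟨w, rfl⟩ := hq v
  have hh : h ∈ RingHom.ker (algebraMap B A) := hker.ge (Ideal.mem_span_singleton_self h)
  let c₀ : (RingHom.ker (algebraMap B A)).Cotangent := w • Ideal.toCotangent _ ⟨h, hh⟩
  have hkill : ∀ j ∈ RingHom.ker (algebraMap B A), ∀ c : (RingHom.ker (algebraMap B A)).Cotangent, j • c = 0 := by
    intro j hj c
    obtain ⟨x, rfl⟩ := Ideal.toCotangent_surjective _ c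
    rw [← map_smul, Ideal.toCotangent_eq_zero, sq]
    exact Ideal.mul_mem_mul hj x.2
  let m : A →ₗ[B] (RingHom.ker (algebraMap B A)).Cotangent :=
    ((LinearMap.ker (Algebra.linearMap B A)).liftQ (LinearMap.toSpanSingleton B _ c₀) (fun j hj => by
      show j • c₀ = 0
      exact hkill j hj c₀)) ∘ₗ (LinearMap.quotKerEquivOfSurjective (Algebra.linearMap B A) hq).symm.toLinearMap
  have hm : ∀ b, m (algebraMap B A b) = b • c₀ := fun b => by
    have e : (LinearMap.quotKerEquivOfSurjective (Algebra.linearMap B A) hq).symm (algebraMap B A b) =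
        Submodule.Quotient.mk b := (LinearEquiv.symm_apply_eq _).2 rfl
    simp only [m, LinearMap.comp_apply, LinearEquiv.coe_coe, e]
    rfl
  refine ⟨m ∘ₗ (TensorProduct.rid B A).toLinearMap ∘ₗ LinearMap.lTensor A δ.liftKaehlerDifferential,
    LinearMap.ext fun z => ?_⟩
  obtain ⟨⟨x, hx⟩, rfl⟩ := Ideal.toCotangent_surjective _ z
  rw [LinearMap.comp_apply, kerCotangentToTensor_toCotangent, LinearMap.id_apply]
  show m ((TensorProduct.rid B A) (LinearMap.lTensor A δ.liftKaehlerDifferential ((1 : A) ⊗ₜ[B] D R B x))) = _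
  rw [LinearMap.lTensor_tmul, Derivation.liftKaehlerDifferential_comp_D, TensorProduct.rid_tmul,
    Algebra.smul_def, mul_one, hm]
  obtain ⟨r, hr⟩ := Ideal.mem_span_singleton'.1 (hker.le hx)
  have e : (Ideal.toCotangent (RingHom.ker (algebraMap B A)) ⟨x, hx⟩) = r • Ideal.toCotangent _ ⟨h, hh⟩ := by
    rw [← map_smul]; congr 1; exact Subtype.ext hr.symm
  rw [e]
  show δ x • w • Ideal.toCotangent _ ⟨h, hh⟩ = r • Ideal.toCotangent _ ⟨h, hh⟩
  rw [← hr, Derivation.leibniz, smul_smul]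
  have hone : w * δ h - 1 ∈ RingHom.ker (algebraMap B A) := by
    show q (w * δ h - 1) = 0
    rw [map_sub, map_mul, hv, map_one, sub_self]
  have e2 : (r • δ h + h • δ r) * w = r + (r * (w * δ h - 1) + h * (δ r * w)) := by
    simp only [smul_eq_mul]; ring
  rw [e2, add_smul, hkill _ (add_mem (Ideal.mul_mem_left _ _ hone) (Ideal.mul_mem_right _ _ hh)), add_zero]

end

end Groth.Agent.NodeFam
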