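import Groth.Agent.NodeFam.QuadCompletion

/-!
# The quadratic criterion under localisation, completion and extension of scalars
-/

set_option autoImplicit false
set_option linter.style.haveILetI false

universe u

open IsLocalRing
open scoped TensorProduct

namespace Groth.Agent.NodeFam

noncomputable section

variable {k : Type u} [Field k]

section Alg

variable {R S : Type u} [CommRing R] [CommRing S] [Algebra k R] [Algebra k S] {M : Ideal R} {N : Ideal S}

/-- Transfer along an isomorphism. -/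
theorem quadCrit_iff_of_algEquiv (φ : R ≃ₐ[k] S) (h : M.map φ.toAlgHom = N) : QuadCrit k M ↔ QuadCrit k N := by
  refine quadCrit_iff φ.toAlgHom h.le (fun n z hz => ?_) fun n z => ?_
  · rw [← h, ← Ideal.map_pow, Ideal.mem_map_iff_of_surjective φ.toAlgHom φ.surjective] at hz
    obtain ⟨w, hw, he⟩ := hz
    rwa [← φ.injective he]
  · obtain ⟨w, rfl⟩ := φ.surjective z
    exact ⟨w, by simp⟩

/-- Localising at the maximal ideal does not change the criterion. -/
theorem quadCrit_localization_iff [hM : M.IsMaximal] :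
    QuadCrit k M ↔ QuadCrit k (M.map (algebraMap R (Localization.AtPrime M))) := by
  have hs : ∀ (n : ℕ) (s : R), s ∉ M → ∃ t : R, t * s - 1 ∈ M ^ n := by
    intro n s hsM
    have h1 : Ideal.span {s} ⊔ M ^ n = ⊤ := by
      refine Ideal.sup_pow_eq_top ?_
      exact hM.1.2 _ (lt_of_le_of_ne le_sup_right fun h => hsM (by
        rw [h]; exact Ideal.mem_sup_left (Ideal.mem_span_singleton_self s)))
    obtain ⟨w, hw, m, hm, hwm⟩ := Submodule.mem_sup.1 (h1 ▸ Submodule.mem_top : (1 : R) ∈ _)
    obtain ⟨t, rfl⟩ := Ideal.mem_span_singleton'.1 hw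
    exact ⟨t, by rw [← hwm]; simpa using neg_mem hm⟩
  refine quadCrit_iff (IsScalarTower.toAlgHom k R (Localization.AtPrime M)) (le_of_eq rfl) (fun n a ha => ?_)
    fun n b => ?_
  · change algebraMap R _ a ∈ _ at ha
    rw [← Ideal.map_pow, IsLocalization.mem_map_algebraMap_iff M.primeCompl] at ha
    obtain ⟨⟨⟨c, hc⟩, ⟨s, hsM⟩⟩, he⟩ := ha
    rw [← map_mul] at he
    obtain ⟨⟨v, hv⟩, hv'⟩ := (IsLocalization.eq_iff_exists M.primeCompl _).1 he
    obtain ⟨t, ht⟩ := hs n (v * s) (M.primeCompl.mul_mem hv hsM)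
    have e : a = t * v * c - (t * (v * s) - 1) * a := by
      have : v * (a * s) = v * c := hv'
      linear_combination t * this
    rw [e]
    exact sub_mem (Ideal.mul_mem_left _ _ hc) (Ideal.mul_mem_right _ _ ht)
  · obtain ⟨a, ⟨s, hsM⟩, rfl⟩ := IsLocalization.exists_mk'_eq M.primeCompl b
    obtain ⟨t, ht⟩ := hs n s hsM
    refine ⟨t * a, ?_⟩
    show _ - algebraMap R _ (t * a) ∈ _
    rw [← Ideal.map_pow]
    have hu : IsUnit (algebraMap R (Localization.AtPrime M) s) :=
      IsLocalization.map_units (Localization.AtPrime M) (⟨s, hsM⟩ : M.primeCompl)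
    rw [← Ideal.unit_mul_mem_iff_mem _ hu, mul_sub, mul_comm, IsLocalization.mk'_spec, ← map_mul, ← map_sub]
    refine Ideal.mem_map_of_mem _ ?_
    have e : a - s * (t * a) = -((t * s - 1) * a) := by ring
    rw [e]
    exact neg_mem (Ideal.mul_mem_right _ _ ht)

/-- The criterion is insensitive to completion. -/
theorem quadCrit_completion_iff {A : Type u} [CommRing A] [IsLocalRing A] [IsNoetherianRing A] [Algebra k A] :
    QuadCrit k (maximalIdeal A) ↔ QuadCrit k (maximalIdeal (Cmpl A)) := by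
  refine quadCrit_iff (IsScalarTower.toAlgHom k A (Cmpl A)) ?_ (fun n a ha => ?_) fun n b => ?_
  · exact le_of_eq AdicCompletion.maximalIdeal_eq_map.symm
  · rw [← map_pow_maximalIdeal] at ha
    exact mem_of_algebraMap_mem _ ha
  · exact exists_sub_mem_pow b n

/-- The extension of a rational maximal ideal is maximal. -/
theorem isMaximal_extIdeal (L : Type u) [Field L] [Algebra k L] [M.IsMaximal]
    (hres : ∀ r : R, ∃ c : k, r - algebraMap k R c ∈ M) : (extIdeal k L M).IsMaximal := by
  have hle : ∀ b : L ⊗[k] R, ∃ l : L, b - algebraMap L (L ⊗[k] R) l ∈ extIdeal k L M := by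
    intro b
    induction b using TensorProduct.induction_on with
    | zero => exact ⟨0, by simp⟩
    | tmul l a =>
      obtain ⟨c, hc⟩ := hres a
      refine ⟨l * algebraMap k L c, ?_⟩
      have e : l ⊗ₜ[k] a - algebraMap L (L ⊗[k] R) (l * algebraMap k L c) =
          (l ⊗ₜ[k] (1 : R)) * ((1 : L) ⊗ₜ[k] (a - algebraMap k R c)) := by
        rw [Algebra.TensorProduct.tmul_mul_tmul, mul_one, one_mul, TensorProduct.tmul_sub,
          Algebra.TensorProduct.algebraMap_apply, Algebra.algebraMap_self, RingHom.id_apply,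
          Algebra.algebraMap_eq_smul_one (R := k) (A := R), TensorProduct.tmul_smul, TensorProduct.smul_tmul',
          Algebra.smul_def, mul_comm (algebraMap k L c)]
      rw [e]
      exact Ideal.mul_mem_left _ _ (Ideal.mem_map_of_mem
        (Algebra.TensorProduct.includeRight : R →ₐ[k] L ⊗[k] R) hc)
    | add b b' hb hb' =>
      obtain ⟨l, hl⟩ := hb
      obtain ⟨l', hl'⟩ := hb'
      exact ⟨l + l', by convert add_mem hl hl' using 1; rw [map_add]; ring⟩
  have hne : extIdeal k L M ≠ ⊤ := by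
    intro htop
    haveI : Nontrivial (R ⧸ M) := Ideal.Quotient.nontrivial_iff.2 ‹M.IsMaximal›.ne_top
    have hb : Function.Bijective (Algebra.ofId k (R ⧸ M)) := by
      refine ⟨(algebraMap k (R ⧸ M)).injective, fun z => ?_⟩
      obtain ⟨r, rfl⟩ := Ideal.Quotient.mk_surjective z
      obtain ⟨e, he⟩ := hres r
      exact ⟨e, (Ideal.Quotient.eq.2 he).symm⟩
    let ρ : R →ₐ[k] L :=
      (Algebra.ofId k L).comp ((AlgEquiv.ofBijective _ hb).symm.toAlgHom.comp (Ideal.Quotient.mkₐ k M))
    let Φ : L ⊗[k] R →ₐ[L] L := Algebra.TensorProduct.lift (Algebra.ofId L L) ρ fun _ _ => Commute.all _ _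
    have hker : extIdeal k L M ≤ RingHom.ker Φ := by
      rw [Ideal.map_le_iff_le_comap]
      intro m hm
      show Φ ((1 : L) ⊗ₜ[k] m) = 0
      rw [Algebra.TensorProduct.lift_tmul, map_one, one_mul]
      simp [ρ, Ideal.Quotient.eq_zero_iff_mem.2 hm]
    exact RingHom.ker_ne_top Φ (top_le_iff.1 (htop ▸ hker))
  refine Ideal.isMaximal_iff.2 ⟨(Ideal.ne_top_iff_one _).1 hne, fun J r hJ hrM hrJ => ?_⟩
  obtain ⟨c, hc⟩ := hle r
  have hc0 : c ≠ 0 := by rintro rfl; simp at hc; exact hrM hc
  have h1 : algebraMap L (L ⊗[k] R) c ∈ J := by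
    have := sub_mem hrJ (hJ hc)
    rwa [sub_sub_cancel] at this
  have h2 := Ideal.mul_mem_left J (algebraMap L (L ⊗[k] R) c⁻¹) h1
  rwa [← map_mul, inv_mul_cancel₀ hc0, map_one] at h2

end Alg

end

end Groth.Agent.NodeFam
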