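import Groth.Agent.NodeFam.Crit

/-!
# The numerical criterion with a nondegenerate quadratic form

Over a field which is not algebraically closed the product `x * y` becomes a binary quadratic form of
nonzero discriminant; after extending to an algebraically closed field this is the criterion of
`NodeFam.NodeCrit`, and conversely.
-/

set_option autoImplicit false

universe u

open scoped TensorProduct

namespace Groth.Agent.NodeFam

noncomputable section

/-- A binary quadratic form evaluated at a pair. -/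
abbrev quad (k : Type u) [CommRing k] {R : Type u} [CommRing R] [Algebra k R] (a b c : k) (x y : R) : R :=
  algebraMap k R a * (x * x) + algebraMap k R b * (x * y) + algebraMap k R c * (y * y)

/-- The numerical criterion of a node with a quadratic form. -/
def QuadCrit (k : Type u) [Field k] {R : Type u} [CommRing R] [Algebra k R] (M : Ideal R) : Prop :=
  (∀ n : ℕ, Module.finrank k (R ⧸ M ^ (n + 1)) = 2 * n + 1) ∧
    ∃ (x y : R) (a b c : k), 4 * a * c - b ^ 2 ≠ 0 ∧ Ideal.span {x, y} ⊔ M ^ 2 = M ∧ quad k a b c x y ∈ M ^ 3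

variable {k : Type u} [Field k] {R S : Type u} [CommRing R] [CommRing S] [Algebra k R] [Algebra k S]
  {M : Ideal R} {N : Ideal S}

theorem map_mem_pow (φ : R →ₐ[k] S) (h : M.map φ ≤ N) {n : ℕ} {a : R} (ha : a ∈ M ^ n) : φ a ∈ N ^ n := by
  have := Ideal.mem_map_of_mem φ ha
  rw [Ideal.map_pow] at this
  exact Ideal.pow_right_mono h n this

theorem map_quad (φ : R →ₐ[k] S) (a b c : k) (x y : R) : φ (quad k a b c x y) = quad k a b c (φ x) (φ y) := by
  simp [quad]

theorem quad_congr (a b c : k) {x y x' y' : R} (hx : x ∈ M) (hy : y ∈ M) (hxx : x' - x ∈ M ^ 2)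
    (hyy : y' - y ∈ M ^ 2) : quad k a b c x' y' - quad k a b c x y ∈ M ^ 3 := by
  have hx' : x' ∈ M := by simpa using add_mem (Ideal.pow_le_self two_ne_zero hxx) hx
  have hy' : y' ∈ M := by simpa using add_mem (Ideal.pow_le_self two_ne_zero hyy) hy
  have e : quad k a b c x' y' - quad k a b c x y = algebraMap k R a * ((x' - x) * x' + x * (x' - x)) +
      algebraMap k R b * ((x' - x) * y' + x * (y' - y)) + algebraMap k R c * ((y' - y) * y' + y * (y' - y)) := by
    simp only [quad]; ring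
  rw [e]
  have l : ∀ p q : R, p ∈ M ^ 2 → q ∈ M → p * q ∈ M ^ 3 := fun p q hp hq => by
    rw [pow_succ]; exact Ideal.mul_mem_mul hp hq
  have r : ∀ p q : R, p ∈ M → q ∈ M ^ 2 → p * q ∈ M ^ 3 := fun p q hp hq => by
    rw [pow_succ']; exact Ideal.mul_mem_mul hp hq
  exact add_mem (add_mem (Ideal.mul_mem_left _ _ (add_mem (l _ _ hxx hx') (r _ _ hx hxx)))
    (Ideal.mul_mem_left _ _ (add_mem (l _ _ hxx hy') (r _ _ hx hyy))))
    (Ideal.mul_mem_left _ _ (add_mem (l _ _ hyy hy') (r _ _ hy hyy)))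

/-- The criterion transfers along maps bijective on truncations. -/
theorem quadCrit_iff (φ : R →ₐ[k] S) (h : M.map φ ≤ N) (hinj : ∀ n a, φ a ∈ N ^ n → a ∈ M ^ n)
    (hsurj : ∀ n b, ∃ a, b - φ a ∈ N ^ n) : QuadCrit k M ↔ QuadCrit k N := by
  have hd : (∀ n : ℕ, Module.finrank k (R ⧸ M ^ (n + 1)) = 2 * n + 1) ↔
      ∀ n : ℕ, Module.finrank k (S ⧸ N ^ (n + 1)) = 2 * n + 1 :=
    forall_congr' fun n => by rw [finrank_trunc_eq φ h hinj hsurj]
  have hmem1 : ∀ {a : R}, a ∈ M → φ a ∈ N := fun {a} ha => h (Ideal.mem_map_of_mem φ ha)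
  refine and_congr hd ⟨?_, ?_⟩
  · rintro ⟨x, y, a, b, c, hdisc, hspan, hq⟩
    have hx : x ∈ M := hspan ▸ Ideal.mem_sup_left (Ideal.subset_span (by simp))
    have hy : y ∈ M := hspan ▸ Ideal.mem_sup_left (Ideal.subset_span (by simp))
    refine ⟨φ x, φ y, a, b, c, hdisc, le_antisymm (sup_le ?_ (Ideal.pow_le_self two_ne_zero)) fun z hz => ?_, ?_⟩
    · rw [Ideal.span_le]; rintro z (rfl | rfl)
      exacts [hmem1 hx, hmem1 hy]
    · obtain ⟨w, hw⟩ := hsurj 2 z
      have hφw : φ w ∈ N ^ 1 := by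
        rw [pow_one, ← sub_sub_cancel z (φ w)]
        exact sub_mem hz (Ideal.pow_le_self two_ne_zero hw)
      have hwM := hinj 1 w hφw
      rw [pow_one, ← hspan, Submodule.mem_sup] at hwM
      obtain ⟨v, hv, m, hm, rfl⟩ := hwM
      obtain ⟨p, q, rfl⟩ := Ideal.mem_span_pair.1 hv
      refine Submodule.mem_sup.2 ⟨φ p * φ x + φ q * φ y, Ideal.mem_span_pair.2 ⟨φ p, φ q, rfl⟩,
        φ m + (z - φ (p * x + q * y + m)), add_mem (map_mem_pow φ h hm) hw, ?_⟩
      simp only [map_add, map_mul]; ring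
    · rw [← map_quad]; exact map_mem_pow φ h hq
  · rintro ⟨x, y, a, b, c, hdisc, hspan, hq⟩
    have hx : x ∈ N := hspan ▸ Ideal.mem_sup_left (Ideal.subset_span (by simp))
    have hy : y ∈ N := hspan ▸ Ideal.mem_sup_left (Ideal.subset_span (by simp))
    have lift : ∀ z ∈ N, ∃ a ∈ M, φ a - z ∈ N ^ 2 := fun z hz => by
      obtain ⟨a, ha⟩ := hsurj 2 z
      refine ⟨a, ?_, by rw [← neg_sub]; exact neg_mem ha⟩
      have : φ a ∈ N ^ 1 := by
        rw [pow_one, ← sub_sub_cancel z (φ a)]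
        exact sub_mem hz (Ideal.pow_le_self (by norm_num) ha)
      simpa using hinj 1 a this
    obtain ⟨x', hx', hxx⟩ := lift x hx
    obtain ⟨y', hy', hyy⟩ := lift y hy
    refine ⟨x', y', a, b, c, hdisc,
      le_antisymm (sup_le ?_ (Ideal.pow_le_self two_ne_zero)) fun z hz => ?_, hinj 3 _ ?_⟩
    · rw [Ideal.span_le]; rintro z (rfl | rfl)
      exacts [hx', hy']
    · have h1 : φ z ∈ N := hmem1 hz
      rw [← hspan, Submodule.mem_sup] at h1
      obtain ⟨w, hw, m, hm, hwm⟩ := h1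
      obtain ⟨p, q, rfl⟩ := Ideal.mem_span_pair.1 hw
      obtain ⟨p', hp⟩ := hsurj 1 p
      obtain ⟨q', hq'⟩ := hsurj 1 q
      have h3 : φ (z - (p' * x' + q' * y')) ∈ N ^ 2 := by
        have e : φ (z - (p' * x' + q' * y')) = m + (p - φ p') * x + (q - φ q') * y -
            φ p' * (φ x' - x) - φ q' * (φ y' - y) := by
          simp only [map_sub, map_add, map_mul]; linear_combination -hwm
        rw [e]
        rw [pow_one] at hp hq'
        refine sub_mem (sub_mem (add_mem (add_mem hm ?_) ?_) (Ideal.mul_mem_left _ _ hxx))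
          (Ideal.mul_mem_left _ _ hyy)
        · rw [sq]; exact Ideal.mul_mem_mul hp hx
        · rw [sq]; exact Ideal.mul_mem_mul hq' hy
      exact Submodule.mem_sup.2 ⟨p' * x' + q' * y', Ideal.mem_span_pair.2 ⟨p', q', rfl⟩,
        z - (p' * x' + q' * y'), hinj 2 _ h3, by ring⟩
    · rw [map_quad, ← sub_add_cancel (quad k a b c (φ x') (φ y')) (quad k a b c x y)]
      exact add_mem (quad_congr a b c hx hy hxx hyy) hq

theorem QuadCrit.exists_sub_mem (h : QuadCrit k M) (r : R) : ∃ c : k, r - algebraMap k R c ∈ M := by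
  have h1 : Module.finrank k (R ⧸ M ^ (0 + 1)) = 1 := h.1 0
  have hne : (1 : R ⧸ M ^ (0 + 1)) ≠ 0 := by
    intro h0
    haveI : Subsingleton (R ⧸ M ^ (0 + 1)) := subsingleton_of_zero_eq_one h0.symm
    rw [Module.finrank_zero_of_subsingleton] at h1
    omega
  obtain ⟨c, hc⟩ := (finrank_eq_one_iff_of_nonzero' (1 : R ⧸ M ^ (0 + 1)) hne).1 h1 (Ideal.Quotient.mk _ r)
  refine ⟨c, ?_⟩
  rw [Algebra.smul_def, mul_one, IsScalarTower.algebraMap_apply k R (R ⧸ M ^ (0 + 1)),
    Ideal.Quotient.algebraMap_eq, eq_comm, Ideal.Quotient.eq, pow_one] at hc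
  exact hc

variable {L : Type u} [Field L] [Algebra k L]

/-- Over an algebraically closed extension the quadratic criterion becomes the criterion of a node. -/
theorem QuadCrit.ext [IsAlgClosed L] (h : QuadCrit k M) : NodeCrit L (extIdeal k L M) := by
  obtain ⟨hd, u, v, a, b, c, hdisc, hspan, hq⟩ := h
  refine ⟨fun n => by rw [finrank_ext]; exact hd n, ?_⟩
  let ι : R →ₐ[k] L ⊗[k] R := Algebra.TensorProduct.includeRight
  have hι : ∀ s : k, ι (algebraMap k R s) = algebraMap L (L ⊗[k] R) (algebraMap k L s) := fun s => by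
    rw [← IsScalarTower.algebraMap_apply k L (L ⊗[k] R), ι.commutes]
  have hrel : algebraMap L (L ⊗[k] R) (algebraMap k L a) * (ι u * ι u) +
      algebraMap L (L ⊗[k] R) (algebraMap k L b) * (ι u * ι v) +
      algebraMap L (L ⊗[k] R) (algebraMap k L c) * (ι v * ι v) ∈ extIdeal k L M ^ 3 := by
    rw [extIdeal, ← Ideal.map_pow]
    have := Ideal.mem_map_of_mem ι hq
    simpa [quad, hι] using this
  have hgen : Ideal.span {ι u, ι v} ⊔ extIdeal k L M ^ 2 = extIdeal k L M := by
    conv_rhs => rw [extIdeal, ← hspan]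
    rw [Ideal.map_sup, Ideal.map_span, Set.image_pair, Ideal.map_pow]
  have hdiscL : 4 * algebraMap k L a * algebraMap k L c - algebraMap k L b ^ 2 ≠ 0 := by
    have e : 4 * algebraMap k L a * algebraMap k L c - algebraMap k L b ^ 2 =
        algebraMap k L (4 * a * c - b ^ 2) := by simp [map_ofNat]
    rw [e]; exact (_root_.map_ne_zero _).2 hdisc
  obtain ⟨α, β, γ, δ, hpoly⟩ : ∃ α β γ δ : L, α * γ = algebraMap k L a ∧ α * δ + β * γ = algebraMap k L b ∧
      β * δ = algebraMap k L c := by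
    by_cases h3 : algebraMap k L a = 0
    · exact ⟨0, 1, algebraMap k L b, algebraMap k L c, by simp [h3], by simp, by simp⟩
    · obtain ⟨r, hr⟩ := IsAlgClosed.exists_root (Polynomial.C (algebraMap k L a) * Polynomial.X ^ 2 +
        Polynomial.C (algebraMap k L b) * Polynomial.X + Polynomial.C (algebraMap k L c))
        (by rw [Polynomial.degree_quadratic h3]; exact two_ne_zero)
      simp [Polynomial.IsRoot] at hr
      exact ⟨1, -r, algebraMap k L a, algebraMap k L b + algebraMap k L a * r, by ring, by ring,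
        by linear_combination -hr⟩
  have hdet : α * δ - β * γ ≠ 0 := by
    intro h0
    apply hdiscL
    rw [← hpoly.1, ← hpoly.2.1, ← hpoly.2.2]
    linear_combination -(α * δ - β * γ) * h0
  let A := algebraMap L (L ⊗[k] R)
  refine ⟨A α * ι u + A β * ι v, A γ * ι u + A δ * ι v, le_antisymm (sup_le ?_ (Ideal.pow_le_self two_ne_zero)) ?_, ?_⟩
  · have hu : ι u ∈ extIdeal k L M := hgen ▸ Ideal.mem_sup_left (Ideal.subset_span (by simp))
    have hv : ι v ∈ extIdeal k L M := hgen ▸ Ideal.mem_sup_left (Ideal.subset_span (by simp))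
    rw [Ideal.span_le]; rintro z (rfl | rfl) <;>
      exact add_mem (Ideal.mul_mem_left _ _ hu) (Ideal.mul_mem_left _ _ hv)
  · refine hgen.ge.trans (sup_le ?_ le_sup_right)
    rw [Ideal.span_le]
    set D := α * δ - β * γ with hD
    have h1 : A D⁻¹ * A D = 1 := by rw [← map_mul, inv_mul_cancel₀ hdet, map_one]
    rintro z (hz | hz) <;> rw [hz]
    · refine Ideal.mem_sup_left (Ideal.mem_span_pair.2 ⟨A (D⁻¹ * δ), A (-(D⁻¹ * β)), ?_⟩)
      simp only [A, map_neg, map_mul, hD, map_sub] at h1 ⊢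
      linear_combination (ι u) * h1
    · refine Ideal.mem_sup_left (Ideal.mem_span_pair.2 ⟨A (-(D⁻¹ * γ)), A (D⁻¹ * α), ?_⟩)
      simp only [A, map_neg, map_mul, hD, map_sub] at h1 ⊢
      linear_combination (ι v) * h1
  · convert hrel using 1
    simp only [A, ← hpoly.1, ← hpoly.2.1, ← hpoly.2.2, map_add, map_mul]; ring

/-- The quadratic criterion descends from an algebraically closed extension. -/
theorem quadCrit_of_ext [IsAlgClosed L] (hB : NodeCrit L (extIdeal k L M)) : QuadCrit k M := by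
  have hd : ∀ n : ℕ, Module.finrank k (R ⧸ M ^ (n + 1)) = 2 * n + 1 := fun n => by
    rw [← finrank_ext (L := L)]; exact hB.1 n
  refine ⟨hd, ?_⟩
  let ι : R →ₐ[k] L ⊗[k] R := Algebra.TensorProduct.includeRight
  have hι : ∀ s : k, ι (algebraMap k R s) = algebraMap L (L ⊗[k] R) (algebraMap k L s) := fun s => by
    rw [← IsScalarTower.algebraMap_apply k L (L ⊗[k] R), ι.commutes]
  -- residue field and generators downstairs
  have hres : ∀ r : R, ∃ c : k, r - algebraMap k R c ∈ M := by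
    intro r
    have h1 := hd 0
    have hne : (1 : R ⧸ M ^ (0 + 1)) ≠ 0 := by
      intro h0
      haveI : Subsingleton (R ⧸ M ^ (0 + 1)) := subsingleton_of_zero_eq_one h0.symm
      rw [Module.finrank_zero_of_subsingleton] at h1
      omega
    obtain ⟨c, hc⟩ := (finrank_eq_one_iff_of_nonzero' (1 : R ⧸ M ^ (0 + 1)) hne).1 h1 (Ideal.Quotient.mk _ r)
    refine ⟨c, ?_⟩
    rw [Algebra.smul_def, mul_one, IsScalarTower.algebraMap_apply k R (R ⧸ M ^ (0 + 1)),
      Ideal.Quotient.algebraMap_eq, eq_comm, Ideal.Quotient.eq, pow_one] at hc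
    exact hc
  haveI h2fin : FiniteDimensional k (R ⧸ M ^ 2) := FiniteDimensional.of_finrank_pos (by rw [hd 1]; norm_num)
  haveI h1fin : FiniteDimensional k (R ⧸ M ^ 1) := FiniteDimensional.of_finrank_pos (by rw [hd 0]; norm_num)
  obtain ⟨u, v, hspan⟩ : ∃ u v : R, Ideal.span {u, v} ⊔ M ^ 2 = M := by
    let q : (R ⧸ M ^ 2) →ₗ[k] R ⧸ M ^ 1 :=
      (Ideal.Quotient.factorₐ k (Ideal.pow_le_pow_right one_le_two : M ^ 2 ≤ M ^ 1)).toLinearMap
    have hq : Function.Surjective q :=
      Ideal.Quotient.factor_surjective (Ideal.pow_le_pow_right one_le_two : M ^ 2 ≤ M ^ 1)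
    have hker : Module.finrank k (LinearMap.ker q) = 2 := by
      have := q.finrank_range_add_finrank_ker
      rw [LinearMap.range_eq_top.2 hq, finrank_top, show Module.finrank k (R ⧸ M ^ 1) = 1 from hd 0,
        show Module.finrank k (R ⧸ M ^ 2) = 3 from hd 1] at this
      omega
    let b := Module.finBasisOfFinrankEq k _ hker
    obtain ⟨u, hu⟩ := Ideal.Quotient.mk_surjective (b 0 : R ⧸ M ^ 2)
    obtain ⟨v, hv⟩ := Ideal.Quotient.mk_surjective (b 1 : R ⧸ M ^ 2)
    have hmem : ∀ {w : R}, Ideal.Quotient.mk (M ^ 2) w ∈ LinearMap.ker q ↔ w ∈ M := fun {w} => by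
      rw [LinearMap.mem_ker]
      show Ideal.Quotient.factor (Ideal.pow_le_pow_right one_le_two : M ^ 2 ≤ M ^ 1) (Ideal.Quotient.mk (M ^ 2) w) = 0 ↔ _
      rw [Ideal.Quotient.factor_mk, Ideal.Quotient.eq_zero_iff_mem, pow_one]
    refine ⟨u, v, le_antisymm (sup_le ?_ (Ideal.pow_le_self two_ne_zero)) fun w hw => ?_⟩
    · rw [Ideal.span_le]; rintro z (rfl | rfl)
      exacts [hmem.1 (hu ▸ (b 0).2), hmem.1 (hv ▸ (b 1).2)]
    · have hsum := congrArg Subtype.val (b.sum_repr ⟨_, hmem.2 hw⟩)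
      simp only [Fin.sum_univ_two, Submodule.coe_add, Submodule.coe_smul, ← hu, ← hv, Algebra.smul_def,
        IsScalarTower.algebraMap_apply k R (R ⧸ M ^ 2), Ideal.Quotient.algebraMap_eq, ← map_mul,
        ← map_add] at hsum
      exact Submodule.mem_sup.2 ⟨_, Ideal.mem_span_pair.2 ⟨_, _, rfl⟩, _, Ideal.Quotient.eq.1 hsum.symm,
        add_sub_cancel _ w⟩
  -- a quadratic relation
  haveI h3fin : FiniteDimensional k (R ⧸ M ^ 3) := FiniteDimensional.of_finrank_pos (by rw [hd 2]; norm_num)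
  let q6 : (Fin 6 → k) →ₗ[k] R ⧸ M ^ 3 := (Ideal.Quotient.mkₐ k (M ^ 3)).toLinearMap ∘ₗ
    Fintype.linearCombination k ![(1 : R), u, v, u * u, u * v, v * v]
  obtain ⟨c, hc, hc0⟩ : ∃ c, q6 c = 0 ∧ c ≠ 0 := by
    have hne : LinearMap.ker q6 ≠ ⊥ := by
      intro hbot
      have := LinearMap.finrank_le_finrank_of_injective (LinearMap.ker_eq_bot.1 hbot)
      rw [show Module.finrank k (R ⧸ M ^ 3) = 5 from hd 2, Module.finrank_fintype_fun_eq_card,
        Fintype.card_fin] at this
      omega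
    obtain ⟨c, hc, hc0⟩ := Submodule.exists_mem_ne_zero_of_ne_bot hne
    exact ⟨c, hc, hc0⟩
  have hu : u ∈ M := hspan ▸ Ideal.mem_sup_left (Ideal.subset_span (by simp))
  have hv : v ∈ M := hspan ▸ Ideal.mem_sup_left (Ideal.subset_span (by simp))
  have hrel : algebraMap k R (c 0) + algebraMap k R (c 1) * u + algebraMap k R (c 2) * v +
      algebraMap k R (c 3) * (u * u) + algebraMap k R (c 4) * (u * v) + algebraMap k R (c 5) * (v * v) ∈
        M ^ 3 := by
    rw [← Ideal.Quotient.eq_zero_iff_mem, ← hc]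
    simp [q6, Fintype.linearCombination_apply, Fin.sum_univ_six, Algebra.smul_def]
  obtain ⟨e0, e1, e2⟩ := coeff_eq_zero hres hspan (hd 1) (c₀ := c 0) (c₁ := c 1) (c₂ := c 2) (by
    have hq2 : algebraMap k R (c 3) * (u * u) + algebraMap k R (c 4) * (u * v) +
        algebraMap k R (c 5) * (v * v) ∈ M ^ 2 := by
      rw [sq]
      exact add_mem (add_mem (Ideal.mul_mem_left _ _ (Ideal.mul_mem_mul hu hu))
        (Ideal.mul_mem_left _ _ (Ideal.mul_mem_mul hu hv))) (Ideal.mul_mem_left _ _ (Ideal.mul_mem_mul hv hv))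
    have := sub_mem (Ideal.pow_le_pow_right (by norm_num : 2 ≤ 3) hrel) hq2
    convert this using 1; ring)
  simp only [e0, e1, e2, map_zero, zero_mul, zero_add] at hrel
  refine ⟨u, v, c 3, c 4, c 5, fun hdisc => ?_, hspan, hrel⟩
  -- a square would lie in the cube upstairs
  have hgen : Ideal.span {ι u, ι v} ⊔ extIdeal k L M ^ 2 = extIdeal k L M := by
    conv_rhs => rw [extIdeal, ← hspan]
    rw [Ideal.map_sup, Ideal.map_span, Set.image_pair, Ideal.map_pow]
  obtain ⟨α, β, μ, hμ, hnz, hsq⟩ : ∃ α β μ : L, μ ≠ 0 ∧ (α ≠ 0 ∨ β ≠ 0) ∧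
      algebraMap k L (c 3) = μ * α * α ∧ algebraMap k L (c 4) = μ * (2 * α * β) ∧
      algebraMap k L (c 5) = μ * β * β := by
    have hdL : 4 * algebraMap k L (c 3) * algebraMap k L (c 5) = algebraMap k L (c 4) ^ 2 := by
      have := congrArg (algebraMap k L) (sub_eq_zero.1 hdisc)
      simpa [map_ofNat] using this
    by_cases h3 : algebraMap k L (c 3) = 0
    · have h4 : algebraMap k L (c 4) = 0 := by
        rw [h3, mul_zero, zero_mul] at hdL
        exact (pow_eq_zero_iff two_ne_zero).1 hdL.symm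
      refine ⟨0, 1, algebraMap k L (c 5), fun h5 => hc0 (funext fun i => ?_), Or.inr one_ne_zero, by simp [h3],
        by simp [h4], by simp⟩
      rw [map_eq_zero] at h3 h4 h5
      fin_cases i <;> simp [e0, e1, e2, h3, h4, h5]
    · obtain ⟨r, hr⟩ := IsAlgClosed.exists_root (Polynomial.C (algebraMap k L (c 3)) * Polynomial.X ^ 2 +
        Polynomial.C (algebraMap k L (c 4)) * Polynomial.X + Polynomial.C (algebraMap k L (c 5)))
        (by rw [Polynomial.degree_quadratic h3]; exact two_ne_zero)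
      simp [Polynomial.IsRoot] at hr
      have hlin : algebraMap k L (c 4) + 2 * algebraMap k L (c 3) * r = 0 := by
        apply (pow_eq_zero_iff two_ne_zero).1
        linear_combination (4 * algebraMap k L (c 3)) * hr - hdL
      refine ⟨1, -r, algebraMap k L (c 3), h3, Or.inl one_ne_zero, by ring, ?_, ?_⟩
      · linear_combination hlin
      · linear_combination hr - r * hlin
  let A := algebraMap L (L ⊗[k] R)
  set z := A α * ι u + A β * ι v with hz
  have huM : ι u ∈ extIdeal k L M := Ideal.mem_map_of_mem _ hu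
  have hvM : ι v ∈ extIdeal k L M := Ideal.mem_map_of_mem _ hv
  have hzz : z * z ∈ extIdeal k L M ^ 3 := by
    have h3 : A μ * (z * z) ∈ extIdeal k L M ^ 3 := by
      have := Ideal.mem_map_of_mem ι hrel
      rw [Ideal.map_pow] at this
      convert this using 1
      simp only [map_add, map_mul, hι, hsq.1, hsq.2.1, hsq.2.2, A, hz, map_ofNat]
      ring
    exact (Ideal.unit_mul_mem_iff_mem _ ((isUnit_iff_ne_zero.2 hμ).map A)).1 h3
  have hz2 := hB.mem_sq_of_sq_mem (add_mem (Ideal.mul_mem_left _ _ huM) (Ideal.mul_mem_left _ _ hvM)) hzz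
  have hall := coeff_eq_zero hB.exists_sub_mem hgen (hB.1 1) (c₀ := 0) (c₁ := α) (c₂ := β) (by
    rw [map_zero, zero_add]; exact hz2)
  rcases hnz with h | h
  · exact h hall.2.1
  · exact h hall.2.2

end

end Groth.Agent.NodeFam
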