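import Groth.Agent.NodeFam.QuadRing
import Groth.Agent.NodeFam.CritODP

/-!
# Complete local rings satisfying the quadratic criterion
-/

set_option autoImplicit false
set_option linter.style.haveILetI false

universe u

open IsLocalRing

namespace Groth.Agent.NodeFam

noncomputable section

variable {K : Type u} [Field K]

/-- The coordinate ring of the formal quadratic cone. -/
abbrev QuadQuot (a b c : K) : Type u := PS2 K ⧸ quadIdeal a b c

/-- The ideal of the origin of the quadratic cone. -/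
abbrev quadOrigin (a b c : K) : Ideal (QuadQuot a b c) :=
  (PSLib.vars 2 K).map (Ideal.Quotient.mk (quadIdeal a b c))

/-- A nondegenerate quadratic cone satisfies the criterion. -/
theorem quadCrit_origin {a b c : K} (h : 4 * a * c - b ^ 2 ≠ 0) : QuadCrit K (quadOrigin a b c) := by
  refine ⟨fun n => ?_, Ideal.Quotient.mk _ (MvPowerSeries.X 0), Ideal.Quotient.mk _ (MvPowerSeries.X 1),
    a, b, c, h, ?_, ?_⟩
  · rw [quadOrigin, ← Ideal.map_pow, ← finrank_quad_trunc h n]
    exact LinearEquiv.finrank_eq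
      (DoubleQuot.quotQuotEquivQuotSupₐ K (quadIdeal a b c) (PSLib.vars 2 K ^ (n + 1))).toLinearEquiv
  · have hs : quadOrigin a b c = Ideal.span {Ideal.Quotient.mk (quadIdeal a b c) (MvPowerSeries.X 0),
        Ideal.Quotient.mk (quadIdeal a b c) (MvPowerSeries.X 1)} := by
      rw [quadOrigin, vars_eq, Ideal.map_span, Set.image_pair]
    rw [hs, sup_eq_left]
    exact Ideal.pow_le_self two_ne_zero
  · have e := map_quad (Ideal.Quotient.mkₐ K (quadIdeal a b c)) a b c (MvPowerSeries.X 0) (MvPowerSeries.X 1)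
    simp only [Ideal.Quotient.mkₐ_eq_mk] at e
    rw [← e, Ideal.Quotient.eq_zero_iff_mem.2 (Ideal.mem_span_singleton_self _)]
    exact zero_mem _

/-- A series in every truncation ideal is a multiple of the quadratic form. -/
theorem mem_quadIdeal_of_forall {a b c : K} (f : PS2 K)
    (h : ∀ n, f ∈ quadIdeal a b c ⊔ PSLib.vars 2 K ^ (n + 1)) : f ∈ quadIdeal a b c := by
  haveI := PSLib.isRegularLocalRing K 2
  have hv : ∀ l : Fin 2, (MvPowerSeries.X l : PS2 K) ∈ maximalIdeal (PS2 K) := fun l => by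
    rw [PSLib.maximalIdeal_eq_vars]; exact Ideal.subset_span ⟨l, rfl⟩
  have hle : quadIdeal a b c ≤ maximalIdeal (PS2 K) := by
    rw [quadIdeal, Ideal.span_le, Set.singleton_subset_iff]
    exact add_mem (add_mem (Ideal.mul_mem_left _ _ (Ideal.mul_mem_left _ _ (hv 0)))
      (Ideal.mul_mem_left _ _ (Ideal.mul_mem_left _ _ (hv 1))))
      (Ideal.mul_mem_left _ _ (Ideal.mul_mem_left _ _ (hv 1)))
  have hne : quadIdeal a b c ≠ ⊤ := fun e => (maximalIdeal.isMaximal (PS2 K)).ne_top (top_le_iff.1 (e ▸ hle))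
  haveI : Nontrivial (QuadQuot a b c) := Ideal.Quotient.nontrivial_iff.2 hne
  haveI : IsLocalRing (QuadQuot a b c) :=
    IsLocalRing.of_surjective' (Ideal.Quotient.mk (quadIdeal a b c)) Ideal.Quotient.mk_surjective
  have hO : quadOrigin a b c ≠ ⊤ := by
    rw [quadOrigin, ← PSLib.maximalIdeal_eq_vars]
    intro e
    have h1 := congrArg (Ideal.comap (Ideal.Quotient.mk (quadIdeal a b c))) e
    rw [Ideal.comap_map_mk hle, Ideal.comap_top] at h1
    exact (maximalIdeal.isMaximal (PS2 K)).ne_top h1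
  have hf : Ideal.Quotient.mk (quadIdeal a b c) f ∈ ⨅ n : ℕ, quadOrigin a b c ^ n := by
    refine Submodule.mem_iInf _ |>.2 fun n => Ideal.pow_le_pow_right (Nat.le_succ n) ?_
    obtain ⟨p, hp, r, hr, rfl⟩ := Submodule.mem_sup.1 (h n)
    rw [map_add, Ideal.Quotient.eq_zero_iff_mem.2 hp, zero_add, quadOrigin, ← Ideal.map_pow]
    exact Ideal.mem_map_of_mem _ hr
  rw [Ideal.iInf_pow_eq_bot_of_isLocalRing _ hO] at hf
  exact Ideal.Quotient.eq_zero_iff_mem.1 hf

variable {C : Type u} [CommRing C] [IsLocalRing C] [Algebra K C]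

/-- An algebra isomorphic to a nondegenerate quadratic cone satisfies the criterion. -/
theorem quadCrit_of_algEquiv {a b c : K} (h : 4 * a * c - b ^ 2 ≠ 0) (φ : C ≃ₐ[K] QuadQuot a b c) :
    QuadCrit K (maximalIdeal C) := by
  have hq := quadCrit_origin h
  have hmax : (quadOrigin a b c).IsMaximal := by
    refine Ideal.isMaximal_iff.2 ⟨fun h1 => ?_, fun J r hJ hrM hrJ => ?_⟩
    · have h0 := hq.1 0
      rw [(Ideal.eq_top_iff_one _).2 h1, Ideal.top_pow] at h0
      haveI : Subsingleton (QuadQuot a b c ⧸ (⊤ : Ideal (QuadQuot a b c))) :=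
        Ideal.Quotient.subsingleton_iff.2 rfl
      rw [Module.finrank_zero_of_subsingleton] at h0
      omega
    · obtain ⟨t, ht⟩ := hq.exists_sub_mem r
      have ht0 : t ≠ 0 := by rintro rfl; simp at ht; exact hrM ht
      have h1 : algebraMap K (QuadQuot a b c) t ∈ J := by
        have := sub_mem hrJ (hJ ht)
        rwa [sub_sub_cancel] at this
      have h2 := Ideal.mul_mem_left J (algebraMap K (QuadQuot a b c) t⁻¹) h1
      rwa [← map_mul, inv_mul_cancel₀ ht0, map_one] at h2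
  have hmap : (maximalIdeal C).map φ.toAlgHom = quadOrigin a b c := by
    have h2 : (quadOrigin a b c).comap φ.toAlgHom = maximalIdeal C :=
      IsLocalRing.eq_maximalIdeal (Ideal.comap_isMaximal_of_surjective φ.toAlgHom φ.surjective)
    rw [← h2]; exact Ideal.map_comap_of_surjective _ φ.surjective _
  refine (quadCrit_iff φ.toAlgHom hmap.le (fun n z hz => ?_) fun n z => ?_).2 hq
  · rw [← hmap, ← Ideal.map_pow, Ideal.mem_map_iff_of_surjective φ.toAlgHom φ.surjective] at hz
    obtain ⟨a', ha', hea⟩ := hz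
    rwa [← φ.injective hea]
  · obtain ⟨w, rfl⟩ := φ.surjective z
    exact ⟨w, by simp⟩

variable [IsNoetherianRing C] [IsAdicComplete (maximalIdeal C) C]

/-- A complete local ring satisfying the criterion is a quadratic cone. -/
theorem exists_algEquiv_quad (h : QuadCrit K (maximalIdeal C)) :
    ∃ a b c : K, 4 * a * c - b ^ 2 ≠ 0 ∧ Nonempty (C ≃ₐ[K] QuadQuot a b c) := by
  obtain ⟨x, y, a, b, c, hD, hspan, hxy⟩ := h.2
  refine ⟨a, b, c, hD, ?_⟩
  set N := maximalIdeal C with hN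
  have hjac : N ≤ Ideal.jacobson ⊥ := (IsLocalRing.jacobson_eq_maximalIdeal ⊥ bot_ne_top).ge
  have hxN : x ∈ N := hspan ▸ Ideal.mem_sup_left (Ideal.subset_span (by simp))
  have hyN : y ∈ N := hspan ▸ Ideal.mem_sup_left (Ideal.subset_span (by simp))
  have nak : ∀ u v : C, u - x ∈ N ^ 2 → v - y ∈ N ^ 2 → Ideal.span {u, v} = N := by
    intro u v hu hv
    have h1 : Ideal.span {u, v} ⊔ N ^ 2 = N := by
      refine le_antisymm (sup_le ?_ (Ideal.pow_le_self two_ne_zero)) (hspan.ge.trans (sup_le ?_ le_sup_right))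
      · rw [Ideal.span_le]
        rintro z (hz | hz) <;> rw [hz]
        · exact (sub_add_cancel u x) ▸ add_mem (Ideal.pow_le_self two_ne_zero hu) hxN
        · exact (sub_add_cancel v y) ▸ add_mem (Ideal.pow_le_self two_ne_zero hv) hyN
      · rw [Ideal.span_le]
        rintro z (hz | hz) <;> rw [hz]
        · exact (sub_sub_cancel u x) ▸ sub_mem (Ideal.mem_sup_left (Ideal.subset_span (by simp)))
            (Ideal.mem_sup_right hu)
        · exact (sub_sub_cancel v y) ▸ sub_mem (Ideal.mem_sup_left (Ideal.subset_span (by simp)))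
            (Ideal.mem_sup_right hv)
    refine le_antisymm (le_sup_left.trans h1.le) (Submodule.le_of_le_smul_of_le_jacobson_bot
      (IsNoetherian.noetherian _) hjac ?_)
    rw [smul_eq_mul, ← sq]
    exact h1.ge
  let St : ℕ → C × C → Prop := fun n s =>
    s.1 - x ∈ N ^ 2 ∧ s.2 - y ∈ N ^ 2 ∧ quad K a b c s.1 s.2 ∈ N ^ (n + 3)
  have hnext : ∀ (n : ℕ) (s : C × C), St n s →
      ∃ s', St (n + 1) s' ∧ s'.1 - s.1 ∈ N ^ (n + 2) ∧ s'.2 - s.2 ∈ N ^ (n + 2) := by
    rintro n ⟨u, v⟩ ⟨hu, hv, huv⟩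
    have h1 : quad K a b c u v ∈ N ^ (n + 2) * Ideal.span {u, v} := by
      rw [nak u v hu hv, ← pow_succ]; exact huv
    rw [Ideal.span_insert, Ideal.mul_sup, Submodule.mem_sup] at h1
    obtain ⟨p, hp, q, hq, hpq⟩ := h1
    obtain ⟨P, hP, rfl⟩ := Ideal.mem_mul_span_singleton.1 hp
    obtain ⟨Q, hQ, rfl⟩ := Ideal.mem_mul_span_singleton.1 hq
    have hle : N ^ (n + 2) ≤ N ^ 2 := Ideal.pow_le_pow_right (by omega)
    let A := algebraMap K C
    set D := 4 * a * c - b ^ 2 with hDdef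
    have hi : A D⁻¹ * A D = 1 := by rw [← map_mul, inv_mul_cancel₀ hD, map_one]
    set δ₁ := A D⁻¹ * (A b * Q - 2 * A c * P) with hδ₁
    set δ₂ := A D⁻¹ * (A b * P - 2 * A a * Q) with hδ₂
    have h1 : δ₁ ∈ N ^ (n + 2) :=
      Ideal.mul_mem_left _ _ (sub_mem (Ideal.mul_mem_left _ _ hQ) (Ideal.mul_mem_left _ _ hP))
    have h2 : δ₂ ∈ N ^ (n + 2) :=
      Ideal.mul_mem_left _ _ (sub_mem (Ideal.mul_mem_left _ _ hP) (Ideal.mul_mem_left _ _ hQ))
    refine ⟨(u + δ₁, v + δ₂), ⟨?_, ?_, ?_⟩, ?_, ?_⟩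
    · show u + δ₁ - x ∈ N ^ 2
      rw [add_sub_right_comm]; exact add_mem hu (hle h1)
    · show v + δ₂ - y ∈ N ^ 2
      rw [add_sub_right_comm]; exact add_mem hv (hle h2)
    · show quad K a b c (u + δ₁) (v + δ₂) ∈ N ^ (n + 1 + 3)
      have e : quad K a b c (u + δ₁) (v + δ₂) = quad K a b c δ₁ δ₂ := by
        simp only [quad, hδ₁, hδ₂, A, hDdef, map_sub, map_mul, map_pow, map_ofNat] at hi hpq ⊢
        linear_combination (-hpq) + (-(P * u) - Q * v) * hi
      rw [e]
      have hm : ∀ p ∈ N ^ (n + 2), ∀ q ∈ N ^ (n + 2), p * q ∈ N ^ (n + 1 + 3) := fun p hp q hq =>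
        Ideal.pow_le_pow_right (by omega) ((pow_add N (n + 2) (n + 2)).symm ▸ Ideal.mul_mem_mul hp hq)
      exact add_mem (add_mem (Ideal.mul_mem_left _ _ (hm _ h1 _ h1)) (Ideal.mul_mem_left _ _ (hm _ h1 _ h2)))
        (Ideal.mul_mem_left _ _ (hm _ h2 _ h2))
    · show u + δ₁ - u ∈ N ^ (n + 2)
      rw [add_sub_cancel_left]; exact h1
    · show v + δ₂ - v ∈ N ^ (n + 2)
      rw [add_sub_cancel_left]; exact h2
  choose! next hN1 hN2 hN3 using hnext
  let s : ℕ → C × C := fun n => Nat.rec (x, y) (fun n p => next n p) n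
  have hs : ∀ n, St n (s n) := by
    intro n
    induction n with
    | zero => exact ⟨by simp [s], by simp [s], hxy⟩
    | succ n ih => exact hN1 n (s n) ih
  have lim : ∀ f : ℕ → C, (∀ n, f (n + 1) - f n ∈ N ^ (n + 2)) → ∃ L, ∀ n, f n - L ∈ N ^ n := by
    intro f hf
    have hc : ∀ {m n}, m ≤ n → f m ≡ f n [SMOD (N ^ m • ⊤ : Submodule C C)] := by
      intro m n hmn
      rw [SModEq.sub_mem, smul_eq_mul, Ideal.mul_top]
      induction hmn with
      | refl => simp
      | @step l hml ih =>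
        rw [← sub_add_sub_cancel (f m) (f l) (f (l + 1))]
        exact add_mem ih (Ideal.pow_le_pow_right (le_trans hml (Nat.le_add_right l 2))
          (by rw [← neg_sub]; exact neg_mem (hf l)))
    obtain ⟨L, hL⟩ := IsPrecomplete.prec' (I := N) f hc
    exact ⟨L, fun n => by simpa [SModEq.sub_mem, smul_eq_mul] using hL n⟩
  obtain ⟨u', hu'⟩ := lim (fun n => (s n).1) fun n => hN2 n _ (hs n)
  obtain ⟨v', hv'⟩ := lim (fun n => (s n).2) fun n => hN3 n _ (hs n)
  have hq0 : quad K a b c u' v' = 0 := by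
    refine IsHausdorff.haus' (I := N) _ fun n => ?_
    rw [SModEq.zero, smul_eq_mul, Ideal.mul_top]
    have hdiff : quad K a b c u' v' - quad K a b c (s n).1 (s n).2 ∈ N ^ n := by
      let π := Ideal.Quotient.mkₐ K (N ^ n)
      have ez : ∀ z w : C, z - w ∈ N ^ n → π z = π w := fun z w h => Ideal.Quotient.eq.2 h
      refine Ideal.Quotient.eq.1 ?_
      show π (quad K a b c u' v') = π (quad K a b c (s n).1 (s n).2)
      rw [map_quad, map_quad, ez _ _ (hu' n), ez _ _ (hv' n)]
    rw [← sub_add_cancel (quad K a b c u' v') (quad K a b c (s n).1 (s n).2)]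
    exact add_mem hdiff (Ideal.pow_le_pow_right (by omega) (hs n).2.2)
  have hgen : Ideal.span {u', v'} = N := by
    refine nak u' v' ?_ ?_
    · rw [← sub_sub_sub_cancel_left x u' (s 2).1]
      exact sub_mem (hs 2).1 (hu' 2)
    · rw [← sub_sub_sub_cancel_left y v' (s 2).2]
      exact sub_mem (hs 2).2.1 (hv' 2)
  obtain ⟨ψ, hψ⟩ := PSLib.exists_algHom (R := K) N ![u', v'] (by
    intro i; rw [← hgen]
    fin_cases i <;> exact Ideal.subset_span (by simp))
  have hψ0 : ψ (MvPowerSeries.X 0) = u' := by simpa using hψ 0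
  have hψ1 : ψ (MvPowerSeries.X 1) = v' := by simpa using hψ 1
  have hψN : ∀ i, ψ (MvPowerSeries.X i) ∈ N := by
    intro i; rw [hψ, ← hgen]
    fin_cases i <;> exact Ideal.subset_span (by simp)
  have hsurj : Function.Surjective ψ := by
    refine PSLib.surjective_of_span ?_ ψ hψN (hgen.ge.trans (le_trans ?_ le_sup_left))
    · intro r
      obtain ⟨r, rfl⟩ := IsLocalRing.residue_surjective r
      obtain ⟨t, ht⟩ := h.exists_sub_mem r
      exact ⟨t, (Ideal.Quotient.eq.2 ht).symm⟩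
    · refine Ideal.span_mono ?_
      rintro z (rfl | rfl)
      exacts [⟨0, hψ0⟩, ⟨1, hψ1⟩]
  have hker0 : ∀ f ∈ quadIdeal a b c, ψ f = 0 := by
    intro f hf
    obtain ⟨g, rfl⟩ := Ideal.mem_span_singleton'.1 hf
    rw [map_mul, map_quad, hψ0, hψ1, hq0, mul_zero]
  let ψb : QuadQuot a b c →ₐ[K] C := Ideal.Quotient.liftₐ (quadIdeal a b c) ψ hker0
  have hbij : Function.Bijective ψb := by
    refine ⟨?_, fun c => ?_⟩
    swap
    · obtain ⟨f, rfl⟩ := hsurj c
      exact ⟨Ideal.Quotient.mk _ f, rfl⟩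
    rw [injective_iff_map_eq_zero]
    intro z hz
    obtain ⟨f, rfl⟩ := Ideal.Quotient.mk_surjective z
    rw [Ideal.Quotient.eq_zero_iff_mem]
    refine mem_quadIdeal_of_forall f fun n => ?_
    haveI : FiniteDimensional K (PS2 K ⧸ (quadIdeal a b c ⊔ PSLib.vars 2 K ^ (n + 1))) :=
      FiniteDimensional.of_finrank_pos (by rw [finrank_quad_trunc hD]; omega)
    haveI : FiniteDimensional K (C ⧸ N ^ (n + 1)) := FiniteDimensional.of_finrank_pos (by rw [h.1 n]; omega)
    have hle : quadIdeal a b c ⊔ PSLib.vars 2 K ^ (n + 1) ≤ (N ^ (n + 1)).comap ψ := by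
      refine sup_le (fun g hg => ?_) fun g hg => PSLib.map_pow_le ψ hψN (n + 1) (Ideal.mem_map_of_mem _ hg)
      show ψ g ∈ N ^ (n + 1)
      rw [hker0 g hg]; exact zero_mem _
    let q := (Ideal.quotientMapₐ (N ^ (n + 1)) ψ hle).toLinearMap
    have hq : Function.Surjective q := fun c => by
      obtain ⟨c, rfl⟩ := Ideal.Quotient.mk_surjective c
      obtain ⟨g, rfl⟩ := hsurj c
      exact ⟨Ideal.Quotient.mk _ g, rfl⟩
    have hinj : Function.Injective q :=
      (LinearMap.injective_iff_surjective_of_finrank_eq_finrank (by rw [finrank_quad_trunc hD, h.1 n])).2 hq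
    refine Ideal.Quotient.eq_zero_iff_mem.1 (hinj ?_)
    rw [map_zero]
    show Ideal.Quotient.mk _ (ψ f) = 0
    rw [show ψ f = 0 from hz, map_zero]
  exact ⟨(AlgEquiv.ofBijective ψb hbij).symm⟩

end

end Groth.Agent.NodeFam
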