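import Groth.Agent.NodeFam.QuadStalk
import Groth.Agent.NodeFam.BaseField
import Mathlib.RingTheory.Etale.Field

/-!
# Nodes and quadratic cones through the rational point of a separable extension
-/

set_option autoImplicit false
set_option backward.isDefEq.respectTransparency false
set_option backward.isDefEq.respectTransparency.types false
set_option linter.style.haveILetI false
set_option linter.unusedSectionVars false

universe u

open CategoryTheory CategoryTheory.Limits AlgebraicGeometry IsLocalRing

namespace Groth.Agent.NodeFam

noncomputable section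

variable {k : Type u} [Field k] {X : Scheme.{u}}

/-- The map of spectra of a finite separable extension is étale. -/
theorem etale_extMap (K : Type u) [Field K] [Algebra k K] [Module.Finite k K] [Algebra.IsSeparable k K] :
    Etale (extMap k K) := by
  rw [HasRingHomProperty.Spec_iff (P := @Etale)]
  haveI : Algebra.FormallyEtale k K := Algebra.FormallyEtale.of_isSeparable k K
  haveI : Algebra.FinitePresentation k K := Algebra.FinitePresentation.of_finiteType.1 inferInstance
  exact RingHom.etale_algebraMap.2 ⟨inferInstance, inferInstance⟩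

variable {K : Type u} [Field K] [Algebra k K] [Module.Finite k K] [Algebra.IsSeparable k K]

/-- A node, seen through a rational point of a separable extension. -/
theorem nodeVia_iff_exists_quadEquiv (f : X ⟶ Spec (CommRingCat.of k)) [LocallyOfFiniteType f]
    (hdim : ∀ x : X, VarDim.deg f x ≤ 1) (y : ↥(pullback f (extMap k K)))
    (hy : IsClosed ({pullback.fst f (extMap k K) y} : Set X))
    (hres : Function.Surjective (IsLocalRing.ResidueField.map ((pullback.fst f (extMap k K)).stalkMap y).hom))
    (hrat : Function.Surjective ((IsLocalRing.residue _).comp (cst (pullback.snd f (extMap k K)) y))) :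
    NodeVia (AlgebraicClosure k) f (pullback.fst f (extMap k K) y) ↔
      ∃ a b c : K, 4 * a * c - b ^ 2 ≠ 0 ∧
        ∃ e : AdicCompletion (maximalIdeal (X.presheaf.stalk (pullback.fst f (extMap k K) y)))
              (X.presheaf.stalk (pullback.fst f (extMap k K) y)) ≃+* QuadQuot a b c,
          ∀ t : k, e (algebraMap _ _ (cst f (pullback.fst f (extMap k K) y) t)) =
            Ideal.Quotient.mk _ (MvPowerSeries.C (algebraMap k K t)) := by
  haveI := etale_extMap (k := k) K
  set π := pullback.fst f (extMap k K) with hπ
  set g := pullback.snd f (extMap k K) with hg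
  haveI : Etale π := inferInstance
  haveI : LocallyOfFiniteType g := inferInstance
  haveI := LocallyOfFiniteType.isLocallyNoetherian f
  haveI := LocallyOfFiniteType.isLocallyNoetherian g
  rw [nodeVia_bc_iff (AlgebraicClosure K) f hdim y, nodeVia_iff_quadCrit g y hrat,
    and_iff_right ((isClosed_iff_of_etale π f y).1 hy)]
  letI := @Curv2.stalkAlgebra K _ _ ⟨g⟩ y
  letI : Algebra (X.presheaf.stalk (π y)) ((pullback f (extMap k K)).presheaf.stalk y) :=
    (π.stalkMap y).hom.toAlgebra
  obtain ⟨hflat, hm, -⟩ := (S9566.result π y).1 ⟨⊤, trivial, inferInstance⟩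
  haveI : Module.Flat (X.presheaf.stalk (π y)) ((pullback f (extMap k K)).presheaf.stalk y) := hflat
  haveI : IsLocalHom (algebraMap (X.presheaf.stalk (π y)) ((pullback f (extMap k K)).presheaf.stalk y)) :=
    inferInstanceAs (IsLocalHom (π.stalkMap y).hom)
  have hb := S9232.result (X.presheaf.stalk (π y)) ((pullback f (extMap k K)).presheaf.stalk y) hm
    ⟨(IsLocalRing.ResidueField.map _).injective, hres⟩
    (mapCompl (maximalIdeal _) (maximalIdeal _) (algebraMap (X.presheaf.stalk (π y))
      ((pullback f (extMap k K)).presheaf.stalk y)) (map_maximalIdeal_le _))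
    (RingHom.ext (mapCompl_algebraMap _ _ (algebraMap (X.presheaf.stalk (π y))
      ((pullback f (extMap k K)).presheaf.stalk y)) (map_maximalIdeal_le _)))
  let ψ := RingEquiv.ofBijective _ hb
  have hψ : ∀ t : k, ψ (algebraMap _ _ (cst f (π y) t)) =
      algebraMap K (Cmpl ((pullback f (extMap k K)).presheaf.stalk y)) (algebraMap k K t) := by
    intro t
    rw [algebraMap_completion]
    refine (mapCompl_algebraMap _ _ (algebraMap (X.presheaf.stalk (π y))
      ((pullback f (extMap k K)).presheaf.stalk y)) (map_maximalIdeal_le _) _).trans (congrArg _ ?_)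
    exact cst_naturality π f g (algebraMap k K) pullback.condition y t
  constructor
  · intro h
    haveI : IsNoetherianRing (Cmpl ((pullback f (extMap k K)).presheaf.stalk y)) :=
      LC.Canon.isNoetherianRing_completion (R := (pullback f (extMap k K)).presheaf.stalk y)
    obtain ⟨a, b, c, hD, ⟨φ⟩⟩ := exists_algEquiv_quad h
    refine ⟨a, b, c, hD, ψ.trans φ.toRingEquiv, fun t => ?_⟩
    rw [RingEquiv.trans_apply, hψ]
    exact φ.commutes _
  · rintro ⟨a, b, c, hD, e, -⟩
    obtain ⟨hred, hcot, x', y', a', b', c', hx', hy', hspan, hD', hq⟩ :=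
      conditions_of_quadQuot hD (ψ.symm.trans e)
    let β := RingEquiv.ofBijective _ (⟨RingHom.injective _, hrat⟩ : Function.Bijective
      ((IsLocalRing.residue ((pullback f (extMap k K)).presheaf.stalk y)).comp (cst g y)))
    refine quadCrit_completion (κ := K)
      (β.symm.toRingHom.comp (IsLocalRing.residue _)) (β.symm.surjective.comp IsLocalRing.residue_surjective)
      (fun r => ?_) hcot hx' hy' hspan ?_ hq
    · rw [algebraMap_completion, ← map_sub, AdicCompletion.maximalIdeal_eq_map]
      refine Ideal.mem_map_of_mem _ ((IsLocalRing.residue_eq_zero_iff _).1 ?_)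
      rw [map_sub, sub_eq_zero]
      exact β.apply_symm_apply _
    · intro h0
      exact hD' (β.symm.injective (h0.trans (map_zero β.symm).symm))

/-- The rational point over a closed point in the base change to its residue field. -/
theorem exists_rational_point (f : X ⟶ Spec (CommRingCat.of k)) (x : X)
    [Algebra k (X.residueField x)]
    (hcomp : X.fromSpecResidueField x ≫ f = extMap k (X.residueField x)) :
    ∃ y : ↥(pullback f (extMap k (X.residueField x))), pullback.fst f (extMap k (X.residueField x)) y = x ∧
      Function.Surjective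
        (IsLocalRing.ResidueField.map ((pullback.fst f (extMap k (X.residueField x))).stalkMap y).hom) ∧
      Function.Surjective ((IsLocalRing.residue _).comp (cst (pullback.snd f (extMap k (X.residueField x))) y)) := by
  obtain ⟨s, hs1, hs2⟩ : ∃ s : Spec (CommRingCat.of (X.residueField x)) ⟶ pullback f (extMap k (X.residueField x)),
      s ≫ pullback.fst f (extMap k (X.residueField x)) = X.fromSpecResidueField x ∧
      s ≫ pullback.snd f (extMap k (X.residueField x)) = 𝟙 _ :=
    ⟨pullback.lift (X.fromSpecResidueField x) (𝟙 _) (by rw [hcomp, Category.id_comp]),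
      pullback.lift_fst _ _ _, pullback.lift_snd _ _ _⟩
  let pt : ↥(Spec (CommRingCat.of (X.residueField x))) := IsLocalRing.closedPoint (X.residueField x)
  refine ⟨s pt, ?_, ?_, ?_⟩
  · rw [← Scheme.Hom.comp_apply, hs1]
    exact Scheme.fromSpecResidueField_apply x pt
  · haveI : IsPreimmersion (s ≫ pullback.fst f (extMap k (X.residueField x))) := by rw [hs1]; infer_instance
    intro r
    obtain ⟨b, rfl⟩ := IsLocalRing.residue_surjective r
    obtain ⟨a, ha⟩ := (s ≫ pullback.fst f (extMap k (X.residueField x))).stalkMap_surjective pt
      ((s.stalkMap pt).hom b)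
    refine ⟨IsLocalRing.residue _ a, ?_⟩
    rw [IsLocalRing.ResidueField.map_residue]
    refine (IsLocalRing.ResidueField.map (s.stalkMap pt).hom).injective ?_
    rw [IsLocalRing.ResidueField.map_residue, IsLocalRing.ResidueField.map_residue, ← ha, Scheme.Hom.stalkMap_comp]
    rfl
  · intro r
    obtain ⟨b, rfl⟩ := IsLocalRing.residue_surjective r
    letI : Algebra (X.residueField x) ((Spec (CommRingCat.of (X.residueField x))).presheaf.stalk pt) :=
      (StructureSheaf.toStalk (X.residueField x) pt).hom.toAlgebra
    haveI : IsLocalization.AtPrime ((Spec (CommRingCat.of (X.residueField x))).presheaf.stalk pt) pt.asIdeal :=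
      StructureSheaf.IsLocalization.to_stalk (X.residueField x) pt
    have hsurj : Function.Surjective
        (algebraMap (X.residueField x) ((Spec (CommRingCat.of (X.residueField x))).presheaf.stalk pt)) := by
      intro z
      obtain ⟨a, ⟨d, hd⟩, rfl⟩ := IsLocalization.exists_mk'_eq pt.asIdeal.primeCompl z
      have hd0 : d ≠ 0 := fun h => hd (h ▸ zero_mem _)
      refine ⟨a * d⁻¹, (IsLocalization.eq_mk'_iff_mul_eq).2 ?_⟩
      rw [← map_mul, mul_assoc, inv_mul_cancel₀ hd0, mul_one]
    obtain ⟨c, hc⟩ := hsurj ((s.stalkMap pt).hom b)
    refine ⟨c, (IsLocalRing.ResidueField.map (s.stalkMap pt).hom).injective ?_⟩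
    rw [RingHom.comp_apply, IsLocalRing.ResidueField.map_residue, IsLocalRing.ResidueField.map_residue, ← hc,
      cst_naturality s (pullback.snd f (extMap k (X.residueField x))) (𝟙 _) (RingHom.id _)
        (by rw [hs2, CommRingCat.ofHom_id, Spec.map_id, Category.comp_id]) pt c]
    rfl

end

end Groth.Agent.NodeFam
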