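import Groth.Agent.NodeFam.QuadCrit
import Mathlib.RingTheory.MvPowerSeries.NoZeroDivisors
import Mathlib.RingTheory.MvPowerSeries.Order

/-!
# The ring of a nondegenerate binary quadratic cone
-/

set_option autoImplicit false
set_option linter.style.haveILetI false

universe u

open MvPowerSeries

namespace Groth.Agent.NodeFam

noncomputable section

variable {K : Type u} [Field K]

/-- A binary quadratic form as a power series. -/
abbrev qForm (a b c : K) : PS2 K := quad K a b c (X 0) (X 1)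

theorem qForm_eq (a b c : K) : qForm a b c =
    MvPowerSeries.C a * X 0 ^ 2 + MvPowerSeries.C b * X 0 * X 1 + MvPowerSeries.C c * X 1 ^ 2 := by
  show algebraMap K (PS2 K) a * (X 0 * X 0) + algebraMap K (PS2 K) b * (X 0 * X 1) +
    algebraMap K (PS2 K) c * (X 1 * X 1) = _
  have hC : ∀ r : K, algebraMap K (PS2 K) r = MvPowerSeries.C r := fun r => rfl
  rw [hC a, hC b, hC c]
  ring

/-- The monomials of degree less than `N`. -/
theorem degree_lt_ncard : ∀ N : ℕ, {d : Fin 2 →₀ ℕ | d.degree < N}.ncard * 2 = N * (N + 1)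
  | 0 => by simp
  | N + 1 => by
    have hfin : ∀ M : ℕ, {d : Fin 2 →₀ ℕ | d.degree < M}.Finite := fun M => Finsupp.finite_of_degree_lt M
    have hu : {d : Fin 2 →₀ ℕ | d.degree < N + 1} =
        {d : Fin 2 →₀ ℕ | d.degree < N} ∪ {d : Fin 2 →₀ ℕ | d.degree = N} := by
      ext d; simp only [Set.mem_setOf_eq, Set.mem_union]; omega
    have hN : {d : Fin 2 →₀ ℕ | d.degree = N} =
        (fun i : ℕ => Finsupp.single (0 : Fin 2) i + Finsupp.single 1 (N - i)) '' (Set.Iio (N + 1)) := by
      ext d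
      simp only [Set.mem_setOf_eq, Set.mem_image, Set.mem_Iio]
      constructor
      · intro hd
        have h01 : d 0 + d 1 = N := by
          rw [← hd, Finsupp.degree_eq_sum, Fin.sum_univ_two]
        refine ⟨d 0, by omega, Finsupp.ext fun l => ?_⟩
        fin_cases l <;> simp <;> omega
      · rintro ⟨i, hi, rfl⟩
        rw [map_add, Finsupp.degree_single, Finsupp.degree_single]; omega
    have hcard : {d : Fin 2 →₀ ℕ | d.degree = N}.ncard = N + 1 := by
      rw [hN, Set.ncard_image_of_injective _ (fun i j h => ?_)]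
      · simp [Set.ncard_eq_toFinset_card']
      · simpa using DFunLike.congr_fun h 0
    have hdisj : Disjoint {d : Fin 2 →₀ ℕ | d.degree < N} {d : Fin 2 →₀ ℕ | d.degree = N} := by
      rw [Set.disjoint_left]; intro d h1 h2; simp only [Set.mem_setOf_eq] at h1 h2; omega
    rw [hu, Set.ncard_union_eq hdisj (hfin N) ((hfin (N + 1)).subset fun d hd => by
      simp only [Set.mem_setOf_eq] at hd ⊢; omega), hcard, add_mul, degree_lt_ncard N]
    ring

/-- Dimension of the truncated power series ring. -/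
theorem finrank_vars_pow (N : ℕ) :
    Module.finrank K (PS2 K ⧸ PSLib.vars 2 K ^ N) * 2 = N * (N + 1) ∧
      Module.Finite K (PS2 K ⧸ PSLib.vars 2 K ^ N) := by
  haveI : Finite {d : Fin 2 →₀ ℕ | d.degree < N} := (Finsupp.finite_of_degree_lt N).to_subtype
  let φ : PS2 K →ₗ[K] ({d : Fin 2 →₀ ℕ | d.degree < N} → K) := LinearMap.pi fun d => coeff d.1
  have hsurj : Function.Surjective φ := fun v => by
    classical
    exact ⟨fun d => if h : d.degree < N then v ⟨d, h⟩ else 0, funext fun d => dif_pos d.2⟩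
  have hk : LinearMap.ker φ = (PSLib.vars 2 K ^ N).restrictScalars K := by
    ext f
    rw [LinearMap.mem_ker, Submodule.restrictScalars_mem, PSLib.mem_pow_iff]
    exact ⟨fun h d hd => congrFun h ⟨d, hd⟩, fun h => funext fun d => h d.1 d.2⟩
  let e : (PS2 K ⧸ PSLib.vars 2 K ^ N) ≃ₗ[K] ({d : Fin 2 →₀ ℕ | d.degree < N} → K) :=
    (Submodule.Quotient.restrictScalarsEquiv K (PSLib.vars 2 K ^ N)).symm ≪≫ₗ
      (Submodule.quotEquivOfEq _ _ hk.symm) ≪≫ₗ φ.quotKerEquivOfSurjective hsurj
  haveI : Fintype {d : Fin 2 →₀ ℕ | d.degree < N} := Fintype.ofFinite _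
  refine ⟨?_, Module.Finite.equiv e.symm⟩
  rw [e.finrank_eq, Module.finrank_fintype_fun_eq_card, ← degree_lt_ncard N, ← Nat.card_eq_fintype_card,
    Nat.card_coe_set_eq]

theorem le_order_iff (f : PS2 K) (N : ℕ) : (N : ℕ∞) ≤ f.order ↔ f ∈ PSLib.vars 2 K ^ N := by
  rw [PSLib.mem_pow_iff]
  exact ⟨fun h d hd => coeff_of_lt_order (lt_of_lt_of_le (by exact_mod_cast hd) h), fun h => nat_le_order h⟩

theorem order_qForm {a b c : K} (h : 4 * a * c - b ^ 2 ≠ 0) : (qForm a b c).order ≤ 2 := by
  have hX : ∀ l : Fin 2, (X l : PS2 K) = monomial (Finsupp.single l 1) 1 := fun l => rfl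
  have hq : qForm a b c = monomial (Finsupp.single 0 2) a + monomial (Finsupp.single 0 1 + Finsupp.single 1 1) b +
      monomial (Finsupp.single 1 2) c := by
    rw [qForm_eq]
    simp only [hX, pow_two, monomial_mul_monomial, one_mul, ← monomial_zero_eq_C_apply, zero_add, mul_one,
      ← Finsupp.single_add]
  have hne01 : (Finsupp.single 0 2 : Fin 2 →₀ ℕ) ≠ Finsupp.single 0 1 + Finsupp.single 1 1 := fun e => by
    simpa using DFunLike.congr_fun e 1
  have hne02 : (Finsupp.single 0 2 : Fin 2 →₀ ℕ) ≠ Finsupp.single 1 2 := fun e => by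
    simpa using DFunLike.congr_fun e 1
  have hne12 : (Finsupp.single 1 2 : Fin 2 →₀ ℕ) ≠ Finsupp.single 0 1 + Finsupp.single 1 1 := fun e => by
    simpa using DFunLike.congr_fun e 0
  by_cases ha : a = 0
  · have hb : b ≠ 0 := by rintro rfl; simp [ha] at h
    have := order_le (f := qForm a b c) (d := Finsupp.single 0 1 + Finsupp.single 1 1) (by
      rw [hq]
      classical
      simp [coeff_monomial, hne01.symm, hne12.symm, hb])
    simpa using this
  · have := order_le (f := qForm a b c) (d := Finsupp.single 0 2) (by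
      rw [hq]
      classical
      simp [coeff_monomial, hne01, hne02, ha])
    simpa using this

/-- The quadratic ideal. -/
abbrev quadIdeal (a b c : K) : Ideal (PS2 K) := Ideal.span {qForm a b c}

/-- The truncations of a series of order two have dimension `2 n + 1`. -/
theorem finrank_series_trunc {f : PS2 K} (hqmem : f ∈ PSLib.vars 2 K ^ 2) (hord : f.order ≤ 2) (n : ℕ) :
    Module.finrank K (PS2 K ⧸ (Ideal.span {f} ⊔ PSLib.vars 2 K ^ (n + 1))) = 2 * n + 1 := by
  haveI := (finrank_vars_pow (K := K) (n + 1)).2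
  haveI := (finrank_vars_pow (K := K) (n - 1)).2
  let π : (PS2 K ⧸ PSLib.vars 2 K ^ (n + 1)) →ₗ[K] PS2 K ⧸ (Ideal.span {f} ⊔ PSLib.vars 2 K ^ (n + 1)) :=
    (Ideal.Quotient.factorₐ K (le_sup_right : PSLib.vars 2 K ^ (n + 1) ≤ _)).toLinearMap
  have hπ : Function.Surjective π :=
    Ideal.Quotient.factor_surjective (le_sup_right : PSLib.vars 2 K ^ (n + 1) ≤ Ideal.span {f} ⊔ _)
  have hvars : ∀ l : Fin 2, (X l : PS2 K) ∈ PSLib.vars 2 K := fun l => Ideal.subset_span ⟨l, rfl⟩
  let ν : PS2 K →ₗ[K] PS2 K ⧸ PSLib.vars 2 K ^ (n + 1) :=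
    (Ideal.Quotient.mkₐ K (PSLib.vars 2 K ^ (n + 1))).toLinearMap ∘ₗ LinearMap.mulLeft K (f)
  have hν : ∀ g, ν g = Ideal.Quotient.mk (PSLib.vars 2 K ^ (n + 1)) (f * g) := fun _ => rfl
  have hker : LinearMap.ker ν = (PSLib.vars 2 K ^ (n - 1)).restrictScalars K := by
    ext g
    rw [LinearMap.mem_ker, hν, Ideal.Quotient.eq_zero_iff_mem, Submodule.restrictScalars_mem]
    constructor
    · intro hz'
      rw [← le_order_iff] at hz' ⊢
      rw [order_mul] at hz'
      have h2 := hz'.trans (add_le_add hord le_rfl)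
      revert h2
      generalize g.order = o
      intro h2
      induction o using ENat.recTopCoe with
      | top => exact le_top
      | coe m =>
        have h3 : n + 1 ≤ 2 + m := by exact_mod_cast h2
        exact Nat.cast_le.2 (by omega)
    · intro hg
      have := Ideal.mul_mem_mul hqmem hg
      rw [← pow_add] at this
      exact Ideal.pow_le_pow_right (by omega) this
  have hπmk : ∀ f, π (Ideal.Quotient.mk _ f) = Ideal.Quotient.mk _ f := fun f => rfl
  have hrange : LinearMap.ker π = LinearMap.range ν := by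
    ext z
    obtain ⟨w, rfl⟩ := Ideal.Quotient.mk_surjective z
    rw [LinearMap.mem_ker, hπmk, Ideal.Quotient.eq_zero_iff_mem, LinearMap.mem_range]
    simp only [hν, Ideal.Quotient.eq]
    constructor
    · intro hf'
      obtain ⟨p, hp, r, hr, rfl⟩ := Submodule.mem_sup.1 hf'
      obtain ⟨g, rfl⟩ := Ideal.mem_span_singleton'.1 hp
      refine ⟨g, ?_⟩
      rw [mul_comm, sub_add_cancel_left]
      exact neg_mem hr
    · rintro ⟨g, hg⟩
      rw [← sub_sub_cancel (f * g) w]
      exact sub_mem (Ideal.mem_sup_left (Ideal.mul_mem_right _ _ (Ideal.mem_span_singleton_self _)))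
        (Ideal.mem_sup_right hg)
  let e : (PS2 K ⧸ PSLib.vars 2 K ^ (n - 1)) ≃ₗ[K] LinearMap.range ν :=
    (Submodule.Quotient.restrictScalarsEquiv K (PSLib.vars 2 K ^ (n - 1))).symm ≪≫ₗ
      (Submodule.quotEquivOfEq _ _ hker.symm) ≪≫ₗ ν.quotKerEquivRange
  have h1 := π.finrank_range_add_finrank_ker
  rw [LinearMap.range_eq_top.2 hπ, finrank_top, hrange, ← e.finrank_eq] at h1
  have h2 := (finrank_vars_pow (K := K) (n + 1)).1
  have h3 := (finrank_vars_pow (K := K) (n - 1)).1
  rcases n with _ | m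
  · norm_num at h1 h2 h3 ⊢; omega
  · simp only [Nat.add_sub_cancel] at h1 h3
    nlinarith

/-- The truncations of a quadratic cone have dimension `2 n + 1`. -/
theorem finrank_quad_trunc {a b c : K} (h : 4 * a * c - b ^ 2 ≠ 0) (n : ℕ) :
    Module.finrank K (PS2 K ⧸ (quadIdeal a b c ⊔ PSLib.vars 2 K ^ (n + 1))) = 2 * n + 1 := by
  have hvars : ∀ l : Fin 2, (X l : PS2 K) ∈ PSLib.vars 2 K := fun l => Ideal.subset_span ⟨l, rfl⟩
  refine finrank_series_trunc ?_ (order_qForm h) n
  rw [sq]
  exact add_mem (add_mem (Ideal.mul_mem_left _ _ (Ideal.mul_mem_mul (hvars 0) (hvars 0)))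
    (Ideal.mul_mem_left _ _ (Ideal.mul_mem_mul (hvars 0) (hvars 1))))
    (Ideal.mul_mem_left _ _ (Ideal.mul_mem_mul (hvars 1) (hvars 1)))

end

end Groth.Agent.NodeFam
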