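import Groth.Agent.NodeFam.QuadODP
import Groth.Agent.NodeFam.QuadReduced
import Mathlib.RingTheory.MvPowerSeries.Derivative

/-!
# Plane formal curves with nondegenerate quadratic part
-/

set_option autoImplicit false
set_option linter.style.haveILetI false

universe u

open IsLocalRing MvPowerSeries

namespace Groth.Agent.NodeFam

noncomputable section

variable {K : Type u} [Field K]

section General

variable {R : Type u} [CommRing R] [Algebra K R] {M : Ideal R}

/-- Over an algebraically closed field the quadratic criterion is the criterion of a node. -/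
theorem nodeCrit_of_quadCrit [IsAlgClosed K] (h : QuadCrit K M) : NodeCrit K M := by
  obtain ⟨hd, x, y, a, b, c, hD, hspan, hq⟩ := h
  refine ⟨hd, ?_⟩
  obtain ⟨α, β, γ, δ, ha, hb, hc, hdet⟩ := exists_factor hD
  let A := algebraMap K R
  have hx : x ∈ M := hspan ▸ Ideal.mem_sup_left (Ideal.subset_span (by simp))
  have hy : y ∈ M := hspan ▸ Ideal.mem_sup_left (Ideal.subset_span (by simp))
  refine ⟨A α * x + A β * y, A γ * x + A δ * y, le_antisymm (sup_le ?_ (Ideal.pow_le_self two_ne_zero)) ?_, ?_⟩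
  · rw [Ideal.span_le]; rintro z (rfl | rfl) <;>
      exact add_mem (Ideal.mul_mem_left _ _ hx) (Ideal.mul_mem_left _ _ hy)
  · refine hspan.ge.trans (sup_le ?_ le_sup_right)
    rw [Ideal.span_le]
    set D := α * δ - β * γ with hDdef
    have h1 : A D⁻¹ * A D = 1 := by rw [← map_mul, inv_mul_cancel₀ hdet, map_one]
    rintro z (hz | hz) <;> rw [hz]
    · refine Ideal.mem_sup_left (Ideal.mem_span_pair.2 ⟨A (D⁻¹ * δ), A (-(D⁻¹ * β)), ?_⟩)
      simp only [A, map_neg, map_mul, hDdef, map_sub] at h1 ⊢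
      linear_combination x * h1
    · refine Ideal.mem_sup_left (Ideal.mem_span_pair.2 ⟨A (-(D⁻¹ * γ)), A (D⁻¹ * α), ?_⟩)
      simp only [A, map_neg, map_mul, hDdef, map_sub] at h1 ⊢
      linear_combination y * h1
  · convert hq using 1
    simp only [A, quad, ← ha, ← hb, ← hc, map_add, map_mul]; ring

end General

/-- The formal plane curve of a series. -/
abbrev ConeQuot (f : PS2 K) : Type u := PS2 K ⧸ Ideal.span {f}

/-- The ideal of the origin of a formal plane curve. -/
abbrev coneOrigin (f : PS2 K) : Ideal (ConeQuot f) := (PSLib.vars 2 K).map (Ideal.Quotient.mk (Ideal.span {f}))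

theorem X_mem_vars (l : Fin 2) : (X l : PS2 K) ∈ PSLib.vars 2 K := Ideal.subset_span ⟨l, rfl⟩

/-- An ideal in the maximal ideal is closed for the adic topology. -/
theorem mem_of_forall_mem_sup_pow {J : Ideal (PS2 K)} (hJ : J ≤ PSLib.vars 2 K) {g : PS2 K}
    (h : ∀ n, g ∈ J ⊔ PSLib.vars 2 K ^ (n + 1)) : g ∈ J := by
  haveI := PSLib.isRegularLocalRing K 2
  rw [← PSLib.maximalIdeal_eq_vars] at hJ
  have hne : J ≠ ⊤ := fun e => (maximalIdeal.isMaximal (PS2 K)).ne_top (top_le_iff.1 (e ▸ hJ))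
  haveI : Nontrivial (PS2 K ⧸ J) := Ideal.Quotient.nontrivial_iff.2 hne
  haveI : IsLocalRing (PS2 K ⧸ J) := IsLocalRing.of_surjective' (Ideal.Quotient.mk J) Ideal.Quotient.mk_surjective
  have hO : (PSLib.vars 2 K).map (Ideal.Quotient.mk J) ≠ ⊤ := by
    rw [← PSLib.maximalIdeal_eq_vars]
    intro e
    have h1 := congrArg (Ideal.comap (Ideal.Quotient.mk J)) e
    rw [Ideal.comap_map_mk hJ, Ideal.comap_top] at h1
    exact (maximalIdeal.isMaximal (PS2 K)).ne_top h1
  have hg : Ideal.Quotient.mk J g ∈ ⨅ n : ℕ, (PSLib.vars 2 K).map (Ideal.Quotient.mk J) ^ n := by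
    refine Submodule.mem_iInf _ |>.2 fun n => Ideal.pow_le_pow_right (Nat.le_succ n) ?_
    obtain ⟨p, hp, r, hr, rfl⟩ := Submodule.mem_sup.1 (h n)
    rw [map_add, Ideal.Quotient.eq_zero_iff_mem.2 hp, zero_add, ← Ideal.map_pow]
    exact Ideal.mem_map_of_mem _ hr
  rw [Ideal.iInf_pow_eq_bot_of_isLocalRing _ hO] at hg
  exact Ideal.Quotient.eq_zero_iff_mem.1 hg

/-- The quadratic part of a series of order two. -/
theorem sub_qForm_mem_cube {f : PS2 K} (hf : f ∈ PSLib.vars 2 K ^ 2) :
    f - qForm (coeff (Finsupp.single 0 2) f) (coeff (Finsupp.single 0 1 + Finsupp.single 1 1) f)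
      (coeff (Finsupp.single 1 2) f) ∈ PSLib.vars 2 K ^ 3 := by
  classical
  rw [PSLib.mem_pow_iff] at hf ⊢
  intro d hd
  have hX : ∀ l : Fin 2, (X l : PS2 K) = monomial (Finsupp.single l 1) 1 := fun l => rfl
  rw [map_sub, qForm_eq]
  simp only [hX, pow_two, monomial_mul_monomial, one_mul, ← monomial_zero_eq_C_apply, zero_add, mul_one,
    ← Finsupp.single_add, map_add, coeff_monomial, one_add_one_eq_two]
  have hdd : d.degree = d 0 + d 1 := by rw [Finsupp.degree_eq_sum, Fin.sum_univ_two]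
  have ne : ∀ e : Fin 2 →₀ ℕ, e.degree = 2 → d.degree < 2 → d ≠ e := fun e he hlt h => by rw [h] at hlt; omega
  rcases Nat.lt_or_ge d.degree 2 with h2 | h2
  · rw [if_neg (ne _ (by simp) h2), if_neg (ne _ (by simp) h2), if_neg (ne _ (by simp) h2), hf d h2]
    simp
  · have hne01 : (Finsupp.single 0 2 : Fin 2 →₀ ℕ) ≠ Finsupp.single 0 1 + Finsupp.single 1 1 := fun e => by
      simpa using DFunLike.congr_fun e 1
    have hne02 : (Finsupp.single 0 2 : Fin 2 →₀ ℕ) ≠ Finsupp.single 1 2 := fun e => by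
      simpa using DFunLike.congr_fun e 1
    have hne12 : (Finsupp.single 1 2 : Fin 2 →₀ ℕ) ≠ Finsupp.single 0 1 + Finsupp.single 1 1 := fun e => by
      simpa using DFunLike.congr_fun e 0
    obtain rfl | rfl | rfl : d = Finsupp.single 0 2 ∨ d = Finsupp.single 0 1 + Finsupp.single 1 1 ∨
        d = Finsupp.single 1 2 := by
      rcases (by omega : (d 0 = 2 ∧ d 1 = 0) ∨ (d 0 = 1 ∧ d 1 = 1) ∨ (d 0 = 0 ∧ d 1 = 2)) with ⟨e, e'⟩ | ⟨e, e'⟩ | ⟨e, e'⟩
      · exact Or.inl (Finsupp.ext fun l => by fin_cases l <;> simp [e, e'])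
      · exact Or.inr (Or.inl (Finsupp.ext fun l => by fin_cases l <;> simp [e, e']))
      · exact Or.inr (Or.inr (Finsupp.ext fun l => by fin_cases l <;> simp [e, e']))
    · simp [hne01, hne02]
    · simp [hne01.symm, hne12.symm]
    · simp [hne02.symm, hne12]

/-- The discriminant of the quadratic part, from second derivatives. -/
theorem disc_eq (f : PS2 K) :
    4 * coeff (Finsupp.single 0 2) f * coeff (Finsupp.single 1 2) f -
        coeff (Finsupp.single 0 1 + Finsupp.single 1 1) f ^ 2 =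
      constantCoeff (pderiv K 0 (pderiv K 0 f)) * constantCoeff (pderiv K 1 (pderiv K 1 f)) -
        constantCoeff (pderiv K 0 (pderiv K 1 f)) ^ 2 := by
  have e : ∀ g : PS2 K, constantCoeff g = coeff 0 g := fun g => (coeff_zero_eq_constantCoeff_apply g).symm
  have h2 : ∀ l : Fin 2, (Finsupp.single l 1 + Finsupp.single l 1 : Fin 2 →₀ ℕ) = Finsupp.single l 2 := fun l => by
    rw [← Finsupp.single_add]
  simp only [e, coeff_pderiv, zero_add, Finsupp.coe_zero, Pi.zero_apply, Nat.cast_zero, h2,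
    Finsupp.single_eq_same, Nat.cast_one]
  rw [show ((Finsupp.single 0 1 : Fin 2 →₀ ℕ) 1) = 0 by simp, Nat.cast_zero]
  ring

theorem exists_sub_mem_coneOrigin (f : PS2 K) (r : ConeQuot f) :
    ∃ c : K, r - algebraMap K (ConeQuot f) c ∈ coneOrigin f := by
  obtain ⟨p, rfl⟩ := Ideal.Quotient.mk_surjective r
  refine ⟨constantCoeff p, ?_⟩
  rw [IsScalarTower.algebraMap_apply K (PS2 K) (ConeQuot f), Ideal.Quotient.algebraMap_eq, ← map_sub]
  refine Ideal.mem_map_of_mem _ (PSLib.mem_vars_iff.2 ?_)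
  show constantCoeff (p - MvPowerSeries.C (constantCoeff p)) = 0
  simp

/-- The truncations of the formal curve. -/
theorem finrank_coneOrigin {f : PS2 K} (hf : f ∈ PSLib.vars 2 K ^ 2) (hord : f.order ≤ 2) (n : ℕ) :
    Module.finrank K (ConeQuot f ⧸ coneOrigin f ^ (n + 1)) = 2 * n + 1 := by
  rw [coneOrigin, ← Ideal.map_pow, ← finrank_series_trunc hf hord n]
  exact LinearEquiv.finrank_eq
    (DoubleQuot.quotQuotEquivQuotSupₐ K (Ideal.span {f}) (PSLib.vars 2 K ^ (n + 1))).toLinearEquiv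

theorem span_coneOrigin (f : PS2 K) :
    Ideal.span {Ideal.Quotient.mk (Ideal.span {f}) (X 0), Ideal.Quotient.mk (Ideal.span {f}) (X 1)} ⊔
      coneOrigin f ^ 2 = coneOrigin f := by
  have h : coneOrigin f = Ideal.span {Ideal.Quotient.mk (Ideal.span {f}) (X 0), Ideal.Quotient.mk (Ideal.span {f}) (X 1)} := by
    rw [coneOrigin, vars_eq, Ideal.map_span, Set.image_pair]
  rw [h, sup_eq_left]
  exact Ideal.pow_le_self two_ne_zero

theorem quad_mk_mem_cube {f : PS2 K} (hf : f ∈ PSLib.vars 2 K ^ 2) :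
    quad K (coeff (Finsupp.single 0 2) f) (coeff (Finsupp.single 0 1 + Finsupp.single 1 1) f)
      (coeff (Finsupp.single 1 2) f) (Ideal.Quotient.mk (Ideal.span {f}) (X 0))
      (Ideal.Quotient.mk (Ideal.span {f}) (X 1)) ∈ coneOrigin f ^ 3 := by
  rw [show Ideal.Quotient.mk (Ideal.span {f}) (X 0) = Ideal.Quotient.mkₐ K (Ideal.span {f}) (X 0) from rfl,
    show Ideal.Quotient.mk (Ideal.span {f}) (X 1) = Ideal.Quotient.mkₐ K (Ideal.span {f}) (X 1) from rfl,
    ← map_quad, coneOrigin, ← Ideal.map_pow]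
  have h := Ideal.mem_map_of_mem (Ideal.Quotient.mk (Ideal.span {f})) (neg_mem (sub_qForm_mem_cube hf))
  rwa [neg_sub, map_sub, Ideal.Quotient.eq_zero_iff_mem.2 (Ideal.mem_span_singleton_self f), sub_zero] at h

theorem order_le_two {f : PS2 K}
    (h : coeff (Finsupp.single 0 2) f ≠ 0 ∨ coeff (Finsupp.single 0 1 + Finsupp.single 1 1) f ≠ 0 ∨
      coeff (Finsupp.single 1 2) f ≠ 0) : f.order ≤ 2 := by
  rcases h with h | h | h <;> simpa using order_le h

/-- A series with nondegenerate quadratic part defines a node. -/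
theorem quadCrit_cone {f : PS2 K} (hf : f ∈ PSLib.vars 2 K ^ 2)
    (hD : constantCoeff (pderiv K 0 (pderiv K 0 f)) * constantCoeff (pderiv K 1 (pderiv K 1 f)) -
        constantCoeff (pderiv K 0 (pderiv K 1 f)) ^ 2 ≠ 0) : QuadCrit K (coneOrigin f) := by
  rw [← disc_eq] at hD
  have hord : f.order ≤ 2 := order_le_two (by
    by_contra h
    push Not at h
    exact hD (by rw [h.1, h.2.1]; ring))
  exact ⟨finrank_coneOrigin hf hord, _, _, _, _, _, hD, span_coneOrigin f, quad_mk_mem_cube hf⟩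

/-- A formal plane node has nondegenerate quadratic part. -/
theorem disc_ne_zero_of_nodeCrit [IsAlgClosed K] {f : PS2 K} (hf : f ∈ PSLib.vars 2 K ^ 2)
    (h : NodeCrit K (coneOrigin f)) :
    constantCoeff (pderiv K 0 (pderiv K 0 f)) * constantCoeff (pderiv K 1 (pderiv K 1 f)) -
        constantCoeff (pderiv K 0 (pderiv K 1 f)) ^ 2 ≠ 0 := by
  rw [← disc_eq]
  intro hD
  have hrel := quad_mk_mem_cube hf
  have hgen := span_coneOrigin f
  set a := coeff (Finsupp.single 0 2) f
  set b := coeff (Finsupp.single 0 1 + Finsupp.single 1 1) f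
  set c := coeff (Finsupp.single 1 2) f
  set u := Ideal.Quotient.mk (Ideal.span {f}) (X 0)
  set v := Ideal.Quotient.mk (Ideal.span {f}) (X 1)
  obtain ⟨α, β, μ, hμ, hnz, hsq⟩ : ∃ α β μ : K, μ ≠ 0 ∧ (α ≠ 0 ∨ β ≠ 0) ∧
      a = μ * α * α ∧ b = μ * (2 * α * β) ∧ c = μ * β * β := by
    by_cases h3 : a = 0
    · have h4 : b = 0 := by
        rw [h3, mul_zero, zero_mul, zero_sub, neg_eq_zero] at hD
        exact (pow_eq_zero_iff two_ne_zero).1 hD
      refine ⟨0, 1, c, fun h5 => ?_, Or.inr one_ne_zero, by simp [h3], by simp [h4], by simp⟩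
      have h3' : f ∈ PSLib.vars 2 K ^ 3 := by
        have := sub_qForm_mem_cube hf
        rw [show qForm (coeff (Finsupp.single 0 2) f) (coeff (Finsupp.single 0 1 + Finsupp.single 1 1) f)
          (coeff (Finsupp.single 1 2) f) = qForm a b c from rfl, h3, h4, h5] at this
        rw [qForm_eq] at this
        simpa using this
      have h6 := h.1 2
      rw [coneOrigin, ← Ideal.map_pow] at h6
      have h7 : Module.finrank K (PS2 K ⧸ (Ideal.span {f} ⊔ PSLib.vars 2 K ^ (2 + 1))) = 2 * 2 + 1 := by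
        rw [← h6]
        exact (LinearEquiv.finrank_eq
          (DoubleQuot.quotQuotEquivQuotSupₐ K (Ideal.span {f}) (PSLib.vars 2 K ^ (2 + 1))).toLinearEquiv).symm
      rw [sup_eq_right.2 ((Ideal.span_singleton_le_iff_mem _).2 h3')] at h7
      have h8 := (finrank_vars_pow (K := K) (2 + 1)).1
      rw [h7] at h8
      norm_num at h8
    · obtain ⟨r, hr⟩ := IsAlgClosed.exists_root (Polynomial.C a * Polynomial.X ^ 2 +
        Polynomial.C b * Polynomial.X + Polynomial.C c)
        (by rw [Polynomial.degree_quadratic h3]; exact two_ne_zero)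
      simp [Polynomial.IsRoot] at hr
      have hlin : b + 2 * a * r = 0 := by
        apply (pow_eq_zero_iff two_ne_zero).1
        linear_combination (4 * a) * hr - hD
      refine ⟨1, -r, a, h3, Or.inl one_ne_zero, by ring, ?_, ?_⟩
      · linear_combination hlin
      · linear_combination hr - r * hlin
  let A := algebraMap K (ConeQuot f)
  have hu : u ∈ coneOrigin f := Ideal.mem_map_of_mem _ (X_mem_vars 0)
  have hv : v ∈ coneOrigin f := Ideal.mem_map_of_mem _ (X_mem_vars 1)
  have hzz : (A α * u + A β * v) * (A α * u + A β * v) ∈ coneOrigin f ^ 3 := by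
    have h3 : A μ * ((A α * u + A β * v) * (A α * u + A β * v)) ∈ coneOrigin f ^ 3 := by
      convert hrel using 1
      simp only [quad, A, hsq.1, hsq.2.1, hsq.2.2, map_mul, map_ofNat]
      ring
    exact (Ideal.unit_mul_mem_iff_mem _ ((isUnit_iff_ne_zero.2 hμ).map A)).1 h3
  have hz2 := h.mem_sq_of_sq_mem (add_mem (Ideal.mul_mem_left _ _ hu) (Ideal.mul_mem_left _ _ hv)) hzz
  have hall := coeff_eq_zero h.exists_sub_mem hgen (h.1 1) (c₀ := 0) (c₁ := α) (c₂ := β) (by
    rw [map_zero, zero_add]; exact hz2)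
  rcases hnz with h | h
  · exact h hall.2.1
  · exact h hall.2.2

end

end Groth.Agent.NodeFam
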